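import Cfsg.Agent.Lib.KnownSimple.SUClassBound.Classes

/-!
# The adjoint with respect to a symmetric or alternating form
-/

set_option autoImplicit false

namespace CfsgLib.CClassBound

open Polynomial Matrix CfsgLib.Classical CfsgLib.Classical.SUSemisimple CfsgLib.SLBound CfsgLib.GLClassBound

universe u

variable {F : Type u} [Field F] {n : ℕ}

/-- The bilinear form with Gram matrix `B`. -/
def bil (B : Matrix (Fin n) (Fin n) F) (u v : Fin n → F) : F := u ⬝ᵥ (B *ᵥ v)

/-- The adjoint with respect to `B`, whose inverse is `Bi`. -/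
def adj (B Bi x : Matrix (Fin n) (Fin n) F) : Matrix (Fin n) (Fin n) F := Bi * xᵀ * B

/-- The isometry group of `B`. -/
def isoGrp (B : Matrix (Fin n) (Fin n) F) : Subgroup (GL (Fin n) F) where
  carrier := {g | (g : Matrix (Fin n) (Fin n) F)ᵀ * B * (g : Matrix (Fin n) (Fin n) F) = B}
  one_mem' := by simp
  mul_mem' := fun {a b} ha hb => by
    show ((a * b : GL (Fin n) F) : Matrix (Fin n) (Fin n) F)ᵀ * B * _ = B
    rw [Units.val_mul, transpose_mul]
    calc _ = (b : Matrix (Fin n) (Fin n) F)ᵀ * ((a : Matrix (Fin n) (Fin n) F)ᵀ * B * a) * b := by simp only [Matrix.mul_assoc]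
      _ = B := by rw [ha]; exact hb
  inv_mem' := fun {a} ha => by
    show ((a⁻¹ : GL (Fin n) F) : Matrix (Fin n) (Fin n) F)ᵀ * B * _ = B
    conv_lhs => rw [← ha]
    simp only [← Matrix.mul_assoc]
    rw [← transpose_mul, Units.mul_inv, transpose_one, Matrix.one_mul, Matrix.mul_assoc, Units.mul_inv, Matrix.mul_one]

/-- The sign data of a form. -/
structure FormData (F : Type u) [Field F] (n : ℕ) where
  B : Matrix (Fin n) (Fin n) F
  Bi : Matrix (Fin n) (Fin n) F
  ε : F
  mul_inv : B * Bi = 1
  sym : Bᵀ = ε • B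
  eps_sq : ε * ε = 1
  two_ne : (2 : F) ≠ 0

namespace FormData

variable (D : FormData F n)

theorem inv_mul : D.Bi * D.B = 1 := mul_eq_one_comm.1 D.mul_inv

/-- The adjoint. -/
abbrev star (x : Matrix (Fin n) (Fin n) F) : Matrix (Fin n) (Fin n) F := adj D.B D.Bi x

theorem star_mul (x y : Matrix (Fin n) (Fin n) F) : D.star (x * y) = D.star y * D.star x := by
  simp only [star, adj, transpose_mul]
  calc D.Bi * (yᵀ * xᵀ) * D.B = D.Bi * yᵀ * (D.B * D.Bi) * xᵀ * D.B := by
        rw [D.mul_inv, Matrix.mul_one]; simp only [Matrix.mul_assoc]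
    _ = _ := by simp only [Matrix.mul_assoc]

theorem star_one : D.star 1 = 1 := by simp only [star, adj, transpose_one, Matrix.mul_one, D.inv_mul]

theorem star_add (x y : Matrix (Fin n) (Fin n) F) : D.star (x + y) = D.star x + D.star y := by
  simp only [star, adj, transpose_add, Matrix.mul_add, Matrix.add_mul]

theorem star_sub (x y : Matrix (Fin n) (Fin n) F) : D.star (x - y) = D.star x - D.star y := by
  simp only [star, adj, transpose_sub, Matrix.mul_sub, Matrix.sub_mul]

theorem star_scal (c : F) : D.star (algebraMap F _ c) = algebraMap F (Matrix (Fin n) (Fin n) F) c := by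
  simp only [star, adj, Algebra.algebraMap_eq_smul_one, transpose_smul, transpose_one, Matrix.mul_smul,
    Matrix.smul_mul, Matrix.mul_one, D.inv_mul]

theorem star_star (x : Matrix (Fin n) (Fin n) F) : D.star (D.star x) = x := by
  simp only [star, adj, transpose_mul, transpose_transpose]
  have hBi : D.Biᵀ = D.ε • D.Bi := by
    refine left_inv_eq_right_inv (a := D.Bᵀ) ?_ ?_
    · rw [← transpose_mul, D.mul_inv, transpose_one]
    · rw [D.sym, Matrix.smul_mul, Matrix.mul_smul, smul_smul, D.eps_sq, one_smul, D.mul_inv]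
  rw [D.sym, hBi]
  simp only [Matrix.smul_mul, Matrix.mul_smul, smul_smul, D.eps_sq, one_smul]
  calc D.Bi * (D.B * (x * D.Bi)) * D.B = (D.Bi * D.B) * x * (D.Bi * D.B) := by simp only [Matrix.mul_assoc]
    _ = x := by rw [D.inv_mul, Matrix.one_mul, Matrix.mul_one]

theorem star_pow (x : Matrix (Fin n) (Fin n) F) (k : ℕ) : D.star (x ^ k) = D.star x ^ k := by
  induction k with
  | zero => rw [pow_zero, pow_zero, D.star_one]
  | succ k ih => rw [pow_succ, D.star_mul, ih, pow_succ']

theorem star_aeval (G : Matrix (Fin n) (Fin n) F) (P : F[X]) : D.star (aeval G P) = aeval (D.star G) P := by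
  induction P using Polynomial.induction_on' with
  | add P Q hP hQ => rw [map_add, D.star_add, hP, hQ, map_add]
  | monomial i a => rw [aeval_monomial, aeval_monomial, D.star_mul, D.star_scal, D.star_pow, Algebra.commutes]

theorem det_star (x : Matrix (Fin n) (Fin n) F) : (D.star x).det = x.det := by
  simp only [star, adj, det_mul, det_transpose]
  rw [mul_comm D.Bi.det, mul_assoc, ← det_mul, D.inv_mul, det_one, mul_one]

theorem rank_star (x : Matrix (Fin n) (Fin n) F) : (D.star x).rank = x.rank := by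
  simp only [star, adj]
  rw [rank_mul_eq_left_of_isUnit_det _ _ ((Matrix.isUnit_iff_isUnit_det _).1 (IsUnit.of_mul_eq_one _ D.mul_inv)),
    rank_mul_eq_right_of_isUnit_det _ _ ((Matrix.isUnit_iff_isUnit_det _).1 (IsUnit.of_mul_eq_one _ D.inv_mul)), rank_transpose]

theorem bil_star (x : Matrix (Fin n) (Fin n) F) (u v : Fin n → F) :
    bil D.B (x *ᵥ u) v = bil D.B u (D.star x *ᵥ v) := by
  simp only [bil, star, adj]
  rw [mulVec_mulVec, ← Matrix.mul_assoc, ← Matrix.mul_assoc, D.mul_inv, Matrix.one_mul, ← mulVec_mulVec,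
    dotProduct_mulVec u, vecMul_transpose]

theorem bil_comm (u v : Fin n → F) : bil D.B v u = D.ε * bil D.B u v := by
  simp only [bil]
  rw [dotProduct_mulVec, ← Matrix.mulVec_transpose, D.sym, smul_mulVec, smul_dotProduct, smul_eq_mul, dotProduct_comm]

theorem bil_nondeg {v : Fin n → F} (h : ∀ u, bil D.B u v = 0) : v = 0 := by
  have h1 : D.B *ᵥ v = 0 := funext fun i => by
    have := h (Pi.single i 1)
    simpa [bil, single_dotProduct] using this
  rw [← one_mulVec v, ← D.inv_mul, ← mulVec_mulVec, h1, mulVec_zero]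

theorem mem_isoGrp_iff (g : GL (Fin n) F) :
    g ∈ isoGrp D.B ↔ D.star (g : Matrix (Fin n) (Fin n) F) * (g : Matrix (Fin n) (Fin n) F) = 1 := by
  simp only [star, adj]
  constructor
  · intro h
    rw [Matrix.mul_assoc D.Bi, Matrix.mul_assoc D.Bi, h, D.inv_mul]
  · intro h
    have h1 := congrArg (fun t => D.B * t) h
    simp only [← Matrix.mul_assoc] at h1
    rw [D.mul_inv, Matrix.one_mul, Matrix.mul_one] at h1
    exact h1

/-- The orthogonal complement of a kernel is the image of the adjoint. -/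
theorem mem_range_star {A : Matrix (Fin n) (Fin n) F} {u : Fin n → F}
    (h : ∀ v, A *ᵥ v = 0 → bil D.B u v = 0) : ∃ w, D.star A *ᵥ w = u := by
  classical
  by_contra hc
  have hnot : u ∉ LinearMap.range (Matrix.toLin' (D.star A)) := fun ⟨w, hw⟩ => hc ⟨w, by rwa [Matrix.toLin'_apply] at hw⟩
  obtain ⟨φ, hφ, hφ0⟩ := Submodule.exists_dual_map_eq_bot_of_notMem hnot inferInstance
  obtain ⟨x, hx⟩ : ∃ x : Fin n → F, ∀ y, φ y = y ⬝ᵥ x := by
    refine ⟨fun i => φ (Pi.single i 1), fun y => ?_⟩
    conv_lhs => rw [pi_eq_sum_univ' y]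
    simp [dotProduct, map_sum]
  have hv : ∀ y, bil D.B y (D.Bi *ᵥ x) = φ y := fun y => by
    rw [hx, bil, mulVec_mulVec, D.mul_inv, one_mulVec]
  refine hφ ((hv u).symm.trans (h _ (D.bil_nondeg fun z => ?_)))
  have h1 : φ (D.star A *ᵥ z) ∈ (LinearMap.range (Matrix.toLin' (D.star A))).map φ :=
    Submodule.mem_map_of_mem ⟨z, Matrix.toLin'_apply _ _⟩
  rw [hφ0, Submodule.mem_bot, ← hv, D.bil_star, D.star_star] at h1
  exact h1

theorem aeval_reflect' {G G' : Matrix (Fin n) (Fin n) F} (h : G * G' = 1) (N : ℕ) (p : F[X])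
    (hp : p.natDegree ≤ N) : aeval G (reflect N p) = G ^ N * aeval G' p := by
  revert p
  refine Polynomial.induction_with_natDegree_le _ N ?_ ?_ ?_
  · simp
  · intro m r _ hm
    rw [reflect_C_mul_X_pow, revAt_le hm]
    simp only [map_mul, map_pow, aeval_C, aeval_X]
    rw [Algebra.commutes r (G' ^ m), ← mul_assoc (G ^ N)]
    conv_rhs => rw [show G ^ N = G ^ (N - m) * G ^ m by rw [← pow_add, Nat.sub_add_cancel hm]]
    have h1 : G ^ m * G' ^ m = 1 := by
      rw [← (show Commute G G' from h.trans (mul_eq_one_comm.1 h).symm).mul_pow, h, one_pow]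
    rw [mul_assoc (G ^ (N - m)), h1, mul_one, Algebra.commutes]
  · intro a b _ _ ha hb
    rw [reflect_add, map_add, map_add, ha, hb, mul_add]

theorem star_aeval_eq {G : Matrix (Fin n) (Fin n) F} (hG : D.star G * G = 1) {P : F[X]} (h0 : P.coeff 0 ≠ 0) :
    D.star (aeval G P) = P.coeff 0 • (D.star G ^ P.natDegree * aeval G (dualPoly (RingHom.id F) P)) := by
  have hG' : G * D.star G = 1 := mul_eq_one_comm.1 hG
  have h := aeval_reflect' hG' P.natDegree P le_rfl
  rw [← D.star_aeval] at h
  rw [dualPoly, Polynomial.map_id, RingHom.id_apply, map_mul, aeval_C, Polynomial.reverse, h,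
    ← mul_assoc (algebraMap F _ _), Algebra.commutes (P.coeff 0)⁻¹ (G ^ P.natDegree), ← mul_assoc, ← mul_assoc,
    ← (show Commute (D.star G) G from hG.trans hG'.symm).mul_pow, hG, one_pow, one_mul, ← Algebra.smul_def, smul_smul,
    mul_inv_cancel₀ h0, one_smul]

end FormData

/-- The dual polynomial with respect to the identity. -/
noncomputable abbrev dual (P : F[X]) : F[X] := dualPoly (RingHom.id F) P

theorem dual_dual {P : F[X]} (hP : P.Monic) (h0 : P.coeff 0 ≠ 0) : dual (dual P) = P :=
  dualPoly_dualPoly (RingHom.id F) (fun _ => rfl) hP h0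

theorem dual_coeff_zero {P : F[X]} (hP : P.Monic) (h0 : P.coeff 0 ≠ 0) :
    (dual P).coeff 0 ≠ 0 := by
  rw [dual, coeff_dualPoly _ (Nat.zero_le _), Nat.sub_zero, hP.coeff_natDegree, map_one, mul_one]
  exact inv_ne_zero h0

theorem dual_irreducible {P : F[X]} (hP : P.Monic) (hirr : Irreducible P) (h0 : P.coeff 0 ≠ 0) :
    Irreducible (dual P) := by
  refine ⟨fun hu => ?_, fun a b hab => ?_⟩
  · have := natDegree_eq_zero_of_isUnit hu
    rw [natDegree_dualPoly _ h0] at this
    exact hirr.natDegree_pos.ne' this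
  · have e : P = dual a * dual b := by
      rw [dual, dual, ← dualPoly_mul, ← hab]
      exact (dual_dual hP h0).symm
    have h00 := dual_coeff_zero hP h0
    rw [hab, mul_coeff_zero] at h00
    have hunit : ∀ c : F[X], c.coeff 0 ≠ 0 → IsUnit (dual c) → IsUnit c := fun c hc hu => by
      refine isUnit_iff_degree_eq_zero.2 ?_
      have := natDegree_eq_zero_of_isUnit hu
      rw [natDegree_dualPoly _ hc] at this
      rw [degree_eq_natDegree (fun h => hc (by rw [h, coeff_zero])), this, Nat.cast_zero]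
    rcases hirr.isUnit_or_isUnit e with h | h
    · exact Or.inl (hunit a (left_ne_zero_of_mul h00) h)
    · exact Or.inr (hunit b (right_ne_zero_of_mul h00) h)

theorem ptype_dual (D : FormData F n) (g : GL (Fin n) F) (hg : g ∈ isoGrp D.B) :
    (ptype g).map (fun x => (dual x.1, x.2)) = ptype g := by
  classical
  have hgood := ptype_good g
  have hG := (D.mem_isoGrp_iff g).1 hg
  have hgood' : GoodType n ((ptype g).map fun x => (dual x.1, x.2)) := by
    refine ⟨fun x hx => ?_, ?_⟩
    · obtain ⟨y, hy, rfl⟩ := Multiset.mem_map.1 hx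
      obtain ⟨h1, h2, h3, h4⟩ := hgood.1 y hy
      exact ⟨monic_dualPoly _ h3, dual_irreducible h1 h2 h3, dual_coeff_zero h1 h3, h4⟩
    · rw [Multiset.map_map]
      exact (congrArg Multiset.sum (Multiset.map_congr rfl fun y hy => by
        simp only [Function.comp_apply, natDegree_dualPoly _ (hgood.1 y hy).2.2.1])).trans hgood.2
  refine (good_ext hgood hgood' fun P hP hirr k => ?_).symm
  rw [typeRank, typeRank, Multiset.map_map]
  rcases eq_or_ne (P.coeff 0) 0 with h0 | h0
  · refine congrArg Multiset.sum (Multiset.map_congr rfl fun y hy => ?_)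
    have h3 := (hgood.1 y hy).2.2.1
    simp only [Function.comp_apply, natDegree_dualPoly _ h3]
    rw [if_neg (fun e : y.1 = P => h3 (by rw [e, h0])),
      if_neg (fun e : dual y.1 = P => dual_coeff_zero (hgood.1 y hy).1 h3 (by rw [e]; exact h0))]
  have hrank : rankOf (g : Matrix (Fin n) (Fin n) F) P k = rankOf (g : Matrix (Fin n) (Fin n) F) (dual P) k := by
    have e : ∀ M : Matrix (Fin n) (Fin n) F, Module.finrank F (LinearMap.range (Matrix.toLin' M)) = M.rank :=
      fun M => by rw [Matrix.toLin'_apply']; rfl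
    rw [rankOf, rankOf, e, e, ← map_pow, ← map_pow]
    have h00 : (P ^ k).coeff 0 ≠ 0 := by
      rw [coeff_zero_eq_eval_zero, eval_pow, ← coeff_zero_eq_eval_zero]; exact pow_ne_zero _ h0
    have hd : ∀ j : ℕ, dual (P ^ j) = dual P ^ j := fun j => by
      induction j with
      | zero => simp [dual, dualPoly, show (1 : F[X]).reverse = 1 by rw [← C_1, reverse_C]]
      | succ j ih => rw [pow_succ, pow_succ, dual, dualPoly_mul, ← dual, ← dual, ih]
    rw [← D.rank_star, D.star_aeval_eq hG h00, ← dual, hd, ← Matrix.smul_mul, Matrix.rank_mul_eq_right_of_isUnit_det]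
    rw [Matrix.det_smul, Matrix.det_pow]
    refine ((isUnit_iff_ne_zero.2 h00).pow _).mul ((?_ : IsUnit _).pow _)
    exact (Matrix.isUnit_iff_isUnit_det _).1 (IsUnit.of_mul_eq_one _ hG)
  have := hrank
  rw [rankOf_eq (ptype_spec g) hP hirr, rankOf_eq (ptype_spec g) (monic_dualPoly _ h0) (dual_irreducible hP hirr h0),
    typeRank, typeRank] at this
  refine this.trans ?_
  refine congrArg Multiset.sum (Multiset.map_congr rfl fun y hy => ?_)
  obtain ⟨h1, -, h3, -⟩ := hgood.1 y hy
  simp only [Function.comp_apply, natDegree_dualPoly _ h3]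
  refine congrArg (fun t => y.1.natDegree * (y.2 - t)) (if_congr ⟨fun e => ?_, fun e => ?_⟩ rfl rfl)
  · rw [e]; exact dual_dual hP h0
  · rw [← e]; exact (dual_dual h1 h3).symm

theorem isSD_partProd (D : FormData F n) (g : GL (Fin n) F) (hg : g ∈ isoGrp D.B) (s : ℕ) :
    (partProd (ptype g) s).Monic ∧ (partProd (ptype g) s).coeff 0 ≠ 0 ∧
      dual (partProd (ptype g) s) = partProd (ptype g) s := by
  refine ⟨(partProd_spec (ptype_good g) s).1, (partProd_spec (ptype_good g) s).2.1, ?_⟩
  have hprod : ∀ t : Multiset F[X], dual t.prod = (t.map dual).prod := fun t => by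
    induction t using Multiset.induction with
    | empty => simp [dual, dualPoly, show (1 : F[X]).reverse = 1 by rw [← C_1, reverse_C]]
    | cons a t ih => rw [Multiset.prod_cons, dual, dualPoly_mul, ← dual, ← dual, ih, Multiset.map_cons, Multiset.prod_cons]
  rw [partProd, hprod]
  conv_rhs => rw [← ptype_dual D g hg]
  rw [Multiset.filter_map, Multiset.map_map, Multiset.map_map]
  rfl

end CfsgLib.CClassBound
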