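import Cfsg.Agent.Lib.KnownSimple.ClassicalClassBound.Series

/-!
# Upper bounds for the number of classes
-/

set_option autoImplicit false

namespace CfsgLib.CClassBound

open Polynomial

universe u

variable {F : Type u} [Field F]

attribute [local instance] _root_.Classical.propDecidable

/-- The weight of a part. -/
noncomputable def partWt (sym : Bool) (P : F[X]) : ℕ :=
  bif sym then 2 ^ ((if X - C (1 : F) ∣ P then 1 else 0) + if X - C (-1 : F) ∣ P then 1 else 0)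
  else if ∀ r : F, r * r = 1 → Even (P.rootMultiplicity r) then 1 else 0

/-- The parity of the layers with symmetric forms. -/
noncomputable def symB (ε : F) (j : ℕ) : Bool := decide (ε * (-1) ^ j = 1)

variable [Fintype F]

theorem sum_fiber_deg (f : F[X] → ℝ) (x : ℝ) (N : ℕ) (num : ℕ → ℝ) (hx : 0 ≤ x)
    (h : ∀ d, ∑ P ∈ (sdBox N).filter (fun P => P.natDegree = d), f P ≤ num d) :
    ∑ P ∈ sdBox N, f P * x ^ P.natDegree ≤ ∑ d ∈ Finset.range (N + 1), num d * x ^ d := by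
  rw [← Finset.sum_fiberwise_of_maps_to (g := fun P : F[X] => P.natDegree) (t := Finset.range (N + 1))
    fun P hP => Finset.mem_range.2 (Nat.lt_succ_of_le (mem_sdBox.1 hP).2)]
  refine Finset.sum_le_sum fun d _ => ?_
  rw [Finset.sum_congr rfl (g := fun P => f P * x ^ d) (fun P hP => by rw [(Finset.mem_filter.1 hP).2]), ← Finset.sum_mul]
  exact mul_le_mul_of_nonneg_right (h d) (pow_nonneg hx d)

theorem deg_partWt_le (h2 : (2 : F) ≠ 0) (sym : Bool) (N d : ℕ) :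
    ∑ P ∈ (sdBox N).filter (fun P : F[X] => P.natDegree = d), (partWt sym P : ℝ) ≤
      ((bif sym then symNum (Fintype.card F) d else altNum (Fintype.card F) d : ℕ) : ℝ) := by
  rw [← Nat.cast_sum, Nat.cast_le]
  have hs : ∀ P ∈ (sdBox N).filter (fun P : F[X] => P.natDegree = d), IsSD P ∧ P.natDegree = d := fun P hP =>
    ⟨(mem_sdBox.1 (Finset.mem_filter.1 hP).1).1, (Finset.mem_filter.1 hP).2⟩
  cases sym
  · simp only [partWt, cond_false]
    refine le_trans (le_of_eq ?_) (card_alt_le h2 d (((sdBox N).filter (fun P : F[X] => P.natDegree = d)).filter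
      fun P : F[X] => ∀ r : F, r * r = 1 → Even (P.rootMultiplicity r)) fun P hP =>
      ⟨(hs P (Finset.mem_filter.1 hP).1).1, (hs P (Finset.mem_filter.1 hP).1).2, (Finset.mem_filter.1 hP).2⟩)
    rw [Finset.card_eq_sum_ones, Finset.sum_filter]
    rw [Finset.sum_filter, Finset.sum_filter]
    congr!
  · simp only [partWt, cond_true]
    exact sum_sym_le h2 d _ hs

theorem sum_part_le (h2 : (2 : F) ≠ 0) (sym : Bool) (N : ℕ) {r : ℝ} (hr0 : 0 ≤ r)
    (hqr : (Fintype.card F : ℝ) * r ^ 2 = 1) (hr : r ^ 2 ≤ 1 / 3) {e : ℕ} (he : 2 ≤ e) :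
    ∑ P ∈ sdBox (F := F) N, (partWt sym P : ℝ) * (r ^ e) ^ P.natDegree ≤ efac sym r e := by
  refine (sum_fiber_deg (fun P => (partWt sym P : ℝ)) (r ^ e) N _ (pow_nonneg hr0 e) (deg_partWt_le h2 sym N)).trans ?_
  rw [efac, ← scaled_sq hqr he]
  have hy : (Fintype.card F : ℝ) * (r ^ e) ^ 2 < 1 := by
    rw [scaled_sq hqr he]; exact pow_r_lt_one hr0 hr (by omega)
  cases sym <;> simp only [cond_true, cond_false]
  · exact sum_altNum_le (pow_nonneg hr0 e) hy _
  · exact sum_symNum_le (pow_nonneg hr0 e) hy _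

theorem sum_tuples_decomp {n : ℕ} (w : Fin (n + 1) → F[X] → ℝ) (hw : ∀ j P, 0 ≤ w j P) (x : ℝ) (hx : 0 ≤ x)
    (c : (Fin n → F[X]) → ℝ) (hc : ∀ t, 0 ≤ c t)
    (h0 : ∀ t : Fin n → F[X], (∑ j : Fin n, ((j : ℕ) + 2) * (t j).natDegree) ≤ n + 1 →
      (∑ P ∈ (sdBox (n + 1)).filter (fun P : F[X] => P.natDegree = n + 1 - ∑ j : Fin n, ((j : ℕ) + 2) * (t j).natDegree), w 0 P) *
        x ^ (n + 1 - ∑ j : Fin n, ((j : ℕ) + 2) * (t j).natDegree) ≤ c t) :
    x ^ (n + 1) * ∑ h ∈ (Fintype.piFinset fun _ : Fin (n + 1) => sdBox (n + 1)).filter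
        (fun h => ∑ j : Fin (n + 1), ((j : ℕ) + 1) * (h j).natDegree = n + 1), ∏ j, w j (h j) ≤
      ∑ t ∈ Fintype.piFinset (fun _ : Fin n => sdBox (F := F) (n + 1)),
        c t * ∏ j : Fin n, w j.succ (t j) * (x ^ ((j : ℕ) + 2)) ^ (t j).natDegree := by
  have hWdef : ∀ h : Fin (n + 1) → F[X], (∑ j : Fin (n + 1), ((j : ℕ) + 1) * (h j).natDegree) =
      (h 0).natDegree + ∑ j : Fin n, ((j : ℕ) + 2) * (Fin.tail h j).natDegree := fun h => by
    rw [Fin.sum_univ_succ]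
    simp [Fin.tail, Nat.add_assoc]
  obtain ⟨wt, hwt⟩ : ∃ wt : (Fin n → F[X]) → ℕ, ∀ t, wt t = ∑ j : Fin n, ((j : ℕ) + 2) * (t j).natDegree := ⟨_, fun _ => rfl⟩
  have e : ∑ h ∈ (Fintype.piFinset fun _ : Fin (n + 1) => sdBox (n + 1)).filter
        (fun h => ∑ j : Fin (n + 1), ((j : ℕ) + 1) * (h j).natDegree = n + 1), ∏ j, w j (h j) =
      ∑ p ∈ (Fintype.piFinset fun _ : Fin n => sdBox (n + 1)).sigma
        (fun t => (sdBox (n + 1)).filter fun P : F[X] => P.natDegree + wt t = n + 1),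
        w 0 p.2 * ∏ j : Fin n, w j.succ (p.1 j) := by
    refine Finset.sum_bij' (fun h _ => (⟨Fin.tail h, h 0⟩ : Σ _ : Fin n → F[X], F[X])) (fun p _ => Fin.cons p.2 p.1)
      ?_ ?_ ?_ ?_ ?_
    · intro h hh
      rw [Finset.mem_filter, Fintype.mem_piFinset, hWdef] at hh
      rw [Finset.mem_sigma, Fintype.mem_piFinset, Finset.mem_filter, hwt]
      exact ⟨fun j => hh.1 j.succ, hh.1 0, hh.2⟩
    · intro p hp
      rw [Finset.mem_sigma, Fintype.mem_piFinset, Finset.mem_filter, hwt] at hp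
      rw [Finset.mem_filter, Fintype.mem_piFinset, hWdef, Fin.tail_cons, Fin.cons_zero]
      exact ⟨Fin.cases (by rw [Fin.cons_zero]; exact hp.2.1) (fun j => by rw [Fin.cons_succ]; exact hp.1 j), hp.2.2⟩
    · intro h _; exact Fin.cons_self_tail h
    · intro p _; simp
    · intro h _
      rw [Fin.prod_univ_succ]
      rfl
  rw [e, Finset.sum_sigma, Finset.mul_sum]
  have hle : ∀ t ∈ Fintype.piFinset (fun _ : Fin n => sdBox (F := F) (n + 1)),
      x ^ (n + 1) * ∑ P ∈ (sdBox (n + 1)).filter (fun P : F[X] => P.natDegree + wt t = n + 1),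
        w 0 P * ∏ j : Fin n, w j.succ (t j) ≤ c t * ∏ j : Fin n, w j.succ (t j) * (x ^ ((j : ℕ) + 2)) ^ (t j).natDegree := by
    intro t _
    rw [Finset.prod_mul_distrib, Finset.prod_congr rfl (fun (j : Fin n) _ => (pow_mul x ((j : ℕ) + 2) (t j).natDegree).symm),
      Finset.prod_pow_eq_pow_sum, ← hwt, ← Finset.sum_mul]
    have hP : 0 ≤ ∏ j : Fin n, w j.succ (t j) := Finset.prod_nonneg fun j _ => hw _ _
    rcases Nat.lt_or_ge (n + 1) (wt t) with hlt | hge
    · rw [Finset.filter_eq_empty_iff.2 (fun P _ h => by omega), Finset.sum_empty, zero_mul, mul_zero]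
      exact mul_nonneg (hc t) (mul_nonneg hP (pow_nonneg hx _))
    · rw [Finset.filter_congr (q := fun P : F[X] => P.natDegree = n + 1 - wt t) (fun P _ => by omega)]
      have e1 : x ^ (n + 1) = x ^ (n + 1 - wt t) * x ^ wt t := by rw [← pow_add, Nat.sub_add_cancel hge]
      rw [e1]
      calc _ = ((∑ P ∈ (sdBox (n + 1)).filter (fun P : F[X] => P.natDegree = n + 1 - wt t), w 0 P) * x ^ (n + 1 - wt t)) *
            ((∏ j : Fin n, w j.succ (t j)) * x ^ wt t) := by ring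
        _ ≤ _ := mul_le_mul_of_nonneg_right (by rw [hwt]; exact h0 t (hwt t ▸ hge)) (mul_nonneg hP (pow_nonneg hx _))
  exact Finset.sum_le_sum hle

theorem sum_tuples_le {n : ℕ} (w : Fin (n + 1) → F[X] → ℝ) (hw : ∀ j P, 0 ≤ w j P) (x : ℝ) (hx : 0 ≤ x) (c : ℝ)
    (hc : 0 ≤ c) (B : Fin n → ℝ)
    (h0 : ∀ d, (∑ P ∈ (sdBox (n + 1)).filter (fun P : F[X] => P.natDegree = d), w 0 P) * x ^ d ≤ c)
    (hB : ∀ j : Fin n, ∑ P ∈ sdBox (n + 1), w j.succ P * (x ^ ((j : ℕ) + 2)) ^ P.natDegree ≤ B j) :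
    x ^ (n + 1) * ∑ h ∈ (Fintype.piFinset fun _ : Fin (n + 1) => sdBox (n + 1)).filter
        (fun h => ∑ j : Fin (n + 1), ((j : ℕ) + 1) * (h j).natDegree = n + 1), ∏ j, w j (h j) ≤
      c * ∏ j, B j := by
  refine (sum_tuples_decomp w hw x hx (fun _ => c) (fun _ => hc) fun t _ => h0 _).trans ?_
  rw [← Finset.mul_sum]
  refine mul_le_mul_of_nonneg_left ?_ hc
  rw [← Finset.prod_univ_sum (fun _ : Fin n => sdBox (n + 1)) fun j P => w j.succ P * (x ^ ((j : ℕ) + 2)) ^ P.natDegree]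
  exact Finset.prod_le_prod (fun j _ => Finset.sum_nonneg fun P _ => mul_nonneg (hw _ _) (by positivity)) fun j _ => hB j

theorem exists_r (h3 : 3 ≤ Fintype.card F) :
    ∃ r : ℝ, 0 ≤ r ∧ (Fintype.card F : ℝ) * r ^ 2 = 1 ∧ r ^ 2 ≤ 1 / 3 ∧ r ≤ 57736 / 100000 := by
  have hq : (3 : ℝ) ≤ Fintype.card F := by exact_mod_cast h3
  have h : Real.sqrt (1 / (Fintype.card F : ℝ)) ^ 2 = 1 / (Fintype.card F : ℝ) := Real.sq_sqrt (by positivity)
  have h' : (1 : ℝ) / Fintype.card F ≤ 1 / 3 := one_div_le_one_div_of_le (by norm_num) hq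
  refine ⟨Real.sqrt (1 / (Fintype.card F : ℝ)), Real.sqrt_nonneg _, by rw [h]; field_simp, h.le.trans h', ?_⟩
  nlinarith [Real.sqrt_nonneg (1 / (Fintype.card F : ℝ))]

theorem prod_succ_Icc (f : ℕ → ℝ) : ∀ N : ℕ, ∏ j : Fin N, f ((j : ℕ) + 2) = ∏ e ∈ Finset.Icc 2 (N + 1), f e
  | 0 => by simp
  | N + 1 => by
    rw [Fin.prod_univ_castSucc, Finset.prod_Icc_succ_top (by omega), ← prod_succ_Icc f N]
    rfl

theorem weight_eq {n : ℕ} (ε : F) (h : Fin n → F[X]) (hh : GoodTuple ε h) :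
    (∏ j : Fin n, (partWt (symB ε j) (h j) : ℝ)) = (2 : ℝ) ^ slots ε h := by
  rw [slots, ← Finset.prod_pow_eq_pow_sum]
  refine Finset.prod_congr rfl fun j _ => ?_
  by_cases hs : ε * (-1) ^ (j : ℕ) = 1
  · rw [if_pos hs, show symB ε j = true from decide_eq_true hs, partWt, cond_true]
    push_cast
    congr! 2
  · rw [if_neg hs, show symB ε j = false from decide_eq_false hs, partWt, cond_false, if_pos (hh.2 j hs)]
    simp

theorem even_mult_of_slots {n : ℕ} (ε : F) (h : Fin n → F[X]) (hh : GoodTuple ε h) (h0 : slots ε h = 0) :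
    (∏ j : Fin n, (partWt false (h j) : ℝ)) = 1 := by
  refine Finset.prod_eq_one fun j _ => ?_
  rw [partWt, cond_false, if_pos, Nat.cast_one]
  intro r hr
  by_cases hs : ε * (-1) ^ (j : ℕ) = 1
  · rw [slots, Finset.sum_eq_zero_iff] at h0
    have := h0 j (Finset.mem_univ _)
    rw [if_pos hs] at this
    simp only [Nat.add_eq_zero_iff, ite_eq_right_iff, one_ne_zero, imp_false] at this
    rw [rootMultiplicity_eq_zero (fun hroot => ?_)]
    · exact Even.zero
    rcases mul_self_eq_one_iff.1 hr with rfl | rfl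
    · exact this.1 (dvd_iff_isRoot.2 hroot)
    · exact this.2 (dvd_iff_isRoot.2 hroot)
  · exact hh.2 j hs r hr

theorem sum_slots_le (h2 : (2 : F) ≠ 0) (ε : F) {N : ℕ} {r : ℝ} (hr0 : 0 ≤ r)
    (hqr : (Fintype.card F : ℝ) * r ^ 2 = 1) (hr : r ^ 2 ≤ 1 / 3) (c : ℝ) (hc : 0 ≤ c)
    (h0 : ∀ d, ((bif symB ε 0 then symNum (Fintype.card F) d else altNum (Fintype.card F) d : ℕ) : ℝ) * r ^ d ≤ c) :
    r ^ (N + 1) * ∑ h ∈ tuples ε (N + 1), (2 : ℝ) ^ slots ε h ≤
      c * ∏ e ∈ Finset.Icc 2 (N + 1), efac (symB ε (e - 1)) r e ∧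
    r ^ (N + 1) * ∑ h ∈ tuples ε (N + 1), (if slots ε h = 0 then (1 : ℝ) else 0) ≤
      ∏ e ∈ Finset.Icc 2 (N + 1), efac false r e := by
  rw [← prod_succ_Icc (fun e => efac (symB ε (e - 1)) r e), ← prod_succ_Icc (fun e => efac false r e)]
  have hsub : ∀ h ∈ tuples ε (N + 1), h ∈ (Fintype.piFinset fun _ : Fin (N + 1) => sdBox (N + 1)).filter
      (fun h => ∑ j : Fin (N + 1), ((j : ℕ) + 1) * (h j).natDegree = N + 1) ∧ GoodTuple ε h := fun h hh => by
    rw [tuples, Finset.mem_filter] at hh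
    exact ⟨Finset.mem_filter.2 ⟨hh.1, hh.2.1⟩, hh.2⟩
  have hnn : ∀ s (P : F[X]), (0 : ℝ) ≤ partWt s P := fun s P => Nat.cast_nonneg _
  constructor
  · refine (mul_le_mul_of_nonneg_left ?_ (pow_nonneg hr0 _)).trans
      (sum_tuples_le (fun j P => (partWt (symB ε j) P : ℝ)) (fun j P => hnn _ P) r hr0 c hc _
        (fun d => le_trans (mul_le_mul_of_nonneg_right (deg_partWt_le h2 _ _ d) (pow_nonneg hr0 d)) (h0 d))
        fun j => sum_part_le h2 _ _ hr0 hqr hr (by omega))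
    rw [Finset.sum_congr rfl (fun h hh => (weight_eq ε h (hsub h hh).2).symm)]
    exact Finset.sum_le_sum_of_subset_of_nonneg (fun h hh => (hsub h hh).1)
      fun h _ _ => Finset.prod_nonneg fun j _ => hnn _ _
  · refine le_trans ?_ (le_of_eq (one_mul _))
    refine (mul_le_mul_of_nonneg_left ?_ (pow_nonneg hr0 _)).trans
      (sum_tuples_le (fun _ P => (partWt false P : ℝ)) (fun _ P => hnn _ P) r hr0 1 zero_le_one _
        (fun d => le_trans (mul_le_mul_of_nonneg_right (deg_partWt_le h2 _ _ d) (pow_nonneg hr0 d)) (coeff_alt_le hqr d))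
        fun j => sum_part_le h2 _ _ hr0 hqr hr (by omega))
    refine (Finset.sum_le_sum fun h hh => ?_).trans (Finset.sum_le_sum_of_subset_of_nonneg (fun h hh => (hsub h hh).1)
      fun h _ _ => Finset.prod_nonneg fun j _ => hnn _ _)
    split_ifs with hs
    · rw [even_mult_of_slots ε h (hsub h hh).2 hs]
    · exact Finset.prod_nonneg fun j _ => hnn _ _

theorem symB_eq {ε : F} (h2 : (2 : F) ≠ 0) (hε : ε = 1 ∨ ε = -1) {e : ℕ} (he : 1 ≤ e) :
    symB ε (e - 1) = decide ((ε = -1) ↔ Even e) := by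
  have hne : (-1 : F) ≠ 1 := fun h => h2 (by linear_combination -h)
  rw [symB, decide_eq_decide]
  obtain ⟨k, rfl⟩ : ∃ k, e = k + 1 := ⟨e - 1, by omega⟩
  rw [Nat.add_sub_cancel, Nat.even_add_one]
  rcases hε with rfl | rfl
  · rw [one_mul, neg_one_pow_eq_one_iff_even hne]
    exact ⟨fun hk => ⟨fun h => absurd h.symm hne, fun h => absurd hk h⟩, fun h => not_not.1 fun hk => hne (h.2 hk).symm⟩
  · rw [← pow_succ', neg_one_pow_eq_one_iff_even hne, Nat.even_add_one]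
    simp

variable (h2 : (2 : F) ≠ 0) (h3 : 3 ≤ Fintype.card F)
include h2 h3

theorem sp_sum_le (m : ℕ) (hm : 1 ≤ m) :
    5 * ∑ h ∈ tuples (-1 : F) (2 * m), 2 ^ slots (-1 : F) h ≤ 54 * Fintype.card F ^ m := by
  obtain ⟨r, hr0, hqr, hr, hρ⟩ := exists_r h3
  obtain ⟨N, hN⟩ : ∃ N, 2 * m = N + 1 := ⟨2 * m - 1, by omega⟩
  have hsym0 : symB (-1 : F) 0 = false := decide_eq_false fun h => h2 (by simp at h; linear_combination -h)
  obtain ⟨h1, -⟩ := sum_slots_le h2 (-1 : F) (N := N) hr0 hqr hr 1 zero_le_one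
    (fun d => by rw [hsym0, cond_false]; exact coeff_alt_le hqr d)
  rw [← hN] at h1
  have hprod : ∏ e ∈ Finset.Icc 2 (2 * m), efac (symB (-1 : F) (e - 1)) r e ≤ 54 / 5 := by
    rw [Finset.prod_congr rfl (g := fun e => efac (decide (Even e)) r e) (fun e he => by
      rw [symB_eq h2 (Or.inr rfl) (by rw [Finset.mem_Icc] at he; omega)]; simp)]
    refine (prod_efac_le hr0 hρ (by norm_num) (fun e => decide (Even e)) _ (by norm_num)).trans ?_
    simp [Finset.prod_Icc_succ_top, efac, Nat.even_add_one]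
    norm_num
  have hkey : r ^ (2 * m) * (∑ h ∈ tuples (-1 : F) (2 * m), (2 : ℝ) ^ slots (-1 : F) h) ≤ 54 / 5 := by linarith
  have hone : r ^ (2 * m) * (Fintype.card F : ℝ) ^ m = 1 := by rw [pow_mul, ← mul_pow, mul_comm, hqr, one_pow]
  have := mul_le_mul_of_nonneg_right hkey (show (0 : ℝ) ≤ (Fintype.card F : ℝ) ^ m by positivity)
  rw [mul_right_comm, hone, one_mul] at this
  have h' : ((5 * ∑ h ∈ tuples (-1 : F) (2 * m), 2 ^ slots (-1 : F) h : ℕ) : ℝ) ≤ ((54 * Fintype.card F ^ m : ℕ) : ℝ) := by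
    push_cast
    linarith
  exact_mod_cast h'

theorem o_sum_le (m : ℕ) (hm : 1 ≤ m) :
    ∑ h ∈ tuples (1 : F) (2 * m), (2 ^ slots (1 : F) h + if slots (1 : F) h = 0 then 1 else 0) ≤ 19 * Fintype.card F ^ m := by
  obtain ⟨r, hr0, hqr, hr, hρ⟩ := exists_r h3
  obtain ⟨N, hN⟩ : ∃ N, 2 * m = N + 1 := ⟨2 * m - 1, by omega⟩
  have hsym0 : symB (1 : F) 0 = true := decide_eq_true (by simp)
  obtain ⟨h1, h1'⟩ := sum_slots_le h2 (1 : F) (N := N) hr0 hqr hr (28 / 9) (by norm_num)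
    (fun d => by rw [hsym0, cond_true]; exact coeff_sym_le hr0 hqr hr d)
  rw [← hN] at h1 h1'
  have hprod : ∏ e ∈ Finset.Icc 2 (2 * m), efac (symB (1 : F) (e - 1)) r e ≤ 53 / 10 := by
    have hne : (1 : F) ≠ -1 := fun h => h2 (by linear_combination h)
    rw [Finset.prod_congr rfl (g := fun e => efac (decide (¬ Even e)) r e) (fun e he => by
      rw [symB_eq h2 (Or.inl rfl) (by rw [Finset.mem_Icc] at he; omega)]; simp [hne])]
    refine (prod_efac_le hr0 hρ (by norm_num) (fun e => decide (¬ Even e)) _ (by norm_num)).trans ?_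
    simp [Finset.prod_Icc_succ_top, efac, Nat.even_add_one]
    norm_num
  have hprod0 : ∏ e ∈ Finset.Icc 2 (2 * m), efac false r e ≤ 18 / 10 := by
    refine (prod_efac_le hr0 hρ (by norm_num) (fun _ => false) _ (by norm_num)).trans ?_
    simp [Finset.prod_Icc_succ_top, efac]
    norm_num
  have hkey : r ^ (2 * m) * (∑ h ∈ tuples (1 : F) (2 * m), ((2 : ℝ) ^ slots (1 : F) h + if slots (1 : F) h = 0 then 1 else 0)) ≤ 19 := by
    rw [Finset.sum_add_distrib, mul_add]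
    linarith
  have hone : r ^ (2 * m) * (Fintype.card F : ℝ) ^ m = 1 := by rw [pow_mul, ← mul_pow, mul_comm, hqr, one_pow]
  have := mul_le_mul_of_nonneg_right hkey (show (0 : ℝ) ≤ (Fintype.card F : ℝ) ^ m by positivity)
  rw [mul_right_comm, hone, one_mul] at this
  have h' : ((∑ h ∈ tuples (1 : F) (2 * m), (2 ^ slots (1 : F) h + if slots (1 : F) h = 0 then 1 else 0) : ℕ) : ℝ) ≤
      ((19 * Fintype.card F ^ m : ℕ) : ℝ) := by
    push_cast
    exact this
  exact_mod_cast h'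

end CfsgLib.CClassBound
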