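import Cfsg.Agent.Lib.KnownSimple.ClassicalClassBound.Orbit

/-!
# Classes of an isometry group and tuples of self-dual polynomials
-/

set_option autoImplicit false

namespace CfsgLib.CClassBound

open Polynomial Matrix CfsgLib.Classical CfsgLib.Classical.SUSemisimple CfsgLib.SLBound CfsgLib.GLClassBound

universe u

variable {F : Type u} [Field F] {n : ℕ}

/-- A self-dual monic polynomial. -/
def IsSD (P : F[X]) : Prop := P.Monic ∧ P.coeff 0 ≠ 0 ∧ dual P = P

theorem finite_sdPoly [Finite F] (N : ℕ) : Set.Finite {P : F[X] | IsSD P ∧ P.natDegree ≤ N} := by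
  have : Finite {P : F[X] // IsSD P ∧ P.natDegree ≤ N} := by
    refine Finite.of_injective (fun (P : {P : F[X] // IsSD P ∧ P.natDegree ≤ N}) (i : Fin (N + 1)) => P.1.coeff i)
      fun P Q h => Subtype.ext (Polynomial.ext fun i => ?_)
    rcases Nat.lt_or_ge i (N + 1) with hi | hi
    · exact congrFun h ⟨i, hi⟩
    · rw [coeff_eq_zero_of_natDegree_lt (by have := P.2.2; omega), coeff_eq_zero_of_natDegree_lt (by have := Q.2.2; omega)]
  exact Set.finite_coe_iff.1 this

/-- The self-dual polynomials of degree at most `N`. -/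
noncomputable def sdBox [Finite F] (N : ℕ) : Finset F[X] := (finite_sdPoly (F := F) N).toFinset

theorem mem_sdBox [Finite F] {N : ℕ} {P : F[X]} : P ∈ sdBox N ↔ IsSD P ∧ P.natDegree ≤ N := by
  rw [sdBox, Set.Finite.mem_toFinset]
  rfl

/-- The parities forced on the layers with an alternating form. -/
def GoodTuple (ε : F) (h : Fin n → F[X]) : Prop :=
  (∑ j : Fin n, ((j : ℕ) + 1) * (h j).natDegree = n) ∧
    ∀ j : Fin n, ε * (-1) ^ (j : ℕ) ≠ 1 → ∀ r : F, r * r = 1 → Even ((h j).rootMultiplicity r)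

/-- The candidate tuples. -/
noncomputable def tuples [Fintype F] (ε : F) (n : ℕ) : Finset (Fin n → F[X]) :=
  haveI := Classical.decPred (GoodTuple (n := n) ε)
  (Fintype.piFinset fun _ => sdBox n).filter (GoodTuple ε)

/-- The number of the symmetric layers of a tuple. -/
noncomputable def slots (ε : F) (h : Fin n → F[X]) : ℕ :=
  haveI := Classical.decEq F
  haveI := Classical.decPred fun P : F[X] => X - C (1 : F) ∣ P
  haveI := Classical.decPred fun P : F[X] => X - C (-1 : F) ∣ P
  ∑ j : Fin n, if ε * (-1) ^ (j : ℕ) = 1 then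
    (if X - C (1 : F) ∣ h j then 1 else 0) + (if X - C (-1 : F) ∣ h j then 1 else 0) else 0

/-- The tuple of an element. -/
noncomputable def tupleOf (g : GL (Fin n) F) : Fin n → F[X] := fun j => partProd (ptype g) ((j : ℕ) + 1)

theorem snd_le_n (g : GL (Fin n) F) : ∀ x ∈ ptype g, 0 < x.2 ∧ x.2 ≤ n := fun x hx =>
  ⟨((ptype_good g).1 x hx).2.2.2,
    (Nat.le_mul_of_pos_right _ ((ptype_good g).1 x hx).2.1.natDegree_pos).trans
      ((Multiset.le_sum_of_mem (Multiset.mem_map_of_mem (fun y : F[X] × ℕ => y.2 * y.1.natDegree) hx)).trans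
        (ptype_good g).2.le)⟩

theorem ptype_eq_of_tupleOf {g g' : GL (Fin n) F} (h : tupleOf g = tupleOf g') : ptype g = ptype g' :=
  eq_of_partProd (ptype_good g) (ptype_good g') (snd_le_n g) (snd_le_n g') (congrFun h)

theorem rootMultiplicity_prod [DecidableEq (F[X])] (r : F) : ∀ t : Multiset F[X], (∀ P ∈ t, P.Monic ∧ Irreducible P) →
    t.prod.rootMultiplicity r = t.count (X - C r) := by
  intro t
  induction t using Multiset.induction with
  | empty => simp [rootMultiplicity_eq_zero]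
  | cons a t ih =>
    intro ht
    obtain ⟨ha, hirr⟩ := ht a (Multiset.mem_cons_self _ _)
    have ht' : ∀ P ∈ t, P.Monic ∧ Irreducible P := fun P hP => ht P (Multiset.mem_cons_of_mem hP)
    have hm : t.prod.Monic := by simpa using monic_multiset_prod_of_monic t id fun P hP => (ht' P hP).1
    rw [Multiset.prod_cons, rootMultiplicity_mul (mul_ne_zero ha.ne_zero hm.ne_zero), ih ht', Multiset.count_cons, add_comm]
    refine congrArg (_ + ·) ?_
    split_ifs with he
    · rw [← he, rootMultiplicity_X_sub_C_self]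
    · refine rootMultiplicity_eq_zero fun hroot => he ?_
      exact (eq_of_monic_of_associated (monic_X_sub_C r) ha
        ((irreducible_X_sub_C r).associated_of_dvd hirr (dvd_iff_isRoot.2 hroot)))

variable [Fintype F] (D : FormData F n)

theorem card_idx (g : GL (Fin n) F) (M : BlockData (g : Matrix (Fin n) (Fin n) F))
    (hM : Finset.univ.val.map M.pe = ptype g) (r : F) (j : Fin n) :
    (tupleOf g j).rootMultiplicity r = Fintype.card (M.Idx (X - C r, (j : ℕ) + 1)) := by
  classical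
  rw [tupleOf, partProd, rootMultiplicity_prod r _ fun P hP => by
    obtain ⟨x, hx, rfl⟩ := Multiset.mem_map.1 hP
    exact ⟨((ptype_good g).1 x (Multiset.mem_of_mem_filter hx)).1, ((ptype_good g).1 x (Multiset.mem_of_mem_filter hx)).2.1⟩,
    Multiset.count_map, Multiset.filter_filter, ← hM, Multiset.filter_map, Multiset.card_map, Fintype.card_subtype,
    Finset.card_def, Finset.filter_val]
  refine congrArg Multiset.card (Multiset.filter_congr fun i _ => ?_)
  simp only [Function.comp_apply, Prod.ext_iff]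
  exact ⟨fun h => ⟨h.1.symm, h.2⟩, fun h => ⟨h.1.symm, h.2⟩⟩

theorem tupleOf_mem (g : GL (Fin n) F) (hg : g ∈ isoGrp D.B) : tupleOf g ∈ tuples D.ε n := by
  classical
  have hgood := ptype_good g
  have hsum : ∑ j : Fin n, ((j : ℕ) + 1) * (tupleOf g j).natDegree = n := by
    conv_rhs => rw [← hgood.2, ← sum_filter_snd _ n _ (snd_le_n g)]
    refine Finset.sum_congr rfl fun j _ => ?_
    rw [tupleOf, (partProd_spec hgood _).2.2.1, ← Multiset.sum_map_mul_left]
    exact congrArg Multiset.sum (Multiset.map_congr rfl fun y hy => by rw [(Multiset.mem_filter.1 hy).2])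
  rw [tuples, Finset.mem_filter, Fintype.mem_piFinset]
  refine ⟨fun j => mem_sdBox.2 ⟨isSD_partProd D g hg _, ?_⟩, hsum, fun j hj r hr => ?_⟩
  · exact (Nat.le_mul_of_pos_left _ (Nat.succ_pos _)).trans ((Finset.single_le_sum
      (f := fun j : Fin n => ((j : ℕ) + 1) * (tupleOf g j).natDegree) (fun _ _ => Nat.zero_le _) (Finset.mem_univ j)).trans hsum.le)
  · obtain ⟨M, hM⟩ := exists_blockData g
    rw [card_idx g M hM]
    have hG := (D.mem_isoGrp_iff g).1 hg
    have h1 : (1 : Matrix (Fin n) (Fin n) F) * (g : Matrix (Fin n) (Fin n) F) = g * 1 := by rw [one_mul, mul_one]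
    have hs := top_symm D M hG hr h1 D.star_one (j : ℕ)
    have hsq : (D.ε * (-1) ^ (j : ℕ)) * (D.ε * (-1) ^ (j : ℕ)) = 1 := by
      rw [mul_mul_mul_comm, D.eps_sq, ← mul_pow]; simp
    rw [(mul_self_eq_one_iff.1 hsq).resolve_left hj, neg_smul, one_smul] at hs
    exact even_card_of_alt D.two_ne hs (top_det_ne_zero D M hG hr h1 isUnit_one _)

theorem card_slot_le (g : GL (Fin n) F) (M : BlockData (g : Matrix (Fin n) (Fin n) F))
    (hM : Finset.univ.val.map M.pe = ptype g) : Nat.card (Slot D M) ≤ slots D.ε (tupleOf g) := by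
  classical
  haveI : Finite (Slot D M) := inferInstance
  let f : Slot D M → Σ j : Fin n, {r : F // r ∈ ({1, -1} : Finset F) ∧ D.ε * (-1) ^ (j : ℕ) = 1 ∧ X - C r ∣ tupleOf g j} :=
    fun x => ⟨x.1.2, x.1.1, by
      rcases mul_self_eq_one_iff.1 x.2.1 with h | h <;> simp [h], x.2.2.1, by
        rw [dvd_iff_isRoot]
        refine ((rootMultiplicity_pos ?_).1 ?_)
        · exact (partProd_spec (ptype_good g) _).1.ne_zero
        · rw [card_idx g M hM]; exact Fintype.card_pos_iff.2 x.2.2.2⟩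
  have hf : Function.Injective f := fun x y h => by
    have h1 := congrArg (fun t : Σ j : Fin n, {r : F // r ∈ ({1, -1} : Finset F) ∧ D.ε * (-1) ^ (j : ℕ) = 1 ∧ X - C r ∣ tupleOf g j} => (t.1, t.2.1)) h
    simp only [f, Prod.mk.injEq] at h1
    exact Subtype.ext (Prod.ext h1.2 h1.1)
  refine (Nat.card_le_card_of_injective f hf).trans (le_of_eq ?_)
  rw [Nat.card_sigma, slots]
  refine Finset.sum_congr rfl fun j _ => ?_
  have hne : (1 : F) ≠ -1 := fun e => D.two_ne (by linear_combination e)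
  rw [Nat.card_eq_fintype_card, Fintype.card_subtype, show (Finset.univ.filter fun r : F => r ∈ ({1, -1} : Finset F) ∧
      D.ε * (-1) ^ (j : ℕ) = 1 ∧ X - C r ∣ tupleOf g j) = ({1, -1} : Finset F).filter fun r : F =>
      D.ε * (-1) ^ (j : ℕ) = 1 ∧ X - C r ∣ tupleOf g j by ext; simp, Finset.card_filter,
    Finset.sum_pair hne]
  by_cases hj : D.ε * (-1) ^ (j : ℕ) = 1 <;> simp [hj]

theorem isSA_of_conj {g₀ g x : GL (Fin n) F} (h₀ : g₀ ∈ isoGrp D.B) (hg : g ∈ isoGrp D.B) (hx : x * g₀ = g * x) :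
    IsSA D (G := (g₀ : Matrix (Fin n) (Fin n) F)) (D.star (x : Matrix (Fin n) (Fin n) F) * x) := by
  refine ⟨?_, by rw [D.star_mul, D.star_star], ?_⟩
  · have hG₀ := mul_eq_one_comm.1 ((D.mem_isoGrp_iff g₀).1 h₀)
    have hG := (D.mem_isoGrp_iff g).1 hg
    have hxm : (x : Matrix (Fin n) (Fin n) F) * g₀ = g * x := congrArg Units.val hx
    have h1 := congrArg D.star hxm
    rw [D.star_mul, D.star_mul] at h1
    calc D.star (x : Matrix (Fin n) (Fin n) F) * x * g₀
        = ((g₀ : Matrix (Fin n) (Fin n) F) * D.star g₀) * (D.star x * ((x : Matrix (Fin n) (Fin n) F) * g₀)) := by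
          rw [hG₀, one_mul, mul_assoc]
      _ = (g₀ : Matrix (Fin n) (Fin n) F) * ((D.star g₀ * D.star x) * ((g : Matrix (Fin n) (Fin n) F) * x)) := by
          rw [hxm]; simp only [mul_assoc]
      _ = (g₀ : Matrix (Fin n) (Fin n) F) * (D.star x * ((D.star g * (g : Matrix (Fin n) (Fin n) F)) * x)) := by
          rw [h1]; simp only [mul_assoc]
      _ = _ := by rw [hG, one_mul]
  · exact ((Matrix.isUnit_iff_isUnit_det _).2 (by
      rw [D.det_star]; exact (Matrix.isUnit_iff_isUnit_det _).1 x.isUnit)).mul x.isUnit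

theorem isConj_of_congr {g₀ g g' x x' : GL (Fin n) F} (hg : g ∈ isoGrp D.B) (hg' : g' ∈ isoGrp D.B)
    (hx : x * g₀ = g * x) (hx' : x' * g₀ = g' * x') {w : Matrix (Fin n) (Fin n) F}
    (hw : w * (g₀ : Matrix (Fin n) (Fin n) F) = g₀ * w) (hwu : IsUnit w)
    (hww : D.star w * (D.star (x' : Matrix (Fin n) (Fin n) F) * x') * w = D.star (x : Matrix (Fin n) (Fin n) F) * x) :
    IsConj (⟨g, hg⟩ : isoGrp D.B) ⟨g', hg'⟩ := by
  obtain ⟨w, rfl⟩ := hwu
  have hu : x' * w * x⁻¹ ∈ isoGrp D.B := by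
    rw [D.mem_isoGrp_iff]
    simp only [Units.val_mul]
    rw [D.star_mul, D.star_mul]
    calc D.star ((x⁻¹ : GL (Fin n) F) : Matrix (Fin n) (Fin n) F) * (D.star (w : Matrix (Fin n) (Fin n) F) * D.star (x' : Matrix (Fin n) (Fin n) F)) * ((x' : Matrix (Fin n) (Fin n) F) * w * ((x⁻¹ : GL (Fin n) F) : Matrix (Fin n) (Fin n) F))
        = D.star ((x⁻¹ : GL (Fin n) F) : Matrix (Fin n) (Fin n) F) * (D.star (w : Matrix (Fin n) (Fin n) F) * (D.star (x' : Matrix (Fin n) (Fin n) F) * x') * w) * ((x⁻¹ : GL (Fin n) F) : Matrix (Fin n) (Fin n) F) := by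
          simp only [mul_assoc]
      _ = D.star ((x : Matrix (Fin n) (Fin n) F) * ((x⁻¹ : GL (Fin n) F) : Matrix (Fin n) (Fin n) F)) *
            ((x : Matrix (Fin n) (Fin n) F) * ((x⁻¹ : GL (Fin n) F) : Matrix (Fin n) (Fin n) F)) := by
          rw [hww, D.star_mul]; simp only [mul_assoc]
      _ = 1 := by rw [Units.mul_inv, mul_one, D.star_one]
  refine isConj_iff.2 ⟨⟨_, hu⟩, Subtype.ext ?_⟩
  show x' * w * x⁻¹ * g * (x' * w * x⁻¹)⁻¹ = g'
  have e1 : g = x * g₀ * x⁻¹ := by rw [hx, mul_inv_cancel_right]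
  have e2 : g' = x' * g₀ * x'⁻¹ := by rw [hx', mul_inv_cancel_right]
  have e3 : w * g₀ * w⁻¹ = g₀ := by
    rw [show w * g₀ = g₀ * w from Units.ext hw, mul_inv_cancel_right]
  calc _ = x' * (w * g₀ * w⁻¹) * x'⁻¹ := by rw [e1]; group
    _ = g' := by rw [e3, ← e2]

/-- The classes with a given tuple. -/
theorem card_fiber_le (h : Fin n → F[X]) :
    Nat.card {c : ConjClasses (isoGrp D.B) // tupleOf (c.exists_rep.choose : GL (Fin n) F) = h} ≤ 2 ^ slots D.ε h ∧
      (D.ε = 1 → 2 * Nat.card {c : ConjClasses (isoGrp D.B) // tupleOf (c.exists_rep.choose : GL (Fin n) F) = h} ≤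
        2 ^ slots D.ε h + if slots D.ε h = 0 then 1 else 0) := by
  classical
  rcases isEmpty_or_nonempty {c : ConjClasses (isoGrp D.B) // tupleOf (c.exists_rep.choose : GL (Fin n) F) = h} with he | ⟨⟨c₀, hc₀⟩⟩
  · simp
  obtain ⟨g₀, hg₀⟩ : ∃ g, g = (c₀.exists_rep.choose : GL (Fin n) F) := ⟨_, rfl⟩
  have h₀ : g₀ ∈ isoGrp D.B := hg₀ ▸ c₀.exists_rep.choose.2
  rw [← hg₀] at hc₀
  obtain ⟨M, hM⟩ := exists_blockData g₀
  have hG := (D.mem_isoGrp_iff g₀).1 h₀
  let rep : {c : ConjClasses (isoGrp D.B) // tupleOf (c.exists_rep.choose : GL (Fin n) F) = h} → isoGrp D.B :=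
    fun c => c.1.exists_rep.choose
  have hx : ∀ c, ∃ x : GL (Fin n) F, x * g₀ = (rep c : GL (Fin n) F) * x := fun c => by
    obtain ⟨x, hx⟩ := isConj_iff.1 (isConj_of_ptype_eq (ptype_eq_of_tupleOf (hc₀.trans c.2.symm)))
    exact ⟨x, by rw [← hx, inv_mul_cancel_right]⟩
  choose x hx using hx
  let Sof := fun c => D.star (x c : Matrix (Fin n) (Fin n) F) * (x c : Matrix (Fin n) (Fin n) F)
  have hSA : ∀ c, IsSA D (G := (g₀ : Matrix (Fin n) (Fin n) F)) (Sof c) := fun c =>
    isSA_of_conj D h₀ (rep c).2 (hx c)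
  have hinj : ∀ c c', (∀ s, disc D M (Sof c) s ↔ disc D M (Sof c') s) → c = c' := by
    intro c c' hcc
    obtain ⟨w, hw, hwu, hww⟩ := exists_congr_of_disc D M hG (hSA c) (hSA c') hcc
    refine Subtype.ext ?_
    have hconj := isConj_of_congr D (rep c).2 (rep c').2 (hx c) (hx c') hw hwu hww
    rw [← c.1.exists_rep.choose_spec, ← c'.1.exists_rep.choose_spec, ConjClasses.mk_eq_mk_iff_isConj]
    exact hconj
  have hs : Nat.card (Slot D M) ≤ slots D.ε h := hc₀ ▸ card_slot_le D g₀ M hM
  haveI : Fintype (Slot D M) := Fintype.ofFinite _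
  constructor
  · refine (Nat.card_le_card_of_injective (fun c s => decide (disc D M (Sof c) s)) fun c c' e => hinj c c' fun s => ?_).trans ?_
    · simpa using congrFun e s
    · rw [Nat.card_fun, Nat.card_eq_fintype_card, Fintype.card_bool]
      exact Nat.pow_le_pow_right two_pos hs
  · intro hε
    rcases isEmpty_or_nonempty (Slot D M) with he | ⟨⟨s₀⟩⟩
    · have h1 : Nat.card {c : ConjClasses (isoGrp D.B) // tupleOf (c.exists_rep.choose : GL (Fin n) F) = h} ≤ 1 :=
        Finite.card_le_one_iff_subsingleton.2 ⟨fun c c' => hinj c c' fun s => isEmptyElim s⟩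
      split_ifs with h0
      · rw [h0]; omega
      · have := Nat.pow_le_pow_right two_pos (show 1 ≤ slots D.ε h by omega)
        omega
    · have hdet : ∀ c, IsSquare (Sof c).det := fun c => ⟨_, by rw [det_mul, D.det_star]⟩
      have h1 := Nat.card_le_card_of_injective (fun c (s : {s : Slot D M // s ≠ s₀}) => decide (disc D M (Sof c) s.1))
        fun c c' e => hinj c c' fun s => by
          have hoff : ∀ s, s ≠ s₀ → (disc D M (Sof c) s ↔ disc D M (Sof c') s) := fun s hs => by
            simpa using congrFun e ⟨s, hs⟩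
          rcases eq_or_ne s s₀ with rfl | hne
          · exact disc_of_det D M hG hε (hSA c) (hSA c') (hdet c) (hdet c') s hoff
          · exact hoff s hne
      rw [Nat.card_fun, Nat.card_eq_fintype_card (α := Bool), Fintype.card_bool, Nat.card_eq_fintype_card
        (α := {s : Slot D M // s ≠ s₀}), Fintype.card_subtype_compl, Fintype.card_subtype_eq,
        ← Nat.card_eq_fintype_card] at h1
      haveI : Nonempty (Slot D M) := ⟨s₀⟩
      have hpos : 1 ≤ Nat.card (Slot D M) := Nat.card_pos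
      have h2 : 2 * 2 ^ (Nat.card (Slot D M) - 1) = 2 ^ Nat.card (Slot D M) := by
        rw [← pow_succ', Nat.sub_add_cancel hpos]
      have h3 := Nat.pow_le_pow_right two_pos hs
      omega

theorem card_classes_le_sum :
    Nat.card (ConjClasses (isoGrp D.B)) ≤ ∑ h ∈ tuples D.ε n, 2 ^ slots D.ε h ∧
      (D.ε = 1 → 2 * Nat.card (ConjClasses (isoGrp D.B)) ≤
        ∑ h ∈ tuples D.ε n, (2 ^ slots D.ε h + if slots D.ε h = 0 then 1 else 0)) := by
  classical
  letI := Fintype.ofFinite (ConjClasses (isoGrp D.B))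
  have e : Nat.card (ConjClasses (isoGrp D.B)) = ∑ h ∈ tuples D.ε n,
      Nat.card {c : ConjClasses (isoGrp D.B) // tupleOf (c.exists_rep.choose : GL (Fin n) F) = h} := by
    simp only [Nat.card_eq_fintype_card, Fintype.card_subtype]
    rw [← Finset.card_univ, Finset.card_eq_sum_card_fiberwise
      (f := fun c : ConjClasses (isoGrp D.B) => tupleOf (c.exists_rep.choose : GL (Fin n) F))
      (fun c _ => Finset.mem_coe.2 (tupleOf_mem D _ c.exists_rep.choose.2))]
  rw [e, Finset.mul_sum]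
  exact ⟨Finset.sum_le_sum fun h _ => (card_fiber_le D h).1,
    fun hε => Finset.sum_le_sum fun h _ => (card_fiber_le D h).2 hε⟩

end CfsgLib.CClassBound
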