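import Cfsg.Agent.Lib.KnownSimple.ClassicalClassBound.Tops

/-!
# Congruence of self-adjoint units with the same layer forms
-/

set_option autoImplicit false

namespace CfsgLib.CClassBound

open Polynomial Matrix CfsgLib.Classical

universe u

variable {F : Type u} [Field F] [Fintype F] {n : ℕ} (D : FormData F n) {G : Matrix (Fin n) (Fin n) F} (M : BlockData G)

omit [Fintype F] in
theorem ker_nilPow_le (r : F) (m : ℕ) {x : Fin n → F} (hx : nilPow G r m *ᵥ x = 0) : nilPow G r n *ᵥ x = 0 := by
  have hpow : ∀ k, Matrix.toLin' (nilPow G r k) = (Matrix.toLin' (aeval G (X - C r))) ^ k := fun k => by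
    rw [nilPow, map_pow]
    exact map_pow (Matrix.toLinAlgEquiv' (R := F) (n := Fin n)) _ k
  have h := Module.End.ker_pow_le_ker_pow_finrank (Matrix.toLin' (aeval G (X - C r))) m
    (show x ∈ LinearMap.ker ((Matrix.toLin' (aeval G (X - C r))) ^ m) by
      rw [LinearMap.mem_ker, ← hpow, Matrix.toLin'_apply, hx])
  rw [LinearMap.mem_ker, Module.finrank_pi, Fintype.card_fin, ← hpow, Matrix.toLin'_apply] at h
  exact h

include M in
/-- A map lowering every layer is nilpotent on the generalised eigenspace. -/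
theorem pow_layer_eq_zero {r : F} {T : Matrix (Fin n) (Fin n) F} (hT : T * G = G * T)
    (hgen : ∀ k, ∀ i : M.Idx (X - C r, k + 1), ∃ w₁ w₂, nilPow G r k *ᵥ w₁ = 0 ∧ nilPow G r (k + 2) *ᵥ w₂ = 0 ∧
      T *ᵥ M.gen i.1 = w₁ + nilPow G r 1 *ᵥ w₂) :
    ∀ x, nilPow G r n *ᵥ x = 0 → T ^ (3 * n) *ᵥ x = 0 := by
  classical
  -- every vector of a layer
  have hlayer : ∀ k x, nilPow G r (k + 1) *ᵥ x = 0 → ∃ w₁ w₂, nilPow G r k *ᵥ w₁ = 0 ∧
      nilPow G r (k + 2) *ᵥ w₂ = 0 ∧ T *ᵥ x = w₁ + nilPow G r 1 *ᵥ w₂ := by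
    intro k x hx
    obtain ⟨c, v₁, v₂, h1, h2, rfl⟩ := M.exists_span r k hx
    choose u₁ u₂ g1 g2 g3 using hgen k
    refine ⟨(∑ i, c i • u₁ i) + T *ᵥ v₁, (∑ i, c i • u₂ i) + T *ᵥ v₂, ?_, ?_, ?_⟩
    · rw [mulVec_add, mulVec_sum, mulVec_mulVec, ← commute_aeval hT, ← mulVec_mulVec,
        show nilPow G r k *ᵥ v₁ = 0 from h1, mulVec_zero, add_zero]
      simp only [mulVec_smul, g1, smul_zero, Finset.sum_const_zero]
    · rw [mulVec_add, mulVec_sum, mulVec_mulVec, ← commute_aeval hT, ← mulVec_mulVec,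
        show nilPow G r (k + 2) *ᵥ v₂ = 0 from h2, mulVec_zero, add_zero]
      simp only [mulVec_smul, g2, smul_zero, Finset.sum_const_zero]
    · rw [mulVec_add, mulVec_add, mulVec_add, mulVec_sum, mulVec_sum, mulVec_mulVec _ T (aeval G (X - C r)),
        commute_aeval hT, ← mulVec_mulVec, show aeval G (X - C r) = nilPow G r 1 by rw [nilPow, pow_one]]
      simp only [mulVec_smul, g3, smul_add, Finset.sum_add_distrib]
      abel
  have key : ∀ μ m b x, nilPow G r m *ᵥ x = 0 → 2 * (n - b) + m ≤ μ → T ^ μ *ᵥ (nilPow G r b *ᵥ x) = 0 := by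
    intro μ
    induction μ with
    | zero =>
      intro m b x hx hle
      obtain rfl : m = 0 := by omega
      rw [nilPow, pow_zero, map_one, one_mulVec] at hx
      rw [hx, mulVec_zero, mulVec_zero]
    | succ μ ih =>
      intro m b x hx hle
      rcases Nat.lt_or_ge b n with hb | hb
      · rcases m with _ | m
        · rw [nilPow, pow_zero, map_one, one_mulVec] at hx
          rw [hx, mulVec_zero, mulVec_zero]
        obtain ⟨w₁, w₂, h1, h2, h3⟩ := hlayer m x hx
        rw [pow_succ, ← mulVec_mulVec, mulVec_mulVec _ T, commute_aeval hT, ← mulVec_mulVec _ (nilPow G r b), h3,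
          mulVec_add, mulVec_add, mulVec_mulVec _ (nilPow G r b) (nilPow G r 1), ← nilPow_add,
          ih m b w₁ h1 (by omega), ih (m + 2) (b + 1) w₂ h2 (by omega), add_zero]
      · rw [show b = (b - n) + n by omega, nilPow_add, ← mulVec_mulVec, ker_nilPow_le r m hx, mulVec_zero, mulVec_zero]
  intro x hx
  have := key (3 * n) n 0 x hx (by omega)
  rwa [nilPow, pow_zero, map_one, one_mulVec] at this

include M in
theorem exists_congr (hG : D.star G * G = 1) {S S' : Matrix (Fin n) (Fin n) F} (hS : S * G = G * S)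
    (hS' : S' * G = G * S') (hSs : D.star S = S) (hS's : D.star S' = S') (hu : IsUnit S) (hu' : IsUnit S')
    (htop : ∀ r : F, r * r = 1 → ∀ k, top D M S r k = top D M S' r k) :
    ∃ w, w * G = G * w ∧ IsUnit w ∧ D.star w * S' * w = S := by
  classical
  obtain ⟨Su, rfl⟩ := hu'
  obtain ⟨Si, hSi⟩ : ∃ Si, Si = ((Su⁻¹ : (Matrix (Fin n) (Fin n) F)ˣ) : Matrix (Fin n) (Fin n) F) := ⟨_, rfl⟩
  have hi1 : Si * (Su : Matrix (Fin n) (Fin n) F) = 1 := hSi ▸ Su.inv_mul
  have hi2 : (Su : Matrix (Fin n) (Fin n) F) * Si = 1 := hSi ▸ Su.mul_inv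
  have hSiG : Si * G = G * Si := hSi ▸ (Commute.units_inv_left (show Commute (Su : Matrix (Fin n) (Fin n) F) G from hS')).eq
  have hSis : D.star Si = Si := by
    refine left_inv_eq_right_inv (a := (Su : Matrix (Fin n) (Fin n) F)) ?_ hi2
    rw [← hS's, ← D.star_mul, hi2, D.star_one]
  obtain ⟨T, hT⟩ : ∃ T, T = Si * S := ⟨_, rfl⟩
  have hTG : T * G = G * T := by rw [hT, mul_assoc, hS, ← mul_assoc, hSiG, mul_assoc]
  have hT1 : (T - 1) * G = G * (T - 1) := by rw [sub_mul, mul_sub, hTG, one_mul, mul_one]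
  -- the ring
  let A : Subalgebra F (Matrix (Fin n) (Fin n) F) := Algebra.adjoin F {G, T}
  letI : CommRing A := Algebra.adjoinCommRingOfComm F (s := {G, T}) (by
    rintro y (rfl | rfl) z (rfl | rfl)
    · rfl
    · exact hTG.symm
    · exact hTG
    · rfl)
  haveI : Finite A := Subtype.finite
  have hGA : G ∈ A := Algebra.subset_adjoin (Set.mem_insert _ _)
  have hTA : T ∈ A := Algebra.subset_adjoin (Set.mem_insert_of_mem _ rfl)
  have hsGA : D.star G ∈ A := by
    let Gm : A := ⟨G, hGA⟩
    have hinj : Function.Injective (fun b : A => Gm * b) := fun b b' h => Subtype.ext (by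
      have h' := congrArg (fun t : A => D.star G * (t : Matrix (Fin n) (Fin n) F)) h
      simp only [Gm, MulMemClass.coe_mul, ← mul_assoc, hG, one_mul] at h'
      exact h')
    obtain ⟨b, hb⟩ := (Finite.injective_iff_surjective.1 hinj) 1
    rw [left_inv_eq_right_inv hG (congrArg Subtype.val hb)]
    exact b.2
  have hmem : ∀ a ∈ A, Si * D.star a * (Su : Matrix (Fin n) (Fin n) F) ∈ A := by
    intro a ha
    induction ha using Algebra.adjoin_induction with
    | mem x hx =>
      rcases hx with rfl | rfl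
      · rw [mul_assoc, ← commute_star D hG hS', ← mul_assoc, hi1, one_mul]; exact hsGA
      · rw [hT, D.star_mul, hSs, hSis, mul_assoc, mul_assoc, hi1, mul_one, ← hT]; exact hTA
    | algebraMap c =>
      rw [D.star_scal, mul_assoc, Algebra.commutes, ← mul_assoc, hi1, one_mul]; exact A.algebraMap_mem c
    | add x y _ _ hx hy => rw [D.star_add, mul_add, add_mul]; exact A.add_mem hx hy
    | mul x y _ _ hx hy =>
      have e : Si * D.star (x * y) * (Su : Matrix (Fin n) (Fin n) F) = (Si * D.star y * Su) * (Si * D.star x * Su) := by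
        rw [D.star_mul]
        calc Si * (D.star y * D.star x) * (Su : Matrix (Fin n) (Fin n) F) = Si * D.star y * ((Su : Matrix (Fin n) (Fin n) F) * Si) * D.star x * Su := by
              rw [hi2, mul_one]; simp only [mul_assoc]
          _ = _ := by simp only [mul_assoc]
      rw [e]; exact A.mul_mem hy hx
  let σ : A →+* A :=
    { toFun := fun a => ⟨_, hmem a a.2⟩
      map_one' := Subtype.ext (by show Si * D.star 1 * _ = 1; rw [D.star_one, mul_one, hi1])
      map_mul' := fun a b => by
        conv_rhs => rw [mul_comm]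
        refine Subtype.ext ?_
        show Si * D.star ((a : Matrix (Fin n) (Fin n) F) * b) * Su = (Si * D.star b * Su) * (Si * D.star a * Su)
        rw [D.star_mul]
        calc Si * (D.star (b : Matrix (Fin n) (Fin n) F) * D.star a) * (Su : Matrix (Fin n) (Fin n) F)
            = Si * D.star b * ((Su : Matrix (Fin n) (Fin n) F) * Si) * D.star a * Su := by
              rw [hi2, mul_one]; simp only [mul_assoc]
          _ = _ := by simp only [mul_assoc]
      map_zero' := Subtype.ext (by
        show Si * D.star 0 * _ = 0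
        rw [show D.star (0 : Matrix (Fin n) (Fin n) F) = 0 by simp [FormData.star, adj], mul_zero, zero_mul])
      map_add' := fun a b => Subtype.ext (by
        show Si * D.star ((a : Matrix (Fin n) (Fin n) F) + b) * Su = Si * D.star a * Su + Si * D.star b * Su
        rw [D.star_add, mul_add, add_mul]) }
  have hσv : ∀ a : A, ((σ a : A) : Matrix (Fin n) (Fin n) F) = Si * D.star a * Su := fun _ => rfl
  have hσσ : ∀ a, σ (σ a) = a := fun a => Subtype.ext (by
    rw [hσv, hσv, D.star_mul, D.star_mul, D.star_star, hSis, hS's]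
    calc Si * ((Su : Matrix (Fin n) (Fin n) F) * ((a : Matrix (Fin n) (Fin n) F) * Si)) * Su
        = (Si * Su) * a * (Si * Su) := by simp only [mul_assoc]
      _ = a := by rw [hi1, one_mul, mul_one])
  let Gm : A := ⟨G, hGA⟩
  let Tm : A := ⟨T, hTA⟩
  have hσG : Gm * σ Gm = 1 := Subtype.ext (by
    show G * (Si * D.star G * (Su : Matrix (Fin n) (Fin n) F)) = 1
    rw [mul_assoc Si, ← commute_star D hG hS', ← mul_assoc Si, hi1, one_mul, mul_eq_one_comm.1 hG])
  have hσT : σ Tm = Tm := Subtype.ext (by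
    show Si * D.star T * (Su : Matrix (Fin n) (Fin n) F) = T
    rw [hT, D.star_mul, hSs, hSis, mul_assoc, mul_assoc, hi1, mul_one])
  have hTu : IsUnit Tm := by
    have hinj : Function.Injective (fun b : A => Tm * b) := fun b b' h => Subtype.ext (by
      have h' : T * (b : Matrix (Fin n) (Fin n) F) = T * b' := congrArg Subtype.val h
      exact (hT ▸ (hSi ▸ (Su⁻¹).isUnit).mul hu : IsUnit T).mul_left_cancel h')
    obtain ⟨b, hb⟩ := (Finite.injective_iff_surjective.1 hinj) 1
    exact IsUnit.of_mul_eq_one b hb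
  obtain ⟨z, hz, hzz⟩ := exists_norm σ hσσ (T := Tm) (by have h := (isUnit_iff_ne_zero.2 D.two_ne).map (algebraMap F A); rwa [map_ofNat] at h)
    hTu hσT (fun M₀ hM₀ _ => by
      by_cases hc : Gm - σ Gm ∈ M₀
      swap
      · exact Or.inl ⟨Gm, hc⟩
      right
      have h1 : (Gm - 1) * (Gm + 1) ∈ M₀ := by
        have h2 := M₀.mul_mem_left Gm hc
        rwa [mul_sub, hσG, show Gm * Gm - 1 = (Gm - 1) * (Gm + 1) by ring] at h2
      obtain ⟨r, hr, hrM⟩ : ∃ r : F, r * r = 1 ∧ Gm - algebraMap F A r ∈ M₀ := by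
        rcases hM₀.isPrime.mem_or_mem h1 with h | h
        · exact ⟨1, one_mul 1, by rwa [map_one]⟩
        · exact ⟨-1, by ring, by rwa [map_neg, map_one, sub_neg_eq_add]⟩
      have hnil := pow_layer_eq_zero M (r := r) hT1 fun k i => by
        have hgen := gen_layer M i
        have hx : nilPow G r (k + 1) *ᵥ ((S - (Su : Matrix (Fin n) (Fin n) F)) *ᵥ M.gen i.1) = 0 := by
          rw [mulVec_mulVec, ← commute_aeval (show (S - (Su : Matrix (Fin n) (Fin n) F)) * G = G * (S - Su) by
            rw [sub_mul, mul_sub, hS, hS']), ← mulVec_mulVec, hgen, mulVec_zero]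
        obtain ⟨w₁, w₂, e1, e2, e3⟩ := mem_layer D M hG hr k hx fun j => by
          have h := congrFun (congrFun (htop r hr k) i) j
          simp only [top, of_apply] at h
          rw [sub_mulVec, mulVec_sub, bil, sub_dotProduct]
          exact sub_eq_zero.2 h
        refine ⟨Si *ᵥ w₁, Si *ᵥ w₂, ?_, ?_, ?_⟩
        · rw [mulVec_mulVec, ← commute_aeval hSiG, ← mulVec_mulVec, show nilPow G r k *ᵥ w₁ = 0 from e1, mulVec_zero]
        · rw [mulVec_mulVec, ← commute_aeval hSiG, ← mulVec_mulVec, show nilPow G r (k + 2) *ᵥ w₂ = 0 from e2, mulVec_zero]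
        · rw [mulVec_mulVec _ (nilPow G r 1) Si, ← commute_aeval hSiG, ← mulVec_mulVec, ← mulVec_add, ← e3, mulVec_mulVec, mul_sub, hi1, ← hT]
      obtain ⟨Q, hQ, hQ0⟩ := Polynomial.exists_eq_pow_rootMultiplicity_mul_and_not_dvd G.charpoly (charpoly_monic G).ne_zero r
      have hzero : (T - 1) ^ (3 * n) * aeval G Q = 0 := Matrix.ext_of_mulVec_single fun i => by
        rw [← mulVec_mulVec, zero_mulVec]
        refine hnil _ (ker_nilPow_le r (G.charpoly.rootMultiplicity r) ?_)
        rw [mulVec_mulVec, nilPow, ← map_mul, ← hQ, Matrix.aeval_self_charpoly, zero_mulVec]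
      have hQA : aeval Gm Q ∉ M₀ := fun h => by
        have hev : aeval Gm Q - algebraMap F A (Q.eval r) ∈ M₀ := by
          obtain ⟨b, hb⟩ := X_sub_C_dvd_sub_C_eval (p := Q) (a := r)
          rw [← aeval_C Gm (Q.eval r), ← map_sub, hb, map_mul, map_sub, aeval_X, aeval_C]
          exact M₀.mul_mem_right _ hrM
        have h0 := M₀.sub_mem h hev
        rw [sub_sub_cancel] at h0
        exact hM₀.ne_top (Ideal.eq_top_of_isUnit_mem _ h0 ((isUnit_iff_ne_zero.2 fun e => hQ0 (dvd_iff_isRoot.2 e)).map _))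
      have hmul : (Tm - 1) ^ (3 * n) * aeval Gm Q = 0 := Subtype.ext (by
        simp only [MulMemClass.coe_mul, SubmonoidClass.coe_pow, ZeroMemClass.coe_zero, Polynomial.aeval_subalgebra_coe]
        exact hzero)
      exact hM₀.isPrime.mem_of_pow_mem _ ((hM₀.isPrime.mem_or_mem (hmul ▸ M₀.zero_mem)).resolve_right hQA))
  have hzG : Commute G (z : Matrix (Fin n) (Fin n) F) :=
    Algebra.commute_of_mem_adjoin_of_forall_mem_commute z.2 fun b hb => by
      rcases hb with rfl | rfl
      · exact Commute.refl _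
      · exact hTG.symm
  refine ⟨z, hzG.symm.eq, hz.map A.val, ?_⟩
  have h1 : (Si * D.star (z : Matrix (Fin n) (Fin n) F) * Su) * z = T := by
    rw [← hσv]
    exact congrArg Subtype.val ((mul_comm (σ z) z).trans hzz)
  calc D.star (z : Matrix (Fin n) (Fin n) F) * Su * z = Su * ((Si * D.star z * Su) * z) := by
        simp only [← mul_assoc, hi2, one_mul]
    _ = S := by rw [h1, hT, ← mul_assoc, hi2, one_mul]

end CfsgLib.CClassBound
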