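import Cfsg.Agent.Lib.KnownSimple.ClassicalClassBound.Classes

/-!
# Changing the side of a class of a special orthogonal group

For an isometry `g` of an odd dimensional space with a symmetric layer at each of the eigenvalues
`1` and `-1`, changing one discriminant at each of them gives an isometry with the same type whose
semisimple part differs from that of `g` by a product of two reflections of non-square norm product.
-/

set_option autoImplicit false

namespace CfsgLib.CClassBound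

open Polynomial Matrix CfsgLib.Classical CfsgLib.SLBound CfsgLib.GLClassBound

universe u

variable {F : Type u} [Field F] [Fintype F] {n : ℕ} (D : FormData F n)

section Invariance

variable {G : Matrix (Fin n) (Fin n) F} (M : BlockData G) (hG : D.star G * G = 1)
include hG

/-- Congruence by the centraliser does not change the discriminants. -/
theorem disc_congr {S w : Matrix (Fin n) (Fin n) F} (hS : IsSA D (G := G) S) (hw : w * G = G * w) (hwu : IsUnit w)
    (x : Slot D M) : disc D M (D.star w * S * w) x ↔ disc D M S x := by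
  classical
  obtain ⟨⟨r, k⟩, hr, hsym, -⟩ := x
  obtain ⟨k, hk⟩ := k
  simp only at hr hsym
  simp only [disc]
  have hcomm : ∀ j, S * nilPow G r j = nilPow G r j * S := fun j => commute_aeval hS.comm _
  -- the lower layers are orthogonal
  have hlow : ∀ w₁ w₂ : Fin n → F, nilPow G r k *ᵥ w₁ = 0 → nilPow G r (k + 2) *ᵥ w₂ = 0 →
      ∀ y, nilPow G r (k + 1) *ᵥ y = 0 → bil D.B (nilPow G r k *ᵥ (S *ᵥ y)) (w₁ + nilPow G r 1 *ᵥ w₂) = 0 := by
    intro w₁ w₂ h1 h2 y hy
    rw [bil_add_right, bil_nilPow D hG hr, h1, mulVec_zero]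
    have e : bil D.B (nilPow G r k *ᵥ (S *ᵥ y)) (nilPow G r 1 *ᵥ w₂) = 0 := by
      conv_lhs => rw [← D.star_star (nilPow G r 1)]
      rw [← D.bil_star, star_nilPow D hG hr, ← mulVec_mulVec, mulVec_mulVec _ (nilPow G r 1) (nilPow G r k),
        ← nilPow_add, mulVec_mulVec _ (nilPow G r (1 + k)), ← hcomm, ← mulVec_mulVec, show 1 + k = k + 1 by omega, hy,
        mulVec_zero, mulVec_zero]
      simp [bil]
    rw [e]
    simp [bil]
  have hsym' : ∀ u v, nilPow G r (k + 1) *ᵥ u = 0 →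
      bil D.B (nilPow G r k *ᵥ (S *ᵥ u)) v = (D.ε * (-1) ^ k) * bil D.B (nilPow G r k *ᵥ (S *ᵥ v)) u := by
    intro u v hu
    rw [bil_nilPow D hG hr k (S *ᵥ v), D.bil_star S v, hS.star_eq, mulVec_mulVec _ S, twist_mulVec_comm D hG hr hS.comm,
      ← mulVec_mulVec, mulVec_mulVec _ S, hcomm, ← mulVec_mulVec]
    have hc : Commute (nilPow G r k) ((algebraMap F _ (-r) * D.star G) ^ k) := by
      refine Commute.pow_right ?_ k
      refine Commute.mul_right (Algebra.commutes _ _).symm ?_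
      exact (commute_aeval (show D.star G * G = G * D.star G from hG.trans (mul_eq_one_comm.1 hG).symm) _).symm
    rw [mulVec_mulVec _ _ (nilPow G r k), ← hc.eq, ← mulVec_mulVec, nilPow_twist D hG hr k k]
    · have e : ∀ (c : F) (u v : Fin n → F), bil D.B u (c • v) = c * bil D.B u v := fun c u v => by
        simp only [bil, mulVec_smul, dotProduct_smul, smul_eq_mul]
      rw [e, D.bil_comm (nilPow G r k *ᵥ (S *ᵥ u)) v]
      have h1 : (-1 : F) ^ k * (-1) ^ k = 1 := by rw [← mul_pow]; simp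
      linear_combination (-((-1 : F) ^ k * (-1) ^ k) * bil D.B (nilPow G r k *ᵥ (S *ᵥ u)) v) * D.eps_sq -
        (bil D.B (nilPow G r k *ᵥ (S *ᵥ u)) v) * h1
    · rw [mulVec_mulVec, ← hcomm, ← mulVec_mulVec, hu, mulVec_zero]
  choose Q v₁ v₂ e1 e2 e3 using fun i : M.Idx (X - C r, k + 1) => M.exists_span r k
    (u := w *ᵥ M.gen i.1) (by
      show nilPow G r (k + 1) *ᵥ (w *ᵥ M.gen i.1) = 0
      rw [mulVec_mulVec, ← commute_aeval hw, ← mulVec_mulVec, gen_layer M i, mulVec_zero])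
  have hN : aeval G (X - C r) = nilPow G r 1 := by rw [nilPow, pow_one]
  have htop : top D M (D.star w * S * w) r k = (Matrix.of fun l i => Q i l)ᵀ * top D M S r k * Matrix.of fun l i => Q i l := by
    have hsw : D.star w * G = G * D.star w := by
      have h1 := congrArg D.star (commute_star D hG hw)
      rw [D.star_mul, D.star_mul, D.star_star] at h1
      exact h1.symm
    ext i j
    have hi : nilPow G r (k + 1) *ᵥ (∑ l, Q i l • M.gen l.1) = 0 := by
      rw [mulVec_sum]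
      simp only [mulVec_smul, gen_layer M, smul_zero, Finset.sum_const_zero]
    have hv : nilPow G r (k + 1) *ᵥ (v₁ i + nilPow G r 1 *ᵥ v₂ i) = 0 := by
      rw [mulVec_add, mulVec_mulVec, ← nilPow_add, show k + 1 + 1 = k + 2 by omega, show nilPow G r (k + 2) *ᵥ v₂ i = 0 from e2 i,
        add_zero, show k + 1 = 1 + k by omega, nilPow_add, ← mulVec_mulVec, show nilPow G r k *ᵥ v₁ i = 0 from e1 i, mulVec_zero]
    have hwj : nilPow G r (k + 1) *ᵥ (w *ᵥ M.gen j.1) = 0 := by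
      rw [mulVec_mulVec, ← commute_aeval hw, ← mulVec_mulVec, gen_layer M j, mulVec_zero]
    rw [top, of_apply, mul_assoc (D.star w), ← mulVec_mulVec _ (D.star w), mulVec_mulVec _ (nilPow G r k) (D.star w),
      ← commute_aeval hsw, ← mulVec_mulVec, D.bil_star, D.star_star, ← mulVec_mulVec, e3 i, hN, add_assoc]
    rw [show ∀ a b, bil D.B (nilPow G r k *ᵥ (S *ᵥ (a + b))) (w *ᵥ M.gen j.1) = bil D.B (nilPow G r k *ᵥ (S *ᵥ a)) (w *ᵥ M.gen j.1) +
        bil D.B (nilPow G r k *ᵥ (S *ᵥ b)) (w *ᵥ M.gen j.1) from fun a b => by simp [bil, mulVec_add, add_dotProduct],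
      hsym' _ _ hv, hlow _ _ (e1 i) (e2 i) _ hwj, mul_zero, add_zero, e3 j, hN, add_assoc, bil_add_right,
      hlow _ _ (e1 j) (e2 j) _ hi, add_zero]
    simp only [mulVec_sum, mulVec_smul, bil_sum_left, bil_sum_right, Matrix.mul_apply, transpose_apply, top, of_apply,
      Finset.sum_mul, Finset.mul_sum]
    exact Finset.sum_congr rfl fun l _ => Finset.sum_congr rfl fun m _ => by ring
  have hsa := isSA_congr D hG hS hw hwu
  have hne := ((Matrix.isUnit_iff_isUnit_det _).1 (top_det_ne_zero D M hG hr hsa.comm hsa.unit k)).ne_zero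
  rw [htop, det_mul, det_mul, det_transpose] at hne ⊢
  obtain ⟨q, hq⟩ : ∃ q, q = (Matrix.of fun l i => Q i l).det := ⟨_, rfl⟩
  rw [← hq] at hne ⊢
  have hq0 : q ≠ 0 := fun e => hne (by rw [e, zero_mul, zero_mul])
  constructor
  · rintro ⟨t, ht⟩
    exact ⟨t / q, by field_simp; linear_combination ht⟩
  · rintro ⟨t, ht⟩
    exact ⟨q * t, by rw [ht]; ring⟩

end Invariance

/-- The determinant on the range of an idempotent. -/
noncomputable def eDet (E S : Matrix (Fin n) (Fin n) F) : F := (S * E + (1 - E)).det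

theorem eDet_mul {E : Matrix (Fin n) (Fin n) F} (hE : E * E = E) {S T : Matrix (Fin n) (Fin n) F}
    (hT : T * E = E * T) : eDet E (S * T) = eDet E S * eDet E T := by
  rw [eDet, eDet, eDet, ← det_mul]
  congr 1
  have h1 : (1 - E) * (1 - E) = 1 - E := by simp [mul_sub, sub_mul, hE]
  have h2 : E * (1 - E) = 0 := by simp [mul_sub, hE]
  have h3 : (1 - E) * T = T * (1 - E) := by simp [mul_sub, sub_mul, hT]
  calc S * T * E + (1 - E) = S * T * (E * E) + (1 - E) * (1 - E) := by rw [hE, h1]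
    _ = S * (T * E) * E + (1 - E) * (1 - E) + (S * (E * (1 - E)) + T * ((1 - E) * E)) := by
        rw [h2, show (1 - E) * E = 0 by simp [sub_mul, hE]]
        simp [mul_assoc]
    _ = _ := by
        rw [add_mul, mul_add, mul_add, mul_assoc S E, mul_assoc S E, ← mul_assoc E T E, ← hT, ← mul_assoc (1 - E) T E, h3]
        simp only [mul_assoc]
        abel

theorem eDet_star {E : Matrix (Fin n) (Fin n) F} (hEs : D.star E = E) {S : Matrix (Fin n) (Fin n) F}
    (hS : S * E = E * S) : eDet E (D.star S) = eDet E S := by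
  have h : D.star S * E = D.star (S * E) := by rw [hS, D.star_mul, hEs]
  rw [eDet, eDet, h, show (1 : Matrix (Fin n) (Fin n) F) - E = D.star (1 - E) by rw [D.star_sub, D.star_one, hEs],
    ← D.star_add, D.det_star, D.star_sub, D.star_one, hEs]

theorem eDet_nilpotent {E T : Matrix (Fin n) (Fin n) F} (hT : T * E = E * T) (hn : IsNilpotent T) :
    eDet E (1 + T) = 1 := by
  have h : (1 + T) * E + (1 - E) = 1 - (-(T * E)) := by rw [add_mul, one_mul, sub_neg_eq_add]; abel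
  have hnil : IsNilpotent (-(T * E)) := ((show Commute T E from hT).isNilpotent_mul_right hn).neg
  rw [eDet, h]
  have h := congrArg (fun p : F[X] => p.eval 1)
    (sub_eq_zero.1 (Matrix.isNilpotent_charpoly_sub_pow_of_isNilpotent hnil).eq_zero)
  simpa [Matrix.eval_charpoly] using h

/-- The average of the powers of `r • S`. -/
noncomputable def avg (m : ℕ) (r : F) (S : Matrix (Fin n) (Fin n) F) : Matrix (Fin n) (Fin n) F :=
  (m : F)⁻¹ • ∑ i ∈ Finset.range m, (r • S) ^ i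

section Avg

variable {S : Matrix (Fin n) (Fin n) F} {m : ℕ} (hm : (m : F) ≠ 0) (hev : Even m) (hS : S ^ m = 1) {r : F}
  (hr : r * r = 1)

omit [Fintype F] in
theorem commute_avg {A : Matrix (Fin n) (Fin n) F} (h : A * S = S * A) (m : ℕ) (r : F) : A * avg m r S = avg m r S * A :=
  ((Commute.sum_right _ _ _ fun i _ => ((show Commute A S from h).smul_right r).pow_right i).smul_right _).eq

include hev hS hr

omit [Fintype F] in
theorem smul_mul_avg : (r • S) * avg m r S = avg m r S := by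
  rw [avg, mul_smul_comm]
  refine congrArg _ ?_
  have h1 : (r • S) ^ m = 1 := by
    obtain ⟨k, rfl⟩ := hev
    rw [_root_.smul_pow, hS, ← two_mul, pow_mul, sq, hr, one_pow, one_smul]
  have h := mul_geom_sum (r • S) m
  rw [h1, sub_self, sub_mul, one_mul, sub_eq_zero] at h
  exact h

omit [Fintype F] in
theorem mul_avg : S * avg m r S = r • avg m r S := by
  conv_rhs => rw [← smul_mul_avg hev hS hr, smul_mul_assoc, smul_smul, hr, one_smul]

include hm

omit [Fintype F] in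
theorem avg_idem : avg m r S * avg m r S = avg m r S := by
  conv_lhs => enter [1]; rw [avg]
  have h : ∀ i, (r • S) ^ i * avg m r S = avg m r S := fun i => by
    induction i with
    | zero => rw [pow_zero, one_mul]
    | succ i ih => rw [pow_succ, mul_assoc, smul_mul_avg hev hS hr, ih]
  rw [smul_mul_assoc, Finset.sum_mul, Finset.sum_congr rfl fun i _ => h i, Finset.sum_const, Finset.card_range,
    ← Nat.cast_smul_eq_nsmul F, smul_smul, inv_mul_cancel₀ hm, one_smul]

omit [Fintype F] hev hS in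
theorem avg_mulVec {y : Fin n → F} (hy : S *ᵥ y = r • y) : avg m r S *ᵥ y = y := by
  have h : ∀ i, (r • S) ^ i *ᵥ y = y := fun i => by
    induction i with
    | zero => rw [pow_zero, one_mulVec]
    | succ i ih => rw [pow_succ, ← mulVec_mulVec, smul_mulVec, hy, smul_smul, hr, one_smul, ih]
  rw [avg, smul_mulVec, sum_mulVec, Finset.sum_congr rfl fun i _ => h i, Finset.sum_const, Finset.card_range,
    ← Nat.cast_smul_eq_nsmul F, smul_smul, inv_mul_cancel₀ hm, one_smul]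

include D in
omit [Fintype F] hS in
theorem avg_mulVec_neg {y : Fin n → F} (hy : S *ᵥ y = -(r • y)) : avg m r S *ᵥ y = 0 := by
  have h : ∀ i, (r • S) ^ i *ᵥ y = ((-1 : F) ^ i) • y := fun i => by
    induction i with
    | zero => rw [pow_zero, one_mulVec, pow_zero, one_smul]
    | succ i ih =>
      rw [pow_succ', ← mulVec_mulVec, ih, smul_mulVec, mulVec_smul, hy, smul_neg, smul_neg, smul_smul, smul_smul, pow_succ',
        show (-1 : F) * (-1) ^ i = -((-1) ^ i) by ring, neg_smul, show r * (-1 : F) ^ i * r = (-1) ^ i * (r * r) by ring, hr, mul_one]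
  have h2 : ∑ i ∈ Finset.range m, (-1 : F) ^ i = 0 := by
    obtain ⟨k, rfl⟩ := hev
    have hne : (-1 : F) ≠ 1 := fun e => D.two_ne (by linear_combination -e)
    rw [geom_sum_eq hne, ← two_mul, pow_mul, neg_one_sq, one_pow, sub_self, zero_div]
  rw [avg, smul_mulVec, sum_mulVec, Finset.sum_congr rfl fun i _ => h i, ← Finset.sum_smul, h2, zero_smul, smul_zero]

end Avg

theorem star_avg {S : Matrix (Fin n) (Fin n) F} {m : ℕ} (hev : Even m) (hS : S ^ m = 1) (hSs : D.star S * S = 1) {r : F}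
    (hr : r * r = 1) : D.star (avg m r S) = avg m r S := by
  have hsm : ∀ (t : F) x, D.star (t • x) = t • D.star x := fun t x => by
    rw [Algebra.smul_def, D.star_mul, D.star_scal, ← Algebra.commutes, ← Algebra.smul_def]
  have h : ∀ k, D.star (∑ i ∈ Finset.range k, (r • S) ^ i) = ∑ i ∈ Finset.range k, (r • D.star S) ^ i := fun k => by
    induction k with
    | zero => simp [FormData.star, adj]
    | succ k ih => rw [Finset.sum_range_succ, Finset.sum_range_succ, D.star_add, ih, D.star_pow, hsm]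
  have hT : (r • D.star S) * (r • S) = 1 := by rw [smul_mul_smul_comm, hSs, hr, one_smul]
  have hTm : (r • S) ^ m = 1 := by
    obtain ⟨k, rfl⟩ := hev
    rw [_root_.smul_pow, hS, ← two_mul, pow_mul, sq, hr, one_pow, one_smul]
  rw [avg, hsm, h]
  refine congrArg _ ?_
  obtain ⟨T, hTdef⟩ : ∃ T, T = r • D.star S := ⟨_, rfl⟩
  obtain ⟨U, hUdef⟩ : ∃ U, U = r • S := ⟨_, rfl⟩
  rw [← hTdef, ← hUdef] at hT ⊢
  rw [← hUdef] at hTm
  have hTi : ∀ i, T ^ i * U ^ i = 1 := fun i => by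
    rw [← (show Commute T U from hT.trans (mul_eq_one_comm.1 hT).symm).mul_pow, hT, one_pow]
  have hTm' : T ^ m = 1 := by simpa [hTm] using hTi m
  have h1 : ∀ i ∈ Finset.range m, U ^ (m - 1 - i) = T ^ (i + 1) := fun i hi => by
    rw [Finset.mem_range] at hi
    calc U ^ (m - 1 - i) = T ^ (i + 1) * U ^ (i + 1) * U ^ (m - 1 - i) := by rw [hTi, one_mul]
      _ = T ^ (i + 1) := by rw [mul_assoc, ← pow_add, show i + 1 + (m - 1 - i) = m by omega, hTm, mul_one]
  rw [← Finset.sum_range_reflect (fun i => U ^ i), Finset.sum_congr rfl h1]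
  have h2 := mul_geom_sum T m
  rw [hTm', sub_self, sub_mul, one_mul, sub_eq_zero, Finset.mul_sum] at h2
  exact h2.symm.trans (Finset.sum_congr rfl fun i _ => (pow_succ' T i).symm)

omit [Fintype F] in
theorem star_smul (t : F) (x : Matrix (Fin n) (Fin n) F) : D.star (t • x) = t • D.star x := by
  rw [Algebra.smul_def, D.star_mul, D.star_scal, ← Algebra.commutes, ← Algebra.smul_def]

/-- An exponent killing the unipotent part of an invertible matrix. -/
theorem exists_semisimple (D : FormData F n) (g : GL (Fin n) F) :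
    ∃ K m : ℕ, Odd K ∧ Even m ∧ (m : F) ≠ 0 ∧ (g ^ K) ^ m = 1 ∧ ∀ r : F, r * r = 1 → ∀ y : Fin n → F,
      nilPow (g : Matrix (Fin n) (Fin n) F) r n *ᵥ y = 0 → ((g ^ K : GL (Fin n) F) : Matrix (Fin n) (Fin n) F) *ᵥ y = r • y := by
  obtain ⟨p, hc⟩ := CharP.exists F
  have hp : p.Prime := CharP.char_is_prime F p
  haveI := Fact.mk hp
  have hp2 : p ≠ 2 := fun e => D.two_ne (by
    subst e
    exact_mod_cast CharP.cast_eq_zero F 2)
  obtain ⟨a, m, hm, hgm⟩ := Nat.exists_eq_pow_mul_and_not_dvd (orderOf_pos g).ne' p hp.ne_one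
  obtain ⟨t, ht⟩ : ∃ t, t = max a n := ⟨_, rfl⟩
  haveI : Nonempty (Fin n) ∨ IsEmpty (Fin n) := (isEmpty_or_nonempty _).symm
  have hodd : Odd (p ^ t) := (hp.odd_of_ne_two hp2).pow
  refine ⟨p ^ t, 2 * m, hodd, even_two_mul m, ?_, ?_, fun r hr y hy => ?_⟩
  · rw [Nat.cast_mul, Nat.cast_ofNat]
    refine mul_ne_zero D.two_ne fun h => hm ((CharP.cast_eq_zero_iff F p m).1 h)
  · rw [← pow_mul]
    refine orderOf_dvd_iff_pow_eq_one.1 (hgm ▸ ?_)
    exact mul_dvd_mul (pow_dvd_pow p (by omega)) (dvd_mul_left m 2)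
  · rcases isEmpty_or_nonempty (Fin n) with he | hne
    · exact Subsingleton.elim _ _
    have hn : n ≤ p ^ t := (show n ≤ t by omega).trans (Nat.lt_pow_self hp.one_lt).le
    haveI : CharP (Matrix (Fin n) (Fin n) F) p := inferInstance
    have hr' : r ^ p ^ t = r := by
      obtain ⟨j, hj⟩ := hodd
      rw [hj, pow_succ, pow_mul, sq, hr, one_pow, one_mul]
    have h0 : nilPow (g : Matrix (Fin n) (Fin n) F) r (p ^ t) *ᵥ y = 0 := by
      rw [show p ^ t = (p ^ t - n) + n by omega, nilPow_add, ← mulVec_mulVec, hy, mulVec_zero]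
    haveI : ExpChar (Matrix (Fin n) (Fin n) F) p := ExpChar.prime hp
    rw [nilPow, map_pow, map_sub, aeval_X, aeval_C, sub_pow_expChar_pow_of_commute p t (Algebra.commutes r _).symm,
      ← map_pow, hr', sub_mulVec, sub_eq_zero, Algebra.algebraMap_eq_smul_one, smul_mulVec, one_mulVec] at h0
    rw [Units.val_pow_eq_pow_val, h0]

/-- The reflection in an anisotropic vector. -/
noncomputable def refl (u : Fin n → F) : Matrix (Fin n) (Fin n) F :=
  1 - (2 / bil D.B u u) • vecMulVec u (D.B *ᵥ u)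

/-- The projection on an anisotropic vector. -/
noncomputable def proj1 (u : Fin n → F) : Matrix (Fin n) (Fin n) F :=
  (bil D.B u u)⁻¹ • vecMulVec u (D.B *ᵥ u)

omit [Fintype F] in
theorem proj1_mulVec (u y : Fin n → F) : proj1 D u *ᵥ y = ((bil D.B u u)⁻¹ * bil D.B y u) • u := by
  rw [proj1, smul_mulVec, vecMulVec_mulVec, dotProduct_comm]
  ext i
  simp [bil]
  ring

omit [Fintype F] in
theorem refl_eq (u : Fin n → F) : refl D u = 1 - (2 : F) • proj1 D u := by
  rw [refl, proj1, smul_smul, div_eq_mul_inv]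

theorem star_proj1 (hε : D.ε = 1) (u : Fin n → F) : D.star (proj1 D u) = proj1 D u := by
  rw [proj1, star_smul]
  refine congrArg _ ?_
  simp only [FormData.star, adj, transpose_vecMulVec, mul_vecMulVec, vecMulVec_mul]
  have h : u ᵥ* D.B = D.B *ᵥ u := by
    rw [← mulVec_transpose, D.sym, hε, one_smul]
  rw [mulVec_mulVec, D.inv_mul, one_mulVec, h]

omit [Fintype F] in
theorem proj1_idem {u : Fin n → F} (hu : bil D.B u u ≠ 0) : proj1 D u * proj1 D u = proj1 D u := by
  refine Matrix.ext_of_mulVec_single fun i => ?_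
  rw [← mulVec_mulVec, proj1_mulVec D u (Pi.single i 1), mulVec_smul, proj1_mulVec, smul_smul, inv_mul_cancel₀ hu, mul_one]

theorem mul_proj1 (hε : D.ε = 1) {E : Matrix (Fin n) (Fin n) F} (hEs : D.star E = E) {u : Fin n → F} (hEu : E *ᵥ u = u) :
    E * proj1 D u = proj1 D u ∧ proj1 D u * E = proj1 D u := by
  have h1 : E * proj1 D u = proj1 D u := by rw [proj1, mul_smul_comm, mul_vecMulVec, hEu]
  refine ⟨h1, ?_⟩
  have h2 := congrArg D.star h1
  rwa [D.star_mul, star_proj1 D hε, hEs] at h2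

omit [Fintype F] in
theorem refl_sq {u : Fin n → F} (hu : bil D.B u u ≠ 0) : refl D u * refl D u = 1 := by
  rw [refl_eq]
  simp only [sub_mul, mul_sub, one_mul, mul_one, smul_mul_assoc, mul_smul_comm, proj1_idem D hu, smul_smul]
  module

theorem star_refl (hε : D.ε = 1) (u : Fin n → F) : D.star (refl D u) = refl D u := by
  rw [refl_eq, D.star_sub, D.star_one, star_smul, star_proj1 D hε]

omit [Fintype F] in
theorem det_refl {u : Fin n → F} (hu : bil D.B u u ≠ 0) : (refl D u).det = -1 := by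
  have e : refl D u = 1 + Matrix.replicateCol Unit u * Matrix.replicateRow Unit ((-(2 / bil D.B u u)) • (D.B *ᵥ u)) := by
    rw [refl, sub_eq_add_neg, ← neg_smul]
    ext i j
    simp [Matrix.mul_apply, vecMulVec_apply]
    ring
  rw [e, det_one_add_replicateCol_mul_replicateRow, smul_dotProduct, smul_eq_mul,
    show (D.B *ᵥ u) ⬝ᵥ u = bil D.B u u from dotProduct_comm _ _, neg_mul, div_mul_cancel₀ _ hu]
  ring

/-- A self-adjoint idempotent has an anisotropic vector in its range. -/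
theorem exists_aniso (hε : D.ε = 1) {E : Matrix (Fin n) (Fin n) F} (hE : E * E = E) (hEs : D.star E = E) (h0 : E ≠ 0) :
    ∃ y, E *ᵥ y = y ∧ bil D.B y y ≠ 0 := by
  by_contra hc
  push Not at hc
  refine h0 (Matrix.ext_of_mulVec_single fun i => ?_)
  rw [zero_mulVec]
  refine D.bil_nondeg fun u => ?_
  have h : ∀ y z, bil D.B (E *ᵥ y) (E *ᵥ z) = 0 := fun y z => by
    have e : ∀ v, bil D.B (E *ᵥ v) (E *ᵥ v) = 0 := fun v => hc _ (by rw [mulVec_mulVec, hE])
    have h1 := e (y + z)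
    have h2 := D.bil_comm (E *ᵥ y) (E *ᵥ z)
    rw [hε, one_mul] at h2
    simp only [bil, mulVec_add, dotProduct_add, add_dotProduct] at h1 h2 ⊢
    have h3 := e y
    have h4 := e z
    simp only [bil] at h3 h4
    exact (mul_eq_zero.1 (show (2 : F) * _ = 0 by linear_combination h1 - h3 - h4 - h2)).resolve_left D.two_ne
  have h' := h u (Pi.single i 1)
  rwa [D.bil_star, hEs, mulVec_mulVec, hE] at h'

/-- Non-square products of norms in the two eigenspaces of a semisimple isometry. -/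
theorem exists_pair (hε : D.ε = 1) (hn : Odd n) {S : Matrix (Fin n) (Fin n) F} {m : ℕ} (hm : (m : F) ≠ 0) (hev : Even m)
    (hS : S ^ m = 1) (hSs : D.star S * S = 1) (hdet : S.det = 1) {z : Fin n → F} (hz : S *ᵥ z = -z) (hz0 : z ≠ 0) :
    ∃ u v, S *ᵥ u = u ∧ S *ᵥ v = -v ∧ bil D.B u u ≠ 0 ∧ bil D.B v v ≠ 0 ∧ ¬ IsSquare (bil D.B u u * bil D.B v v) := by
  classical
  have h1 : (1 : F) * 1 = 1 := one_mul 1
  have hm1 : (-1 : F) * -1 = 1 := by ring
  -- an anisotropic fixed vector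
  have hp0 : avg m (1 : F) S ≠ 0 := fun e => by
    have hd : (S - 1).det = 0 := by
      have h : D.star (S - 1) = -(D.star S * (S - 1)) := by
        rw [D.star_sub, D.star_one, mul_sub, hSs, mul_one, neg_sub]
      have h2 := congrArg Matrix.det h
      rw [D.det_star, det_neg, det_mul, D.det_star, hdet, one_mul, Fintype.card_fin, hn.neg_one_pow] at h2
      exact (mul_eq_zero.1 (show (2 : F) * (S - 1).det = 0 by linear_combination h2)).resolve_left D.two_ne
    obtain ⟨y, hy0, hy⟩ := Matrix.exists_mulVec_eq_zero_iff.2 hd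
    rw [sub_mulVec, one_mulVec, sub_eq_zero] at hy
    exact hy0 (by rw [← avg_mulVec hm h1 (show S *ᵥ y = (1 : F) • y by rw [one_smul, hy]), e, zero_mulVec])
  obtain ⟨u, hu, hub⟩ := exists_aniso D hε (avg_idem hm hev hS h1) (star_avg D hev hS hSs h1) hp0
  have huS : S *ᵥ u = u := by rw [← hu, mulVec_mulVec, mul_avg hev hS h1, one_smul]
  -- two orthogonal anisotropic vectors of the other eigenspace
  obtain ⟨E, hEdef⟩ : ∃ E, E = avg m (-1 : F) S := ⟨_, rfl⟩
  have hE : E * E = E := hEdef ▸ avg_idem hm hev hS hm1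
  have hEs : D.star E = E := hEdef ▸ star_avg D hev hS hSs hm1
  have hES : S * E = -E := by rw [hEdef, mul_avg hev hS hm1, neg_one_smul]
  have hEneg : ∀ y, E *ᵥ y = y → S *ᵥ y = -y := fun y hy => by rw [← hy, mulVec_mulVec, hES, neg_mulVec]
  have hEz : ∀ y, S *ᵥ y = -y → E *ᵥ y = y := fun y hy => hEdef ▸ avg_mulVec hm hm1 (by rw [hy, neg_one_smul])
  obtain ⟨v₁, hv₁, hv₁b⟩ := exists_aniso D hε hE hEs (fun e => hz0 (by rw [← hEz z hz, e, zero_mulVec]))
  obtain ⟨P, hPdef⟩ : ∃ P, P = proj1 D v₁ := ⟨_, rfl⟩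
  obtain ⟨hEP, hPE⟩ : E * P = P ∧ P * E = P := hPdef ▸ mul_proj1 D hε hEs hv₁
  have hPP : P * P = P := hPdef ▸ proj1_idem D hv₁b
  have hne : E - P ≠ 0 := fun e => by
    rw [sub_eq_zero] at e
    have hR : D.star (S * refl D v₁) * (S * refl D v₁) = 1 := by
      rw [D.star_mul, star_refl D hε, mul_assoc, ← mul_assoc (D.star S), hSs, one_mul, refl_sq D hv₁b]
    obtain ⟨h, hhdef⟩ : ∃ h, h = S * refl D v₁ := ⟨_, rfl⟩
    rw [← hhdef] at hR
    have hdh : h.det = -1 := by rw [hhdef, det_mul, hdet, det_refl D hv₁b, one_mul]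
    have hd : (h + 1).det = 0 := by
      have e1 : D.star (h + 1) = D.star h * (h + 1) := by
        rw [D.star_add, D.star_one, mul_add, hR, mul_one, add_comm]
      have h2 := congrArg Matrix.det e1
      rw [D.det_star, det_mul, D.det_star, hdh] at h2
      exact (mul_eq_zero.1 (show (2 : F) * (h + 1).det = 0 by linear_combination h2)).resolve_left D.two_ne
    obtain ⟨y, hy0, hy⟩ := Matrix.exists_mulVec_eq_zero_iff.2 hd
    rw [add_mulVec, one_mulVec, add_eq_zero_iff_eq_neg] at hy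
    have hSP : P * S = -P := by
      rw [← e]
      exact (hEdef ▸ (commute_avg (show S * S = S * S from rfl) m (-1 : F)).symm : E * S = S * E).trans hES
    have hPh : P * h = P := by
      rw [hhdef, refl_eq, ← hPdef, ← mul_assoc, hSP, neg_mul, mul_sub, mul_one, mul_smul_comm, hPP, two_smul]
      abel
    have hPy : P *ᵥ y = 0 := by
      have h3 : P *ᵥ (h *ᵥ y) = P *ᵥ y := by rw [mulVec_mulVec, hPh]
      rw [hy, mulVec_neg] at h3
      have : (2 : F) • (P *ᵥ y) = 0 := by rw [two_smul]; exact neg_eq_iff_add_eq_zero.1 h3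
      exact (smul_eq_zero.1 this).resolve_left D.two_ne
    have hSy : S *ᵥ y = -y := by
      rw [← hy, hhdef, ← mulVec_mulVec, refl_eq, ← hPdef, sub_mulVec, one_mulVec, smul_mulVec, hPy, smul_zero, sub_zero]
    exact hy0 (by rw [← hEz y hSy, e, hPy])
  have hF : (E - P) * (E - P) = E - P := by
    rw [sub_mul, mul_sub, mul_sub, hE, hEP, hPE, hPP, sub_self, sub_zero]
  obtain ⟨v₂, hv₂, hv₂b⟩ := exists_aniso D hε hF (by rw [D.star_sub, hEs, hPdef, star_proj1 D hε]) hne
  have hEv₂ : E *ᵥ v₂ = v₂ := by rw [← hv₂, mulVec_mulVec, mul_sub, hE, hEP]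
  have horth : bil D.B v₂ v₁ = 0 := by
    have h : P *ᵥ v₂ = 0 := by rw [← hv₂, mulVec_mulVec, mul_sub, hPE, hPP, sub_self, zero_mulVec]
    rw [hPdef, proj1_mulVec] at h
    rcases smul_eq_zero.1 h with h' | h'
    · exact (mul_eq_zero.1 h').resolve_left (inv_ne_zero hv₁b)
    · exact absurd (by simp [h', bil]) hv₁b
  obtain ⟨δ, hδ⟩ : ∃ δ : F, ¬ IsSquare δ := FiniteField.exists_nonsquare (fun hc => D.two_ne (by
    haveI := ringChar.charP F
    rw [show (2 : F) = ((2 : ℕ) : F) by norm_num, CharP.cast_eq_zero_iff F (ringChar F), hc]))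
  have hδ0 : δ ≠ 0 := fun e => hδ (e ▸ ⟨0, (zero_mul 0).symm⟩)
  obtain ⟨c, hc⟩ : ∃ c, c = δ * (bil D.B u u)⁻¹ := ⟨_, rfl⟩
  have hc0 : c ≠ 0 := hc ▸ mul_ne_zero hδ0 (inv_ne_zero hub)
  obtain ⟨x, y, hxy⟩ := FiniteField.exists_root_sum_quadratic (R := F)
    (f := C (bil D.B v₁ v₁) * X ^ 2 + C 0 * X + C (-c)) (g := C (bil D.B v₂ v₂) * X ^ 2 + C 0 * X + C 0)
    (degree_quadratic hv₁b) (degree_quadratic hv₂b) (Nat.odd_iff.1 (by
      obtain ⟨k, hk⟩ := FiniteField.odd_card_of_char_ne_two (F := F) (fun hc => D.two_ne (by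
        haveI := ringChar.charP F
        rw [show (2 : F) = ((2 : ℕ) : F) by norm_num, CharP.cast_eq_zero_iff F (ringChar F), hc])) |> Nat.odd_iff.2
      exact ⟨k, hk⟩))
  simp only [eval_add, eval_mul, eval_C, eval_pow, eval_X, zero_mul, add_zero] at hxy
  have hval : bil D.B (x • v₁ + y • v₂) (x • v₁ + y • v₂) = c := by
    have h12 := D.bil_comm v₂ v₁
    rw [hε, one_mul, horth] at h12
    simp only [bil, mulVec_add, mulVec_smul, dotProduct_add, add_dotProduct, dotProduct_smul, smul_dotProduct, smul_eq_mul] at hxy h12 horth ⊢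
    linear_combination hxy + (x * y) * h12 + (x * y) * horth
  refine ⟨u, x • v₁ + y • v₂, huS, hEneg _ (by rw [mulVec_add, mulVec_smul, mulVec_smul, hv₁, hEv₂]), hub, hval ▸ hc0, ?_⟩
  rw [hval, hc, mul_comm δ, ← mul_assoc, mul_inv_cancel₀ hub, one_mul]
  exact hδ

/-- The change of a semisimple isometry by two reflections keeps its type. -/
theorem exists_pair_conj (hε : D.ε = 1) {s : GL (Fin n) F} (hs : s ∈ isoGrp D.B) {u v : Fin n → F}
    (hu : (s : Matrix (Fin n) (Fin n) F) *ᵥ u = u) (hv : (s : Matrix (Fin n) (Fin n) F) *ᵥ v = -v)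
    (hub : bil D.B u u ≠ 0) (hvb : bil D.B v v ≠ 0) :
    ∃ s₂ : GL (Fin n) F, (s₂ : Matrix (Fin n) (Fin n) F) = s * (refl D u * refl D v) ∧ s₂ ∈ isoGrp D.B ∧ IsConj s s₂ := by
  classical
  obtain ⟨S, hSdef⟩ : ∃ S, S = (s : Matrix (Fin n) (Fin n) F) := ⟨_, rfl⟩
  rw [← hSdef] at hu hv
  have hSs : D.star S * S = 1 := hSdef ▸ (D.mem_isoGrp_iff s).1 hs
  have hcomm : ∀ {x y}, bil D.B x y = bil D.B y x := fun {x y} => by rw [D.bil_comm y x, hε, one_mul]
  have huv : bil D.B u v = 0 := by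
    have h := D.bil_star S u (S *ᵥ v)
    rw [mulVec_mulVec, hSs, one_mulVec, hu, hv] at h
    have e : bil D.B u (-v) = -bil D.B u v := by simp [bil, mulVec_neg]
    rw [e] at h
    exact (mul_eq_zero.1 (show (2 : F) * bil D.B u v = 0 by linear_combination -h)).resolve_left D.two_ne
  have hfu : ∀ y, bil D.B (S *ᵥ y) u = bil D.B y u := fun y => by
    conv_lhs => rw [← hu]
    rw [D.bil_star, mulVec_mulVec, hSs, one_mulVec]
  have hfv : ∀ y, bil D.B (S *ᵥ y) v = -bil D.B y v := fun y => by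
    conv_lhs => rw [← neg_neg v, ← hv, show -(S *ᵥ v) = S *ᵥ (-v) from (mulVec_neg v S).symm]
    rw [D.bil_star, mulVec_mulVec, hSs, one_mulVec]
    simp [bil, mulVec_neg]
  obtain ⟨f, hfdef⟩ : ∃ f : (Fin n → F) → (Fin n → F) → F, ∀ w y, f w y = (bil D.B w w)⁻¹ * bil D.B y w :=
    ⟨_, fun _ _ => rfl⟩
  have huu : f u u = 1 := by rw [hfdef, inv_mul_cancel₀ hub]
  have hvv : f v v = 1 := by rw [hfdef, inv_mul_cancel₀ hvb]
  have huv' : f u v = 0 := by rw [hfdef, hcomm (x := v) (y := u), huv, mul_zero]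
  have hvu' : f v u = 0 := by rw [hfdef, huv, mul_zero]
  obtain ⟨P, hP⟩ : ∃ P : Matrix (Fin n) (Fin n) F, ∀ y, P *ᵥ y = y - (f u y - f v y) • (u - v) := by
    refine ⟨1 - vecMulVec (u - v) ((bil D.B u u)⁻¹ • (D.B *ᵥ u) - (bil D.B v v)⁻¹ • (D.B *ᵥ v)), fun y => ?_⟩
    rw [sub_mulVec, one_mulVec, vecMulVec_mulVec, hfdef, hfdef]
    ext i
    simp [bil, sub_dotProduct, dotProduct_comm y]
    ring
  have hPP : P * P = 1 := Matrix.ext_of_mulVec_single fun i => by
    obtain ⟨y, -⟩ : ∃ y, y = (Pi.single i 1 : Fin n → F) := ⟨_, rfl⟩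
    rw [← mulVec_mulVec, one_mulVec, hP, hP]
    have hlin : ∀ w a t b, f w (a - t • b) = f w a - t * f w b := fun w a t b => by
      simp only [hfdef, bil, sub_dotProduct, smul_dotProduct, smul_eq_mul]; ring
    have hlin2 : ∀ w a b, f w (a - b) = f w a - f w b := fun w a b => by
      simp only [hfdef, bil, sub_dotProduct]; ring
    rw [hlin, hlin, hlin2 u u v, hlin2 v u v, huu, hvv, huv', hvu']
    match_scalars <;> ring
  obtain ⟨T, hTdef⟩ : ∃ T, T = S * (refl D u * refl D v) := ⟨_, rfl⟩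
  have hT : T * P = P * S := Matrix.ext_of_mulVec_single fun i => by
    obtain ⟨y, hy⟩ : ∃ y, y = (Pi.single i 1 : Fin n → F) := ⟨_, rfl⟩
    rw [← hy]
    have hR : ∀ w z, refl D w *ᵥ z = z - (2 * f w z) • w := fun w z => by
      rw [refl_eq, sub_mulVec, one_mulVec, smul_mulVec, proj1_mulVec, smul_smul, hfdef]
    have hlin : ∀ w a t b, f w (a - t • b) = f w a - t * f w b := fun w a t b => by
      simp only [hfdef, bil, sub_dotProduct, smul_dotProduct, smul_eq_mul]; ring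
    have hSu : f u (S *ᵥ y) = f u y := by rw [hfdef, hfdef, hfu]
    have hSv : f v (S *ᵥ y) = -f v y := by rw [hfdef, hfdef, hfv, mul_neg]
    have hlin2 : ∀ w a b, f w (a - b) = f w a - f w b := fun w a b => by
      simp only [hfdef, bil, sub_dotProduct]; ring
    rw [hTdef, ← mulVec_mulVec, ← mulVec_mulVec, ← mulVec_mulVec, ← mulVec_mulVec, hP, hP, hR, hR]
    simp only [hlin, hlin2, huu, hvv, huv', hvu', hSu, hSv, mulVec_sub, mulVec_smul, hu, hv]
    module
  have hTT : D.star T * T = 1 := by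
    rw [hTdef, D.star_mul, D.star_mul, star_refl D hε, star_refl D hε, mul_assoc, ← mul_assoc (D.star S), hSs, one_mul,
      mul_assoc, ← mul_assoc (refl D u), refl_sq D hub, one_mul, refl_sq D hvb]
  obtain ⟨Pu, rfl⟩ : IsUnit P := IsUnit.of_mul_eq_one P hPP
  obtain ⟨Tu, rfl⟩ : IsUnit T := (IsUnit.of_mul_eq_one _ (mul_eq_one_comm.1 hTT))
  refine ⟨Tu, hSdef ▸ hTdef, (D.mem_isoGrp_iff Tu).2 hTT, isConj_iff.2 ⟨Pu, ?_⟩⟩
  rw [mul_inv_eq_iff_eq_mul]
  exact Units.ext (by rw [Units.val_mul, Units.val_mul, ← hSdef]; exact hT.symm)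

set_option maxHeartbeats 800000 in
/-- Changing one discriminant at `1` and one at `-1`. -/
theorem exists_flipped (hε : D.ε = 1) {g₀ g x : GL (Fin n) F} (M : BlockData (g₀ : Matrix (Fin n) (Fin n) F))
    (h₀ : g₀ ∈ isoGrp D.B) (hg : g ∈ isoGrp D.B) (hx : x * g₀ = g * x)
    (xp xm : Slot D M) (hp : xp.1.1 = 1) (hq : xm.1.1 = -1) :
    ∃ (g' x' : GL (Fin n) F) (hg' : g' ∈ isoGrp D.B), x' * g₀ = g' * x' ∧
      (∀ y, disc D M (D.star (x' : Matrix (Fin n) (Fin n) F) * x') y ↔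
        ((y = xp ∨ y = xm) ↔ ¬ disc D M (D.star (x : Matrix (Fin n) (Fin n) F) * x) y)) ∧
      ∀ (K m : ℕ), Even m → (m : F) ≠ 0 → (g₀ ^ K) ^ m = 1 →
        (∀ r : F, r * r = 1 → ∀ y : Fin n → F, nilPow (g₀ : Matrix (Fin n) (Fin n) F) r n *ᵥ y = 0 →
          ((g₀ ^ K : GL (Fin n) F) : Matrix (Fin n) (Fin n) F) *ᵥ y = r • y) →
        ¬ IsConj (⟨g ^ K, pow_mem hg K⟩ : isoGrp D.B) (⟨g' ^ K, pow_mem hg' K⟩ : isoGrp D.B) := by
  classical
  obtain ⟨S, hSdef⟩ : ∃ S, S = D.star (x : Matrix (Fin n) (Fin n) F) * x := ⟨_, rfl⟩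
  rw [← hSdef]
  have hG := (D.mem_isoGrp_iff g₀).1 h₀
  have hSA : IsSA D (G := (g₀ : Matrix (Fin n) (Fin n) F)) S := hSdef ▸ isSA_of_conj D h₀ hg hx
  obtain ⟨δ, hδ⟩ : ∃ δ : F, ¬ IsSquare δ := FiniteField.exists_nonsquare (fun hc => D.two_ne (by
    haveI := ringChar.charP F
    rw [show (2 : F) = ((2 : ℕ) : F) by norm_num, CharP.cast_eq_zero_iff F (ringChar F), hc]))
  have hδ0 : δ ≠ 0 := fun e => hδ (e ▸ ⟨0, (zero_mul 0).symm⟩)
  obtain ⟨i₁, a₁, b₁, T₁, S₁, hi₁, hk₁, ha₁, ha₁u, hb₁, hb₁i, hb₁o, -, hT₁, hT₁n, hS₁, hS₁A, hd₁, hdisc₁⟩ :=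
    exists_flip D M hG hε hSA xp hδ
  obtain ⟨i₂, a₂, b₂, T₂, S₂, hi₂, hk₂, ha₂, ha₂u, hb₂, hb₂i, hb₂o, hb₂d, hT₂, hT₂n, hS₂, hS₂A, hd₂, hdisc₂⟩ :=
    exists_flip D M hG hε hS₁A xm hδ
  have hne : (1 : F) ≠ -1 := fun e => D.two_ne (by linear_combination e)
  have hpm : xp ≠ xm := fun e => hne (hp.symm.trans ((congrArg (fun z : Slot D M => z.1.1) e).trans hq))
  have hBs : D.Bᵀ = D.B := by rw [D.sym, hε, one_smul]
  have hBu : IsUnit D.B := IsUnit.of_mul_eq_one _ D.mul_inv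
  have hsym : (D.B * S₂)ᵀ = D.B * S₂ := by
    conv_rhs => rw [← hS₂A.star_eq]
    simp only [FormData.star, adj]
    rw [transpose_mul, hBs, ← Matrix.mul_assoc, ← Matrix.mul_assoc, D.mul_inv, Matrix.one_mul]
  have hsq : IsSquare ((D.B * S₂).det * D.B.det) := by
    obtain ⟨j₁, hj₁⟩ := hk₁
    obtain ⟨j₂, hj₂⟩ := hk₂
    rw [det_mul, hd₂, hd₁, hSdef, det_mul, D.det_star, hj₁, hj₂]
    exact ⟨D.B.det * (x : Matrix (Fin n) (Fin n) F).det * a₁.det * a₂.det * δ ^ (j₁ + j₂ + 1), by ring⟩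
  obtain ⟨Q, hQu, hQ⟩ := congr_sym D.two_ne hsym hBs (hBu.mul hS₂A.unit) hBu hsq
  obtain ⟨x', rfl⟩ := hQu
  have hx'S : D.star (x' : Matrix (Fin n) (Fin n) F) * x' = S₂ := by
    simp only [FormData.star, adj]
    rw [Matrix.mul_assoc D.Bi, Matrix.mul_assoc D.Bi, hQ, ← Matrix.mul_assoc, D.inv_mul, Matrix.one_mul]
  have hg' : x' * g₀ * x'⁻¹ ∈ isoGrp D.B := by
    rw [D.mem_isoGrp_iff]
    simp only [Units.val_mul, D.star_mul]
    calc D.star ((x'⁻¹ : GL (Fin n) F) : Matrix (Fin n) (Fin n) F) * (D.star (g₀ : Matrix (Fin n) (Fin n) F) * D.star (x' : Matrix (Fin n) (Fin n) F)) *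
          ((x' : Matrix (Fin n) (Fin n) F) * g₀ * ((x'⁻¹ : GL (Fin n) F) : Matrix (Fin n) (Fin n) F))
        = D.star ((x'⁻¹ : GL (Fin n) F) : Matrix (Fin n) (Fin n) F) * (D.star (g₀ : Matrix (Fin n) (Fin n) F) *
            ((D.star (x' : Matrix (Fin n) (Fin n) F) * x') * g₀)) * ((x'⁻¹ : GL (Fin n) F) : Matrix (Fin n) (Fin n) F) := by
          simp only [mul_assoc]
      _ = D.star ((x'⁻¹ : GL (Fin n) F) : Matrix (Fin n) (Fin n) F) * (D.star (x' : Matrix (Fin n) (Fin n) F) * x') *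
            ((x'⁻¹ : GL (Fin n) F) : Matrix (Fin n) (Fin n) F) := by
          rw [hx'S, hS₂A.comm, ← mul_assoc (D.star (g₀ : Matrix (Fin n) (Fin n) F)), hG, one_mul]
      _ = D.star ((x' : Matrix (Fin n) (Fin n) F) * ((x'⁻¹ : GL (Fin n) F) : Matrix (Fin n) (Fin n) F)) *
            ((x' : Matrix (Fin n) (Fin n) F) * ((x'⁻¹ : GL (Fin n) F) : Matrix (Fin n) (Fin n) F)) := by
          rw [D.star_mul]; simp only [mul_assoc]
      _ = 1 := by rw [Units.mul_inv, mul_one, D.star_one]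
  refine ⟨x' * g₀ * x'⁻¹, x', hg', (inv_mul_cancel_right _ _).symm, fun y => ?_, fun K m hev hm hKm hsem hconj => ?_⟩
  · rw [hx'S]
    rcases eq_or_ne y xm with rfl | hym
    · rw [hdisc₂.1, hdisc₁.2 y hpm.symm]
      simp
    · rw [hdisc₂.2 y hym]
      rcases eq_or_ne y xp with rfl | hyp
      · rw [hdisc₁.1]; simp
      · rw [hdisc₁.2 y hyp]; simp [hyp, hym]
  obtain ⟨E, hEdef⟩ : ∃ E, E = avg m (-1 : F) (((g₀ ^ K : GL (Fin n) F)) : Matrix (Fin n) (Fin n) F) := ⟨_, rfl⟩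
  have hm1 : (-1 : F) * -1 = 1 := by ring
  have hpow : (((g₀ ^ K : GL (Fin n) F)) : Matrix (Fin n) (Fin n) F) ^ m = 1 := by
    rw [← Units.val_pow_eq_pow_val, hKm, Units.val_one]
  have hEE : E * E = E := hEdef ▸ avg_idem hm hev hpow hm1
  have hEs : D.star E = E := hEdef ▸ star_avg D hev hpow ((D.mem_isoGrp_iff _).1 (pow_mem h₀ K)) hm1
  have hEc : ∀ {A : Matrix (Fin n) (Fin n) F}, A * (g₀ : Matrix (Fin n) (Fin n) F) = g₀ * A → A * E = E * A := fun {A} hA => by
    rw [hEdef]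
    exact commute_avg (by rw [Units.val_pow_eq_pow_val]; exact (show Commute A (g₀ : Matrix (Fin n) (Fin n) F) from hA).pow_right K) m _
  have hgenK : ∀ (y : Slot D M) (i : M.ι), M.pe i = (X - C y.1.1, (y.1.2 : ℕ) + 1) →
      ((g₀ ^ K : GL (Fin n) F) : Matrix (Fin n) (Fin n) F) *ᵥ M.gen i = y.1.1 • M.gen i := fun y i hi => by
    refine hsem _ y.2.1 _ (ker_nilPow_le _ ((y.1.2 : ℕ) + 1) ?_)
    have := M.gen_mem_ker i
    rwa [hi] at this
  have hEG : E * (g₀ : Matrix (Fin n) (Fin n) F) = g₀ * E := (hEc rfl).symm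
  have hone : (1 - E) * (g₀ : Matrix (Fin n) (Fin n) F) = g₀ * (1 - E) := by rw [sub_mul, mul_sub, hEG, one_mul, mul_one]
  have hdiag : ∀ (b : Matrix (Fin n) (Fin n) F) (i : M.ι), b * (g₀ : Matrix (Fin n) (Fin n) F) = g₀ * b →
      (∀ j, j ≠ i → b *ᵥ M.gen j = M.gen j) →
      (E *ᵥ M.gen i = 0 → eDet E b = 1) ∧ (E *ᵥ M.gen i = M.gen i → eDet E b = b.det) := by
    intro b i hb hbo
    have hcomm : (b * E + (1 - E)) * (g₀ : Matrix (Fin n) (Fin n) F) = g₀ * (b * E + (1 - E)) := by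
      rw [add_mul, mul_add, hone, mul_assoc, hEG, ← mul_assoc, hb, mul_assoc]
    have hother : ∀ j, j ≠ i → (b * E + (1 - E)) *ᵥ M.gen j = M.gen j := fun j hj => by
      rw [add_mulVec, hEc hb, ← mulVec_mulVec, hbo j hj, sub_mulVec, one_mulVec, add_sub_cancel]
    refine ⟨fun h => ?_, fun h => ?_⟩
    · rw [eDet, M.eq_of_gen hcomm (b := 1) (by rw [one_mul, mul_one]) fun j => ?_, det_one]
      rcases eq_or_ne j i with rfl | hj
      · rw [add_mulVec, ← mulVec_mulVec, h, mulVec_zero, sub_mulVec, h, one_mulVec, sub_zero, zero_add]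
      · rw [hother j hj, one_mulVec]
    · rw [eDet, M.eq_of_gen hcomm hb fun j => ?_]
      rcases eq_or_ne j i with rfl | hj
      · rw [add_mulVec, ← mulVec_mulVec, h, sub_mulVec, h, one_mulVec, sub_self, add_zero]
      · rw [hother j hj, hbo j hj]
  have e1 : eDet E b₁ = 1 := (hdiag b₁ i₁ hb₁ hb₁o).1 (hEdef ▸ avg_mulVec_neg D hm hev hm1 (by
    rw [hgenK xp i₁ hi₁, hp]; simp))
  have e2 : eDet E b₂ = b₂.det := (hdiag b₂ i₂ hb₂ hb₂o).2 (hEdef ▸ avg_mulVec hm hm1 (by rw [hgenK xm i₂ hi₂, hq]))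
  have hstar : ∀ {A : Matrix (Fin n) (Fin n) F}, A * (g₀ : Matrix (Fin n) (Fin n) F) = g₀ * A → D.star A * E = E * D.star A :=
    fun {A} hA => by
      have h1 := congrArg D.star (hEc hA)
      rwa [D.star_mul, D.star_mul, hEs, eq_comm] at h1
  have hcalc : ∀ (S' a b T : Matrix (Fin n) (Fin n) F), S' * (g₀ : Matrix (Fin n) (Fin n) F) = g₀ * S' →
      a * (g₀ : Matrix (Fin n) (Fin n) F) = g₀ * a → b * (g₀ : Matrix (Fin n) (Fin n) F) = g₀ * b →
      T * (g₀ : Matrix (Fin n) (Fin n) F) = g₀ * T → IsNilpotent T →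
      eDet E (D.star a * S' * a * (b * (1 + T))) = eDet E a ^ 2 * eDet E S' * eDet E b := by
    intro S' a b T hS' ha hb hT hn
    have hT1 : (1 + T) * E = E * (1 + T) := by rw [add_mul, mul_add, hEc hT, one_mul, mul_one]
    rw [eDet_mul hEE (show b * (1 + T) * E = E * (b * (1 + T)) by rw [mul_assoc, hT1, ← mul_assoc, hEc hb, mul_assoc]),
      eDet_mul hEE (hEc ha), eDet_mul hEE (hEc hS'), eDet_mul hEE hT1, eDet_star D hEs (hEc ha),
      eDet_nilpotent (hEc hT) hn]
    ring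
  have hE2 : eDet E S₂ = eDet E a₂ ^ 2 * eDet E a₁ ^ 2 * eDet E S * δ ^ ((xm.1.2 : ℕ) + 1) := by
    rw [hS₂, hcalc _ _ _ _ hS₁A.comm ha₂ hb₂ hT₂ hT₂n, hS₁, hcalc _ _ _ _ hSA.comm ha₁ hb₁ hT₁ hT₁n, e1, e2, hb₂d]
    ring
  obtain ⟨c, hc⟩ := isConj_iff.1 hconj
  obtain ⟨c, hcO⟩ := c
  have hc' : c * g ^ K * c⁻¹ = (x' * g₀ * x'⁻¹) ^ K := congrArg Subtype.val hc
  have hgx : g = x * g₀ * x⁻¹ := by rw [hx, mul_inv_cancel_right]
  rw [hgx, conj_pow, conj_pow] at hc'
  obtain ⟨w, hw⟩ : ∃ w, w = x'⁻¹ * c * x := ⟨_, rfl⟩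
  have hwc : w * g₀ ^ K = g₀ ^ K * w := by
    rw [hw]
    calc x'⁻¹ * c * x * g₀ ^ K = x'⁻¹ * (c * (x * g₀ ^ K * x⁻¹) * c⁻¹) * (c * x) := by group
      _ = _ := by rw [hc']; group
  have hwE : (w : Matrix (Fin n) (Fin n) F) * E = E * w := by
    rw [hEdef]
    exact commute_avg (by rw [← Units.val_mul, hwc, Units.val_mul]) m _
  have hww : D.star (w : Matrix (Fin n) (Fin n) F) * S₂ * w = S := by
    have hcO' := (D.mem_isoGrp_iff c).1 hcO
    have e : (x' : Matrix (Fin n) (Fin n) F) * w = c * x := by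
      rw [← Units.val_mul, ← Units.val_mul, hw]
      exact congrArg Units.val (by group)
    calc D.star (w : Matrix (Fin n) (Fin n) F) * S₂ * w = D.star ((x' : Matrix (Fin n) (Fin n) F) * w) * ((x' : Matrix (Fin n) (Fin n) F) * w) := by
          rw [← hx'S, D.star_mul]; simp only [mul_assoc]
      _ = D.star (x : Matrix (Fin n) (Fin n) F) * ((D.star (c : Matrix (Fin n) (Fin n) F) * c) * x) := by
          rw [e, D.star_mul]; simp only [mul_assoc]
      _ = S := by rw [hcO', one_mul, hSdef]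
  have hE3 : eDet E S = eDet E (w : Matrix (Fin n) (Fin n) F) ^ 2 * eDet E S₂ := by
    conv_lhs => rw [← hww]
    rw [eDet_mul hEE hwE, eDet_mul hEE (hEc hS₂A.comm), eDet_star D hEs hwE]
    ring
  have hS0 : eDet E S ≠ 0 := by
    obtain ⟨Si, hSi⟩ := hSA.unit.exists_left_inv
    intro h0
    have h1 := eDet_mul hEE (S := Si) (hEc hSA.comm)
    rw [hSi, h0, mul_zero] at h1
    simp [eDet] at h1
  rw [hE2] at hE3
  obtain ⟨j, hj⟩ := hk₂
  rw [hj] at hE3
  refine hδ ?_
  obtain ⟨t, ht⟩ : ∃ t, t = eDet E (w : Matrix (Fin n) (Fin n) F) * eDet E a₂ * eDet E a₁ * δ ^ j := ⟨_, rfl⟩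
  have ht1 : t * t * δ = 1 := by
    refine mul_right_cancel₀ hS0 ?_
    rw [ht, one_mul]
    linear_combination -hE3
  refine ⟨t⁻¹, ?_⟩
  have ht0 : t ≠ 0 := fun e => by simp [e] at ht1
  field_simp
  linear_combination ht1

end CfsgLib.CClassBound
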