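import Cfsg.Agent.Lib.Classical.SymBilin
import Cfsg.Agent.Lib.Classical.AltBasis

/-!
# Congruence of symmetric and alternating matrices
-/

set_option autoImplicit false

namespace CfsgLib.CClassBound

open Matrix CfsgLib.Classical

universe u v

variable {F : Type u} [Field F] {ι : Type v} [Fintype ι] [DecidableEq ι]

theorem congr_of_equiv {A A' : Matrix ι ι F} (e : (ι → F) ≃ₗ[F] (ι → F))
    (he : ∀ u v, Matrix.toBilin' A' (e u) (e v) = Matrix.toBilin' A u v) :
    ∃ Q : Matrix ι ι F, IsUnit Q ∧ Qᵀ * A' * Q = A := by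
  refine ⟨LinearMap.toMatrix' e.toLinearMap, IsUnit.of_mul_eq_one (LinearMap.toMatrix' e.symm.toLinearMap) ?_,
    Matrix.toBilin'.injective ?_⟩
  · rw [← LinearMap.toMatrix'_comp, LinearEquiv.comp_coe, LinearEquiv.symm_trans_self, LinearEquiv.refl_toLinearMap,
      LinearMap.toMatrix'_id]
  · rw [← Matrix.toBilin'_comp]
    refine LinearMap.ext₂ fun u v => ?_
    rw [LinearMap.BilinForm.comp_apply, Matrix.toLin'_toMatrix']
    exact he u v

/-- Symmetric matrices of the same discriminant are congruent. -/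
theorem congr_sym [Finite F] (h2 : (2 : F) ≠ 0) {A A' : Matrix ι ι F} (hA : Aᵀ = A) (hA' : A'ᵀ = A')
    (hu : IsUnit A) (hu' : IsUnit A') (hd : IsSquare (A.det * A'.det)) :
    ∃ Q : Matrix ι ι F, IsUnit Q ∧ Qᵀ * A' * Q = A := by
  have hS : ∀ {M : Matrix ι ι F}, Mᵀ = M → ∀ u v, Matrix.toBilin' M u v = Matrix.toBilin' M v u :=
    fun {M} hM u v => by
      rw [Matrix.toBilin'_apply', Matrix.toBilin'_apply', dotProduct_mulVec, ← Matrix.mulVec_transpose, hM, dotProduct_comm]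
  have hnd : ∀ {M : Matrix ι ι F}, IsUnit M → (Matrix.toBilin' M).Nondegenerate := fun {M} hM =>
    LinearMap.BilinForm.nondegenerate_toBilin'_iff_det_ne_zero.2 ((Matrix.isUnit_iff_isUnit_det _).1 hM).ne_zero
  have hg : ∀ M : Matrix ι ι F,
      (Matrix.of fun i j => Matrix.toBilin' M (Pi.basisFun F ι i) (Pi.basisFun F ι j)) = M := fun M =>
    Matrix.ext fun i j => by rw [Matrix.of_apply, Pi.basisFun_apply, Pi.basisFun_apply, Matrix.toBilin'_single]
  obtain ⟨e, he⟩ := exists_isometry_of_disc h2 (Matrix.toBilin' A) (Matrix.toBilin' A') (hS hA) (hS hA') (hnd hu)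
    (hnd hu') (Pi.basisFun F ι) (Pi.basisFun F ι) rfl (by rw [hg, hg]; exact hd)
  exact congr_of_equiv e he

/-- A symmetric matrix is congruent to a diagonal one with all but one entry equal to one. -/
theorem exists_diag_congr [Finite F] (h2 : (2 : F) ≠ 0) {A : Matrix ι ι F} (hA : Aᵀ = A) (hu : IsUnit A) (i₀ : ι) :
    ∃ Q : Matrix ι ι F, IsUnit Q ∧ Qᵀ * A * Q = Matrix.diagonal (Function.update (fun _ => 1) i₀ A.det) := by
  have hd : (Matrix.diagonal (Function.update (fun _ : ι => (1 : F)) i₀ A.det)).det = A.det := by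
    rw [Matrix.det_diagonal, Finset.prod_update_of_mem (Finset.mem_univ _), Finset.prod_const_one, mul_one]
  refine congr_sym h2 (diagonal_transpose _) hA ?_ hu ?_
  · rw [Matrix.isUnit_iff_isUnit_det, hd, ← Matrix.isUnit_iff_isUnit_det]; exact hu
  · rw [hd]; exact ⟨_, rfl⟩

theorem isAlt_toBilin' (h2 : (2 : F) ≠ 0) {A : Matrix ι ι F} (hA : Aᵀ = -A) : (Matrix.toBilin' A).IsAlt := fun v => by
  have h : v ⬝ᵥ A *ᵥ v = -(v ⬝ᵥ A *ᵥ v) := by
    conv_lhs => rw [dotProduct_mulVec, ← Matrix.mulVec_transpose, hA, Matrix.neg_mulVec, neg_dotProduct, dotProduct_comm]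
  rw [Matrix.toBilin'_apply']
  exact (mul_eq_zero.1 (show (2 : F) * (v ⬝ᵥ A *ᵥ v) = 0 by linear_combination h)).resolve_left h2

/-- Alternating invertible matrices are congruent, of even size and of square determinant. -/
theorem congr_alt (h2 : (2 : F) ≠ 0) {A A' : Matrix ι ι F} (hA : Aᵀ = -A) (hA' : A'ᵀ = -A')
    (hu : IsUnit A) (hu' : IsUnit A') :
    ∃ Q : Matrix ι ι F, IsUnit Q ∧ Qᵀ * A' * Q = A := by
  have hnd : ∀ {M : Matrix ι ι F}, IsUnit M → ∀ v, (∀ w, Matrix.toBilin' M v w = 0) → v = 0 := fun {M} hM =>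
    (LinearMap.BilinForm.nondegenerate_toBilin'_iff_det_ne_zero.2 ((Matrix.isUnit_iff_isUnit_det _).1 hM).ne_zero).1
  obtain ⟨m, hm, e, he⟩ := exists_symp_equiv (Matrix.toBilin' A) (isAlt_toBilin' h2 hA) (hnd hu)
  obtain ⟨m', hm', e', he'⟩ := exists_symp_equiv (Matrix.toBilin' A') (isAlt_toBilin' h2 hA') (hnd hu')
  obtain rfl : m = m' := by omega
  refine congr_of_equiv (e.symm.trans e') fun u v => ?_
  rw [LinearEquiv.trans_apply, LinearEquiv.trans_apply, he', ← he, LinearEquiv.apply_symm_apply,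
    LinearEquiv.apply_symm_apply]

theorem even_card_of_alt (h2 : (2 : F) ≠ 0) {A : Matrix ι ι F} (hA : Aᵀ = -A) (hu : IsUnit A) :
    Even (Fintype.card ι) := by
  obtain ⟨m, hm, -⟩ := exists_symp_equiv (Matrix.toBilin' A) (isAlt_toBilin' h2 hA)
    (LinearMap.BilinForm.nondegenerate_toBilin'_iff_det_ne_zero.2 ((Matrix.isUnit_iff_isUnit_det _).1 hu).ne_zero).1
  rw [Module.finrank_pi] at hm
  exact ⟨m, by omega⟩

theorem isSquare_det_of_alt (h2 : (2 : F) ≠ 0) {A : Matrix ι ι F} (hA : Aᵀ = -A) (hu : IsUnit A) :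
    IsSquare A.det := by
  obtain ⟨m, hm⟩ := even_card_of_alt h2 hA hu
  obtain ⟨e⟩ : Nonempty (ι ≃ Fin m ⊕ Fin m) := ⟨Fintype.equivOfCardEq (by simp [hm])⟩
  let J' : Matrix ι ι F := (Matrix.J (Fin m) F).submatrix e e
  have hJd : J'.det = 1 := by
    rw [Matrix.det_submatrix_equiv_self]
    exact SymplecticGroup.det_eq_one (SymplecticGroup.J_mem (Fin m) F)
  obtain ⟨Q, -, hQ⟩ := congr_alt h2 hA (A' := J') (by
    show ((Matrix.J (Fin m) F).submatrix e e)ᵀ = -(Matrix.J (Fin m) F).submatrix e e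
    rw [Matrix.transpose_submatrix, Matrix.J_transpose, Matrix.submatrix_neg]
    rfl) hu ((Matrix.isUnit_iff_isUnit_det _).2 (by rw [hJd]; exact isUnit_one))
  refine ⟨Q.det, ?_⟩
  rw [← hQ, Matrix.det_mul, Matrix.det_mul, Matrix.det_transpose, hJd, mul_one]

end CfsgLib.CClassBound
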