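import Mathlib

/-!
# Conjugacy classes of a subgroup of index two
-/

set_option autoImplicit false

namespace CfsgLib.CClassBound

open MulAction

variable {G : Type*} [Group G]

/-- The classes of `G` inside the subgroup `H`. -/
abbrev InClasses (H : Subgroup G) : Type _ := {c : ConjClasses G // ∀ g, ConjClasses.mk g = c → g ∈ H}

/-- The classes of `G` outside the subgroup `H`. -/
abbrev OutClasses (H : Subgroup G) : Type _ := {c : ConjClasses G // ∀ g, ConjClasses.mk g = c → g ∉ H}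

theorem mem_iff_of_mk_eq (H : Subgroup G) [H.Normal] {a b : G} (h : ConjClasses.mk a = ConjClasses.mk b) :
    a ∈ H ↔ b ∈ H := by
  obtain ⟨c, rfl⟩ := isConj_iff.1 (ConjClasses.mk_eq_mk_iff_isConj.1 h)
  refine ⟨fun ha => ‹H.Normal›.conj_mem a ha c, fun hb => ?_⟩
  have := ‹H.Normal›.conj_mem _ hb c⁻¹
  simpa [mul_assoc] using this

theorem card_in_add_out [Finite G] (H : Subgroup G) [H.Normal] :
    Nat.card (InClasses H) + Nat.card (OutClasses H) = Nat.card (ConjClasses G) := by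
  classical
  have e : OutClasses H ≃ {c : ConjClasses G // ¬ ∀ g, ConjClasses.mk g = c → g ∈ H} :=
    Equiv.subtypeEquivRight fun c => by
      obtain ⟨g, rfl⟩ := c.exists_rep
      exact ⟨fun h h' => h g rfl (h' g rfl), fun h x hx hxH => h fun y hy => (mem_iff_of_mk_eq H (hy.trans hx.symm)).2 hxH⟩
  rw [Nat.card_congr e, ← Nat.card_sum, Nat.card_congr (Equiv.sumCompl _)]

/-- The classes inside `H` are the orbits of `G` on `H`. -/
theorem card_in_eq (H : Subgroup G) [H.Normal] :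
    Nat.card (orbitRel.Quotient (ConjAct G) H) = Nat.card (InClasses H) := by
  refine Nat.card_eq_of_bijective (Quotient.lift (fun h : H => (⟨ConjClasses.mk (h : G), fun g hg => (mem_iff_of_mk_eq H hg).2 h.2⟩ : InClasses H))
    fun a b hab => ?_) ⟨?_, ?_⟩
  · obtain ⟨c, hc⟩ := hab
    refine Subtype.ext (ConjClasses.mk_eq_mk_iff_isConj.2 (IsConj.symm (isConj_iff.2 ⟨ConjAct.ofConjAct c, ?_⟩)))
    exact congrArg Subtype.val hc
  · refine fun x y => Quotient.inductionOn₂ x y fun a b hab => Quotient.sound ?_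
    obtain ⟨c, hc⟩ := isConj_iff.1 (ConjClasses.mk_eq_mk_iff_isConj.1 (congrArg Subtype.val hab).symm)
    exact ⟨ConjAct.toConjAct c, Subtype.ext hc⟩
  · rintro ⟨c, hc⟩
    obtain ⟨g, rfl⟩ := c.exists_rep
    exact ⟨Quotient.mk _ ⟨g, hc g rfl⟩, rfl⟩

theorem card_pairs_in [Finite G] (H : Subgroup G) [H.Normal] :
    Nat.card {p : G × G // Commute p.1 p.2 ∧ p.1 ∈ H} = Nat.card (InClasses H) * Nat.card G := by
  classical
  letI := Fintype.ofFinite G
  have h := sum_card_fixedBy_eq_card_orbits_mul_card_group (ConjAct G) H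
  rw [← card_in_eq, Nat.card_eq_fintype_card (α := orbitRel.Quotient (ConjAct G) H), Nat.card_eq_fintype_card (α := G),
    ← ConjAct.card (G := G)]
  refine Eq.trans ?_ h
  rw [← Fintype.card_sigma, ← Nat.card_eq_fintype_card]
  refine Nat.card_congr ?_
  exact {
    toFun := fun p => ⟨ConjAct.toConjAct p.1.2, ⟨⟨p.1.1, p.2.2⟩, Subtype.ext (by
      show p.1.2 * p.1.1 * p.1.2⁻¹ = p.1.1
      rw [← p.2.1.eq, mul_inv_cancel_right])⟩⟩
    invFun := fun s => ⟨((s.2.1 : G), ConjAct.ofConjAct s.1), ⟨by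
      have h1 : ConjAct.ofConjAct s.1 * (s.2.1 : G) * (ConjAct.ofConjAct s.1)⁻¹ = s.2.1 := congrArg Subtype.val s.2.2
      exact (mul_inv_eq_iff_eq_mul.1 h1).symm, s.2.1.2⟩⟩
    left_inv := fun p => rfl
    right_inv := fun s => rfl }

variable [Finite G] (H : Subgroup G)

/-- The four kinds of commuting pairs. -/
noncomputable def pairNum (H : Subgroup G) (a b : Bool) : ℕ :=
  Nat.card {p : G × G // Commute p.1 p.2 ∧ (p.1 ∈ H ↔ a = true) ∧ (p.2 ∈ H ↔ b = true)}

theorem pairNum_HH : pairNum H true true = Nat.card (ConjClasses H) * Nat.card H := by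
  rw [← card_comm_eq_card_conjClasses_mul_card, pairNum]
  refine Nat.card_congr ⟨fun p => ⟨(⟨p.1.1, p.2.2.1.2 rfl⟩, ⟨p.1.2, p.2.2.2.2 rfl⟩), Subtype.ext p.2.1⟩,
    fun p => ⟨((p.1.1 : G), (p.1.2 : G)), congrArg Subtype.val p.2.eq, iff_of_true p.1.1.2 rfl, iff_of_true p.1.2.2 rfl⟩,
    fun p => rfl, fun p => rfl⟩

theorem card_split_snd (s : Set G) :
    Nat.card {p : G × G // Commute p.1 p.2 ∧ p.1 ∈ s} =
      Nat.card {p : G × G // Commute p.1 p.2 ∧ p.1 ∈ s ∧ p.2 ∈ H} + Nat.card {p : G × G // Commute p.1 p.2 ∧ p.1 ∈ s ∧ p.2 ∉ H} := by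
  classical
  rw [← Nat.card_sum]
  refine Nat.card_congr ?_
  refine (Equiv.sumCompl fun p : {p : G × G // Commute p.1 p.2 ∧ p.1 ∈ s} => p.1.2 ∈ H).symm.trans ?_
  exact Equiv.sumCongr ((Equiv.subtypeSubtypeEquivSubtypeInter (fun p : G × G => Commute p.1 p.2 ∧ p.1 ∈ s) (fun p => p.2 ∈ H)).trans
      (Equiv.subtypeEquivRight fun p => and_assoc))
    ((Equiv.subtypeSubtypeEquivSubtypeInter (fun p : G × G => Commute p.1 p.2 ∧ p.1 ∈ s) (fun p => p.2 ∉ H)).trans
      (Equiv.subtypeEquivRight fun p => and_assoc))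

/-- The class numbers of a subgroup of index two. -/
theorem index_two_classes (hH : H.index = 2) :
    Nat.card (ConjClasses H) + Nat.card (OutClasses H) = 2 * Nat.card (InClasses H) ∧
      Nat.card (ConjClasses G) ≤ 2 * Nat.card (ConjClasses H) ∧
      Nat.card (InClasses H) + Nat.card (OutClasses H) = Nat.card (ConjClasses G) := by
  classical
  haveI : H.Normal := Subgroup.normal_of_index_eq_two hH
  have hmul := fun a b => Subgroup.mul_mem_iff_of_index_two hH (a := a) (b := b)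
  have hG : Nat.card G = 2 * Nat.card H := by rw [← H.index_mul_card, hH]
  obtain ⟨A, hA⟩ : ∃ A, A = pairNum H true true := ⟨_, rfl⟩
  obtain ⟨B, hB⟩ : ∃ B, B = pairNum H true false := ⟨_, rfl⟩
  have hFT : pairNum H false true = B := by
    rw [hB, pairNum, pairNum]
    exact Nat.card_congr ⟨fun p => ⟨(p.1.2, p.1.1), p.2.1.symm, p.2.2.2, p.2.2.1⟩,
      fun p => ⟨(p.1.2, p.1.1), p.2.1.symm, p.2.2.2, p.2.2.1⟩, fun p => rfl, fun p => rfl⟩
  have hFF : pairNum H false false = pairNum H false true := by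
    rw [pairNum, pairNum]
    refine Nat.card_congr ⟨fun p => ⟨(p.1.1, p.1.1 * p.1.2), (Commute.refl _).mul_right p.2.1, p.2.2.1, ?_⟩,
      fun p => ⟨(p.1.1, p.1.1⁻¹ * p.1.2), (Commute.refl _).inv_right.mul_right p.2.1, p.2.2.1, ?_⟩,
      fun p => Subtype.ext (Prod.ext rfl (inv_mul_cancel_left _ _)), fun p => Subtype.ext (Prod.ext rfl (mul_inv_cancel_left _ _))⟩
    · rw [hmul]; simpa using iff_of_false (by simpa using p.2.2.1) (by simpa using p.2.2.2)
    · rw [hmul, inv_mem_iff]; simp [show p.1.1 ∉ H by simpa using p.2.2.1, show p.1.2 ∈ H by simpa using p.2.2.2]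
  have hin : Nat.card (InClasses H) * Nat.card G = A + B := by
    rw [← card_pairs_in, show Nat.card {p : G × G // Commute p.1 p.2 ∧ p.1 ∈ H} = Nat.card {p : G × G // Commute p.1 p.2 ∧ p.1 ∈ (H : Set G)} from rfl,
      card_split_snd H, hA, hB, pairNum, pairNum]
    congr 1 <;> refine Nat.card_congr (Equiv.subtypeEquivRight fun p => ?_) <;> simp
  have hall : Nat.card (ConjClasses G) * Nat.card G = A + 3 * B := by
    rw [← card_comm_eq_card_conjClasses_mul_card, ← Nat.card_congr (Equiv.sumCompl fun p : {p : G × G // Commute p.1 p.2} => p.1.1 ∈ H),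
      Nat.card_sum, Nat.card_congr (Equiv.subtypeSubtypeEquivSubtypeInter (fun p : G × G => Commute p.1 p.2) (fun p => p.1 ∈ H)),
      Nat.card_congr (Equiv.subtypeSubtypeEquivSubtypeInter (fun p : G × G => Commute p.1 p.2) (fun p => p.1 ∉ H)),
      card_pairs_in, hin,
      show Nat.card {p : G × G // Commute p.1 p.2 ∧ p.1 ∉ H} = Nat.card {p : G × G // Commute p.1 p.2 ∧ p.1 ∈ (H : Set G)ᶜ} from rfl,
      card_split_snd H]
    have e1 : Nat.card {p : G × G // Commute p.1 p.2 ∧ p.1 ∈ (H : Set G)ᶜ ∧ p.2 ∈ H} = pairNum H false true :=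
      Nat.card_congr (Equiv.subtypeEquivRight fun p => by simp)
    have e2 : Nat.card {p : G × G // Commute p.1 p.2 ∧ p.1 ∈ (H : Set G)ᶜ ∧ p.2 ∉ H} = pairNum H false false :=
      Nat.card_congr (Equiv.subtypeEquivRight fun p => by simp)
    rw [e1, e2, hFF, hFT]
    ring
  have hBA : B ≤ A := by
    letI := Fintype.ofFinite G
    rw [hA, hB, pairNum, pairNum, Nat.card_congr (Equiv.subtypeProdEquivSigmaSubtype fun x y : G => Commute x y ∧ (x ∈ H ↔ true = true) ∧ (y ∈ H ↔ false = true)),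
      Nat.card_congr (Equiv.subtypeProdEquivSigmaSubtype fun x y : G => Commute x y ∧ (x ∈ H ↔ true = true) ∧ (y ∈ H ↔ true = true)), Nat.card_sigma, Nat.card_sigma]
    refine Finset.sum_le_sum fun x _ => ?_
    rcases isEmpty_or_nonempty {y : G // Commute x y ∧ (x ∈ H ↔ true = true) ∧ (y ∈ H ↔ false = true)} with h | ⟨⟨y₀, h1, h2, h3⟩⟩
    · rw [Nat.card_of_isEmpty]; exact Nat.zero_le _
    · refine Nat.card_le_card_of_injective (fun y => ⟨y₀ * y.1, h1.mul_right y.2.1, h2, ?_⟩)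
        fun y z e => Subtype.ext (mul_left_cancel (congrArg Subtype.val e))
      rw [hmul]
      simp [show y₀ ∉ H by simpa using h3, show y.1 ∉ H by simpa using y.2.2.2]
  have hkH : Nat.card (ConjClasses H) * Nat.card G = 2 * A := by
    rw [hA, pairNum_HH, hG]; ring
  have hpos : 0 < Nat.card G := Nat.card_pos
  have hsum := card_in_add_out H
  have hout : Nat.card (OutClasses H) * Nat.card G = 2 * B := by
    have := congrArg (· * Nat.card G) hsum
    simp only [add_mul] at this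
    omega
  refine ⟨Nat.eq_of_mul_eq_mul_right hpos (by rw [add_mul, hkH, hout, mul_assoc, hin]; ring),
    Nat.le_of_mul_le_mul_right (c := Nat.card G) ?_ hpos, hsum⟩
  rw [hall, mul_assoc, hkH]
  omega

end CfsgLib.CClassBound
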