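import Cfsg.Agent.Lib.KnownSimple.ClassicalClassBound.PolyCount
import Cfsg.Agent.Lib.Classical.SpSemisimpleClasses

/-!
# Orthogonal matrices with prescribed characteristic polynomial
-/

set_option autoImplicit false

namespace CfsgLib.CClassBound

open Polynomial Matrix CfsgLib.Classical CfsgLib.Classical.SUSemisimple

universe u

variable {F : Type u} [Field F]

attribute [local instance] _root_.Classical.propDecidable

theorem isSD_reverse {P : F[X]} (hP : IsSD P) (h0 : P.coeff 0 = 1) : P.reverse = P := by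
  have e := hP.2.2
  rw [dual, dualPoly, Polynomial.map_id, RingHom.id_apply, h0, inv_one, map_one, one_mul] at e
  exact e

theorem isSD_of_reverse {P : F[X]} (hP : P.Monic) (h0 : P.coeff 0 = 1) (hr : P.reverse = P) : IsSD P := by
  refine ⟨hP, by rw [h0]; exact one_ne_zero, ?_⟩
  rw [dual, dualPoly, Polynomial.map_id, RingHom.id_apply, h0, inv_one, map_one, one_mul, hr]

theorem IsSD.cancel_pow {r : F} (hr : r * r = 1) : ∀ (a : ℕ) {h : F[X]}, IsSD ((X - C r) ^ a * h) → IsSD h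
  | 0, h, hh => by rwa [pow_zero, one_mul] at hh
  | a + 1, h, hh => by
    rw [pow_succ', mul_assoc] at hh
    exact IsSD.cancel_pow hr a (hh.cancel hr)

theorem exists_core (h2 : (2 : F) ≠ 0) {h : F[X]} (hh : IsSD h) :
    ∃ (a b m : ℕ) (h₀ : F[X]), h = (X - C 1) ^ a * ((X - C (-1)) ^ b * h₀) ∧ IsSD h₀ ∧ h₀.coeff 0 = 1 ∧
      h₀.natDegree = 2 * m ∧ h₀.eval 1 ≠ 0 ∧ h₀.eval (-1) ≠ 0 := by
  obtain ⟨g, hg, hg1⟩ := Polynomial.exists_eq_pow_rootMultiplicity_mul_and_not_dvd h hh.1.ne_zero 1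
  have hgs : IsSD g := IsSD.cancel_pow (one_mul 1) _ (hg ▸ hh)
  obtain ⟨h₀, hh₀, hh₀1⟩ := Polynomial.exists_eq_pow_rootMultiplicity_mul_and_not_dvd g hgs.1.ne_zero (-1)
  have hs₀ : IsSD h₀ := IsSD.cancel_pow (by ring) _ (hh₀ ▸ hgs)
  have e1 : h₀.eval 1 ≠ 0 := fun e => hg1 (by
    rw [dvd_iff_isRoot, IsRoot.def, hh₀, eval_mul, e, mul_zero])
  have e2 : h₀.eval (-1) ≠ 0 := fun e => hh₀1 (dvd_iff_isRoot.2 e)
  obtain ⟨⟨m, hm⟩, h0⟩ := hs₀.even_mult h2 fun r hr => by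
    rw [rootMultiplicity_eq_zero fun hroot => ?_]
    · exact Even.zero
    rcases mul_self_eq_one_iff.1 hr with rfl | rfl
    · exact e1 hroot
    · exact e2 hroot
  exact ⟨_, _, m, h₀, by rw [← hh₀, ← hg], hs₀, h0, by omega, e1, e2⟩

theorem exists_core_matrix (h2 : (2 : F) ≠ 0) {m : ℕ} {h : F[X]} (hh : IsSD h) (h0 : h.coeff 0 = 1)
    (hd : h.natDegree = 2 * m) (e1 : h.eval 1 ≠ 0) (e2 : h.eval (-1) ≠ 0) :
    ∃ B g : Matrix (Fin m ⊕ Fin m) (Fin m ⊕ Fin m) F, Bᵀ = B ∧ gᵀ * B * g = B ∧ g.charpoly = h ∧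
      B.det = h.eval 1 * h.eval (-1) := by
  obtain ⟨g, hg⟩ : ∃ g : ↥(Matrix.symplecticGroup (Fin m) F),
      (g : Matrix (Fin m ⊕ Fin m) (Fin m ⊕ Fin m) F).charpoly = h := by
    rcases Nat.eq_zero_or_pos m with rfl | hm
    · refine ⟨1, ?_⟩
      rw [Polynomial.eq_one_of_monic_natDegree_zero hh.1 hd]
      exact Polynomial.eq_one_of_monic_natDegree_zero (Matrix.charpoly_monic _) (by simp [charpoly_natDegree_eq_dim])
    · exact SpSemisimple.exists_sp_charpoly hm hh.1 hd h0 (isSD_reverse hh h0)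
  obtain ⟨A, hA⟩ := g
  simp only at hg
  obtain ⟨Ai, hAi⟩ : ∃ Ai, Ai = ((⟨A, hA⟩ : ↥(Matrix.symplecticGroup (Fin m) F))⁻¹ : ↥(Matrix.symplecticGroup (Fin m) F)).1 :=
    ⟨_, rfl⟩
  have hi1 : Ai * A = 1 := hAi ▸ congrArg Subtype.val (inv_mul_cancel (⟨A, hA⟩ : ↥(Matrix.symplecticGroup (Fin m) F)))
  have hi2 : A * Ai = 1 := mul_eq_one_comm.1 hi1
  have hJ : Aᵀ * Matrix.J (Fin m) F * A = Matrix.J (Fin m) F := SymplecticGroup.mem_iff'.1 hA
  have hdA : A.det = 1 := SymplecticGroup.det_eq_one hA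
  have hAJ : Aᵀ * Matrix.J (Fin m) F = Matrix.J (Fin m) F * Ai := by
    conv_rhs => rw [← hJ, mul_assoc, hi2, mul_one]
  have hAiJ : Aiᵀ * Matrix.J (Fin m) F = Matrix.J (Fin m) F * A := by
    conv_lhs => rw [← hJ, ← mul_assoc, ← mul_assoc, ← transpose_mul, hi2, transpose_one, one_mul]
  refine ⟨Matrix.J (Fin m) F * (A - Ai), A, ?_, ?_, hg, ?_⟩
  · rw [transpose_mul, Matrix.J_transpose, transpose_sub, sub_mul, mul_neg, mul_neg, hAJ, hAiJ, mul_sub]
    abel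
  · calc _ = Aᵀ * Matrix.J (Fin m) F * ((A - Ai) * A) := by simp only [mul_assoc]
      _ = Aᵀ * Matrix.J (Fin m) F * (A * (A - Ai)) := congrArg _ (by rw [sub_mul, mul_sub, hi1, hi2])
      _ = _ := by rw [← mul_assoc, hJ]
  · have e : A - Ai = Ai * ((A - 1) * (A + 1)) := by
      rw [sub_mul, mul_add, mul_one, one_mul, mul_sub, mul_add, mul_add, mul_one, ← mul_assoc, hi1, one_mul]
      abel
    have hAi1 : Ai.det = 1 := by
      have := congrArg Matrix.det hi1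
      rwa [det_mul, hdA, mul_one, det_one] at this
    have hev : Even (Fintype.card (Fin m ⊕ Fin m)) := ⟨m, by simp⟩
    have q1 : h.eval 1 = (A - 1).det := by
      rw [← hg, Matrix.eval_charpoly, map_one, ← neg_sub A 1, det_neg, hev.neg_one_pow, one_mul]
    have q2 : h.eval (-1) = (A + 1).det := by
      rw [← hg, Matrix.eval_charpoly, map_neg, map_one, show -1 - A = -(A + 1) by abel, det_neg, hev.neg_one_pow, one_mul]
    rw [det_mul, show (Matrix.J (Fin m) F).det = 1 from SymplecticGroup.det_eq_one (SymplecticGroup.J_mem (Fin m) F),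
      e, det_mul, det_mul, hAi1, q1, q2, one_mul, one_mul]

theorem exists_iso_charpoly [Finite F] (h2 : (2 : F) ≠ 0) {N : ℕ} {B : Matrix (Fin N) (Fin N) F} (hB : Bᵀ = B)
    (hu : IsUnit B) {h : F[X]} (hh : IsSD h) (hd : h.natDegree = N)
    (hdisc : h.eval 1 ≠ 0 → h.eval (-1) ≠ 0 → IsSquare (h.eval 1 * h.eval (-1) * B.det)) :
    ∃ g ∈ isoGrp B, ((g : GL (Fin N) F) : Matrix (Fin N) (Fin N) F).charpoly = h := by
  obtain ⟨a, b, m, h₀, rfl, hs₀, h00, hd₀, e1, e2⟩ := exists_core h2 hh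
  obtain ⟨B₀, A₀, hB₀, hA₀, hc₀, hdet₀⟩ := exists_core_matrix h2 hs₀ h00 hd₀ e1 e2
  have hB0ne : B₀.det ≠ 0 := hdet₀ ▸ mul_ne_zero e1 e2
  have hBne : B.det ≠ 0 := ((Matrix.isUnit_iff_isUnit_det _).1 hu).ne_zero
  obtain ⟨v, hv, hvsq⟩ : ∃ v : Fin a ⊕ Fin b → F, ∏ i, v i ≠ 0 ∧ IsSquare (B.det * (B₀.det * ∏ i, v i)) := by
    rcases isEmpty_or_nonempty (Fin a ⊕ Fin b) with he | ⟨⟨i₀⟩⟩
    · obtain ⟨rfl, rfl⟩ : a = 0 ∧ b = 0 := by
        refine ⟨?_, ?_⟩ <;> by_contra hne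
        · exact he.false (Sum.inl ⟨0, Nat.pos_of_ne_zero hne⟩)
        · exact he.false (Sum.inr ⟨0, Nat.pos_of_ne_zero hne⟩)
      simp only [pow_zero, one_mul] at hdisc
      refine ⟨fun _ => 1, by simp, ?_⟩
      have := hdisc e1 e2
      rw [Finset.prod_const_one, mul_one, hdet₀, mul_comm]
      exact this
    · refine ⟨Function.update (fun _ => 1) i₀ (B.det * B₀.det), ?_, ?_⟩ <;>
        rw [Finset.prod_update_of_mem (Finset.mem_univ _), Finset.prod_const_one, mul_one]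
      · exact mul_ne_zero hBne hB0ne
      · exact ⟨B.det * B₀.det, by ring⟩
  let W : Matrix (Fin a ⊕ Fin b) (Fin a ⊕ Fin b) F := Matrix.diagonal (Sum.elim (fun _ => 1) fun _ => -1)
  let g₁ : Matrix ((Fin m ⊕ Fin m) ⊕ (Fin a ⊕ Fin b)) ((Fin m ⊕ Fin m) ⊕ (Fin a ⊕ Fin b)) F := Matrix.fromBlocks A₀ 0 0 W
  let B₁ : Matrix ((Fin m ⊕ Fin m) ⊕ (Fin a ⊕ Fin b)) ((Fin m ⊕ Fin m) ⊕ (Fin a ⊕ Fin b)) F :=
    Matrix.fromBlocks B₀ 0 0 (Matrix.diagonal v)
  have hWW : Wᵀ * Matrix.diagonal v * W = Matrix.diagonal v := by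
    rw [diagonal_transpose, diagonal_mul_diagonal, diagonal_mul_diagonal]
    exact congrArg Matrix.diagonal (_root_.funext fun i => by cases i <;> simp)
  have h₁ : g₁ᵀ * B₁ * g₁ = B₁ := by
    rw [fromBlocks_transpose, fromBlocks_multiply, fromBlocks_multiply]
    simp only [Matrix.transpose_zero, Matrix.mul_zero, Matrix.zero_mul, add_zero, zero_add, hA₀, hWW]
    rfl
  have hB₁ : B₁ᵀ = B₁ := by
    simp only [B₁, fromBlocks_transpose, hB₀, diagonal_transpose, Matrix.transpose_zero]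
  have hd₁ : B₁.det = B₀.det * ∏ i, v i := by rw [det_fromBlocks_zero₂₁, det_diagonal]
  have hN : Fintype.card ((Fin m ⊕ Fin m) ⊕ (Fin a ⊕ Fin b)) = N := by
    rw [← hd, natDegree_mul (pow_ne_zero _ (monic_X_sub_C (1 : F)).ne_zero)
      (mul_ne_zero (pow_ne_zero _ (monic_X_sub_C (-1 : F)).ne_zero) hs₀.1.ne_zero),
      natDegree_mul (pow_ne_zero _ (monic_X_sub_C (-1 : F)).ne_zero) hs₀.1.ne_zero,
      natDegree_pow, natDegree_pow, natDegree_X_sub_C, natDegree_X_sub_C, hd₀]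
    simp; omega
  obtain ⟨e⟩ : Nonempty (((Fin m ⊕ Fin m) ⊕ (Fin a ⊕ Fin b)) ≃ Fin N) := ⟨Fintype.equivFinOfCardEq hN⟩
  obtain ⟨B₂, hB₂def⟩ : ∃ M, M = Matrix.reindexAlgEquiv F F e B₁ := ⟨_, rfl⟩
  obtain ⟨g₂, hg₂def⟩ : ∃ M, M = Matrix.reindexAlgEquiv F F e g₁ := ⟨_, rfl⟩
  have h₂ : g₂ᵀ * B₂ * g₂ = B₂ := by
    rw [hg₂def, hB₂def, show (Matrix.reindexAlgEquiv F F e g₁)ᵀ = Matrix.reindexAlgEquiv F F e g₁ᵀ from rfl,
      ← map_mul, ← map_mul, h₁]
  have hd₂ : B₂.det = B₀.det * ∏ i, v i := by rw [hB₂def, Matrix.det_reindexAlgEquiv, hd₁]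
  have hB₂ : B₂ᵀ = B₂ := by
    rw [hB₂def, show (Matrix.reindexAlgEquiv F F e B₁)ᵀ = Matrix.reindexAlgEquiv F F e B₁ᵀ from rfl, hB₁]
  have hu₂ : IsUnit B₂ := (Matrix.isUnit_iff_isUnit_det _).2 (hd₂ ▸ isUnit_iff_ne_zero.2 (mul_ne_zero hB0ne hv))
  obtain ⟨Q, hQu, hQ⟩ := congr_sym h2 hB hB₂ hu hu₂ (hd₂ ▸ hvsq)
  obtain ⟨Qu, rfl⟩ := hQu
  have hg₂u : IsUnit g₂.det := by
    have h3 := congrArg Matrix.det h₂
    rw [det_mul, det_mul, det_transpose] at h3
    have hne : B₂.det ≠ 0 := hd₂ ▸ mul_ne_zero hB0ne hv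
    refine isUnit_iff_ne_zero.2 fun hz => ?_
    rw [hz, mul_zero] at h3
    exact hne h3.symm
  obtain ⟨gu, hgu⟩ := (Matrix.isUnit_iff_isUnit_det _).2 hg₂u
  refine ⟨Qu⁻¹ * gu * Qu, ?_, ?_⟩
  · show (((Qu⁻¹ * gu * Qu : GL (Fin N) F)) : Matrix (Fin N) (Fin N) F)ᵀ * B * _ = B
    simp only [Units.val_mul, transpose_mul]
    rw [← hQ]
    calc _ = (Qu : Matrix (Fin N) (Fin N) F)ᵀ * ((gu : Matrix (Fin N) (Fin N) F)ᵀ *
          (((Qu : Matrix (Fin N) (Fin N) F) * ((Qu⁻¹ : GL (Fin N) F) : Matrix (Fin N) (Fin N) F))ᵀ * B₂ *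
            ((Qu : Matrix (Fin N) (Fin N) F) * ((Qu⁻¹ : GL (Fin N) F) : Matrix (Fin N) (Fin N) F))) * gu) * Qu := by
          simp only [transpose_mul, mul_assoc]
      _ = _ := by rw [Units.mul_inv, transpose_one, one_mul, mul_one, hgu, h₂]
  · rw [Units.val_mul, Units.val_mul, Matrix.coe_units_inv, Matrix.charpoly_units_conj', hgu, hg₂def, Matrix.coe_reindexAlgEquiv, Matrix.charpoly_reindex,
      Matrix.charpoly_fromBlocks_zero₂₁, hc₀, Matrix.charpoly_diagonal, Fintype.prod_sum_type]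
    simp only [Sum.elim_inl, Sum.elim_inr, Finset.prod_const, Finset.card_univ, Fintype.card_fin]
    ring

variable [Fintype F]

/-- The palindromic polynomials of degree `2 n`. -/
abbrev Pal (F : Type u) [Field F] (n : ℕ) : Type u := {h : F[X] // IsSD h ∧ h.natDegree = 2 * n ∧ h.coeff 0 = 1}

instance finite_pal (n : ℕ) : Finite (Pal F n) := by
  haveI : Finite {h : F[X] // IsSD h ∧ h.natDegree ≤ 2 * n} := Set.finite_coe_iff.2 (finite_sdPoly (2 * n))
  exact Finite.of_injective (fun h : Pal F n => (⟨h.1, h.2.1, h.2.2.1.le⟩ : {h : F[X] // IsSD h ∧ h.natDegree ≤ 2 * n}))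
    fun a b e => Subtype.ext (congrArg (fun x : {h : F[X] // IsSD h ∧ h.natDegree ≤ 2 * n} => x.1) e)

theorem card_pal_ge (n : ℕ) (hn : 1 ≤ n) : Fintype.card F ^ n ≤ Nat.card (Pal F n) := by
  obtain ⟨p, hc⟩ := CharP.exists F
  haveI : Fact p.Prime := ⟨CharP.char_is_prime F p⟩
  rw [← SpSemisimple.sp_card_classes (F := F) p hn]
  refine Nat.card_le_card_of_injective (fun C => ⟨(C.2.choose : Matrix (Fin n ⊕ Fin n) (Fin n ⊕ Fin n) F).charpoly, ?_⟩)
    fun C C' h => Subtype.ext ?_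
  · have hd : (C.2.choose : Matrix (Fin n ⊕ Fin n) (Fin n ⊕ Fin n) F).charpoly.natDegree = 2 * n := by
      rw [charpoly_natDegree_eq_dim, Fintype.card_sum, Fintype.card_fin, two_mul]
    have h0 : (C.2.choose : Matrix (Fin n ⊕ Fin n) (Fin n ⊕ Fin n) F).charpoly.coeff 0 = 1 := by
      have h := det_eq_sign_charpoly_coeff (C.2.choose : Matrix (Fin n ⊕ Fin n) (Fin n ⊕ Fin n) F)
      rw [SpSemisimple.det_sp, Fintype.card_sum, Fintype.card_fin, ← two_mul, pow_mul, neg_one_sq, one_pow, one_mul] at h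
      exact h.symm
    exact ⟨isSD_of_reverse (Matrix.charpoly_monic _) h0 (SpSemisimple.reverse_charpoly_sp _), hd, h0⟩
  · rw [← C.2.choose_spec.1, ← C'.2.choose_spec.1, ConjClasses.mk_eq_mk_iff_isConj]
    exact Cfsg.Agent.S2389.result p n _ _ C.2.choose_spec.2 C'.2.choose_spec.2 (congrArg Subtype.val h)

/-- The polynomials occurring for the form of determinant `d`. -/
abbrev Occurs {n : ℕ} (d : F) (h : Pal F n) : Prop :=
  h.1.eval 1 ≠ 0 → h.1.eval (-1) ≠ 0 → IsSquare (h.1.eval 1 * h.1.eval (-1) * d)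

theorem card_occurs_ge (h2 : (2 : F) ≠ 0) (n : ℕ) (hn : 2 ≤ n) {d : F} (hd : d ≠ 0) :
    Fintype.card F ^ n ≤ 2 * Nat.card {h : Pal F n // Occurs d h} := by
  refine (card_pal_ge n (by omega)).trans ?_
  obtain ⟨δ, hδ⟩ : ∃ δ : F, ¬ IsSquare δ := FiniteField.exists_nonsquare (fun hc => h2 (by
    haveI := ringChar.charP F
    rw [show (2 : F) = ((2 : ℕ) : F) by norm_num, CharP.cast_eq_zero_iff F (ringChar F), hc]))
  have hδ0 : δ ≠ 0 := fun e => hδ ⟨0, by rw [e, mul_zero]⟩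
  obtain ⟨P, hP⟩ : ∃ P : F[X], P = C ((4 : F)⁻¹) * (2 * X ^ n + X ^ (n - 1) + X ^ (n + 1)) := ⟨_, rfl⟩
  have h4 : (4 : F) ≠ 0 := by rw [show (4 : F) = 2 * 2 by norm_num]; exact mul_ne_zero h2 h2
  have hco : ∀ j, P.coeff j = (4 : F)⁻¹ * ((if j = n then 2 else 0) + (if j = n - 1 then 1 else 0) + if j = n + 1 then 1 else 0) := fun j => by
    rw [hP, coeff_C_mul, two_mul]
    simp only [coeff_add, coeff_X_pow]
    split_ifs <;> ring
  have hsymm : ∀ j ≤ 2 * n, P.coeff (2 * n - j) = P.coeff j := fun j hj => by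
    rw [hco, hco]
    congr 1
    split_ifs <;> first | ring1 | omega
  have hP0 : P.coeff 0 = 0 := by
    rw [hco]; simp [show (0 : ℕ) ≠ n by omega, show (0 : ℕ) ≠ n - 1 by omega]
  have hPdeg : P.natDegree < 2 * n := by
    refine lt_of_le_of_lt (natDegree_le_iff_coeff_eq_zero.2 fun j hj => ?_) (show n + 1 < 2 * n by omega)
    rw [hco]; simp [show j ≠ n by omega, show j ≠ n - 1 by omega, show j ≠ n + 1 by omega]
  have hP1 : P.eval 1 = 1 := by
    rw [hP]; simp; field_simp; norm_num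
  have hPm : P.eval (-1) = 0 := by
    rw [hP]
    simp only [eval_mul, eval_C, eval_add, eval_pow, eval_X, eval_ofNat]
    obtain ⟨k, rfl⟩ : ∃ k, n = k + 1 := ⟨n - 1, by omega⟩
    rw [Nat.add_sub_cancel, pow_succ (-1 : F) (k + 1), pow_succ (-1 : F) k]
    ring
  have hnew : ∀ h : Pal F n, ∃ h' : Pal F n, h'.1 = h.1 + C ((δ - 1) * h.1.eval 1) * P := fun h => by
    obtain ⟨h, hsd, hdeg, h0⟩ := h
    obtain ⟨t, ht⟩ : ∃ t, t = (δ - 1) * h.eval 1 := ⟨_, rfl⟩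
    have hlt : (C t * P).degree < h.degree := by
      refine (degree_le_natDegree).trans_lt ?_
      rw [degree_eq_natDegree hsd.1.ne_zero, hdeg]
      exact_mod_cast lt_of_le_of_lt (natDegree_C_mul_le _ _) hPdeg
    have hd' : (h + C t * P).natDegree = 2 * n := by
      rw [natDegree_eq_of_degree_eq (degree_add_eq_left_of_degree_lt hlt), hdeg]
    have hm : (h + C t * P).Monic := hsd.1.add_of_left hlt
    have h0' : (h + C t * P).coeff 0 = 1 := by rw [coeff_add, coeff_C_mul, hP0, mul_zero, add_zero, h0]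
    refine ⟨⟨h + C t * P, isSD_of_reverse hm h0' (Polynomial.ext fun j => ?_), hd', h0'⟩, ?_⟩
    rw [coeff_reverse, hd']
    by_cases hj : j ≤ 2 * n
    · rw [revAt_le hj, coeff_add, coeff_add, coeff_C_mul, coeff_C_mul, hsymm j hj]
      have := (hsd.coeff_eq (j := j) (by omega)).1
      rw [hdeg, h0, one_mul] at this
      rw [this]
    · rw [show revAt (2 * n) j = j by rw [← revAtFun_eq]; exact if_neg hj]
    · show h + C t * P = _
      rw [ht]
  choose f hf using hnew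
  have hev : ∀ h : Pal F n, (f h).1.eval 1 = δ * h.1.eval 1 ∧ (f h).1.eval (-1) = h.1.eval (-1) := fun h => by
    rw [hf]
    simp only [eval_add, eval_mul, eval_C, hP1, hPm]
    constructor <;> ring
  have hle : Nat.card {h : Pal F n // ¬ Occurs d h} ≤ Nat.card {h : Pal F n // Occurs d h} := by
    refine Nat.card_le_card_of_injective (fun h => ⟨f h.1, fun _ _ => ?_⟩) fun a b e => ?_
    · have hh := h.2
      simp only [Occurs, ne_eq, Classical.not_imp] at hh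
      rw [(hev _).1, (hev _).2, mul_assoc δ, mul_assoc δ]
      exact isSquare_mul_of_not_isSquare h2 hδ hh.2.2
    · have e' : f a.1 = f b.1 := congrArg Subtype.val e
      have h1 : a.1.1.eval 1 = b.1.1.eval 1 := mul_left_cancel₀ hδ0 (by rw [← (hev _).1, e', (hev _).1])
      have h3 := congrArg (fun x : Pal F n => x.1) e'
      simp only [hf, h1] at h3
      exact Subtype.ext (Subtype.ext (add_right_cancel h3))
  letI := Fintype.ofFinite (Pal F n)
  simp only [Nat.card_eq_fintype_card] at hle ⊢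
  rw [Fintype.card_subtype_compl] at hle
  omega

/-- The lower bound. -/
theorem card_classes_ge (h2 : (2 : F) ≠ 0) {n : ℕ} (hn : 2 ≤ n) {B : Matrix (Fin (2 * n)) (Fin (2 * n)) F}
    (hB : Bᵀ = B) (hu : IsUnit B) : Fintype.card F ^ n ≤ 2 * Nat.card (ConjClasses (isoGrp B)) := by
  refine (card_occurs_ge h2 n hn ((Matrix.isUnit_iff_isUnit_det _).1 hu).ne_zero).trans (Nat.mul_le_mul_left _ ?_)
  choose g hg hgc using fun h : {h : Pal F n // Occurs B.det h} => exists_iso_charpoly h2 hB hu h.1.2.1 h.1.2.2.1 h.2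
  refine Nat.card_le_card_of_injective (fun h => ConjClasses.mk (⟨g h, hg h⟩ : isoGrp B)) fun a b e => ?_
  obtain ⟨c, hc⟩ := isConj_iff.1 ((isoGrp B).subtype.map_isConj (ConjClasses.mk_eq_mk_iff_isConj.1 e))
  refine Subtype.ext (Subtype.ext ?_)
  rw [← hgc a, ← hgc b, ← show c * g a * c⁻¹ = g b from hc, Units.val_mul, Units.val_mul, Matrix.coe_units_inv, Matrix.charpoly_units_conj]

end CfsgLib.CClassBound
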