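import Cfsg.Agent.Lib.KnownSimple.ClassicalClassBound.Bound
import Cfsg.Agent.Lib.KnownSimple.ClassicalClassBound.Lower
import Cfsg.Prelude.Def_Classical

/-!
# The class numbers of symplectic and orthogonal groups in odd characteristic
-/

set_option autoImplicit false

namespace CfsgLib.CClassBound

open Matrix

universe u

theorem card_classes_congr {G H : Type*} [Group G] [Group H] (e : G ≃* H) :
    Nat.card (ConjClasses G) = Nat.card (ConjClasses H) :=
  Nat.card_congr {
    toFun := ConjClasses.map e.toMonoidHom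
    invFun := ConjClasses.map e.symm.toMonoidHom
    left_inv := fun c => by
      obtain ⟨g, rfl⟩ := c.exists_rep
      exact congrArg ConjClasses.mk (e.symm_apply_apply g)
    right_inv := fun c => by
      obtain ⟨g, rfl⟩ := c.exists_rep
      exact congrArg ConjClasses.mk (e.apply_symm_apply g) }

variable {F : Type u} [Field F]

theorem two_ne_zero_of_odd [Fintype F] (hodd : Odd (Fintype.card F)) : (2 : F) ≠ 0 :=
  Ring.two_ne_zero fun h => Nat.not_even_iff_odd.2 hodd (Nat.even_iff.2 (FiniteField.even_card_of_char_two h))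

theorem three_le_card [Fintype F] (hodd : Odd (Fintype.card F)) : 3 ≤ Fintype.card F := by
  obtain ⟨k, hk⟩ := hodd
  have := Fintype.one_lt_card (α := F)
  omega

/-- The form data of an invertible symmetric or alternating matrix. -/
noncomputable def mkData {N : ℕ} (B : Matrix (Fin N) (Fin N) F) (ε : F) (hu : IsUnit B) (hs : Bᵀ = ε • B)
    (he : ε * ε = 1) (h2 : (2 : F) ≠ 0) : FormData F N :=
  ⟨B, B⁻¹, ε, Matrix.mul_nonsing_inv B ((Matrix.isUnit_iff_isUnit_det B).1 hu), hs, he, h2⟩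

theorem sp_classes_le [Fintype F] (hodd : Odd (Fintype.card F)) {m : ℕ} (hm : 1 ≤ m)
    {B : Matrix (Fin (2 * m)) (Fin (2 * m)) F} (hu : IsUnit B) (hB : Bᵀ = -B) :
    5 * Nat.card (ConjClasses (isoGrp B)) ≤ 54 * Fintype.card F ^ m := by
  have h2 := two_ne_zero_of_odd hodd
  exact (Nat.mul_le_mul_left 5 (card_classes_le_sum (mkData B (-1) hu (by rw [hB, neg_smul, one_smul]) (by ring) h2)).1).trans
    (sp_sum_le h2 (three_le_card hodd) m hm)

theorem o_classes_le [Fintype F] (hodd : Odd (Fintype.card F)) {m : ℕ} (hm : 1 ≤ m)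
    {B : Matrix (Fin (2 * m)) (Fin (2 * m)) F} (hu : IsUnit B) (hB : Bᵀ = B) :
    2 * Nat.card (ConjClasses (isoGrp B)) ≤ 19 * Fintype.card F ^ m := by
  have h2 := two_ne_zero_of_odd hodd
  exact ((card_classes_le_sum (mkData B 1 hu (by rw [hB, one_smul]) (one_mul 1) h2)).2 rfl).trans
    (o_sum_le h2 (three_le_card hodd) m hm)

/-- Relabelling the coordinates of an invertible matrix. -/
noncomputable def reindexGL {ι : Type*} [Fintype ι] [DecidableEq ι] {N : ℕ} (e : ι ≃ Fin N) :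
    GL ι F ≃* GL (Fin N) F :=
  Units.mapEquiv (Matrix.reindexAlgEquiv F F e).toMulEquiv

theorem mem_isoGrp_reindex {ι : Type*} [Fintype ι] [DecidableEq ι] {N : ℕ} (e : ι ≃ Fin N) (M : Matrix ι ι F)
    (g : GL ι F) :
    reindexGL e g ∈ isoGrp (Matrix.reindexAlgEquiv F F e M) ↔
      (g : Matrix ι ι F)ᵀ * M * (g : Matrix ι ι F) = M := by
  show (Matrix.reindexAlgEquiv F F e (g : Matrix ι ι F))ᵀ * Matrix.reindexAlgEquiv F F e M *
    Matrix.reindexAlgEquiv F F e (g : Matrix ι ι F) = Matrix.reindexAlgEquiv F F e M ↔ _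
  rw [show (Matrix.reindexAlgEquiv F F e (g : Matrix ι ι F))ᵀ = Matrix.reindexAlgEquiv F F e (g : Matrix ι ι F)ᵀ from rfl,
    ← map_mul, ← map_mul, EmbeddingLike.apply_eq_iff_eq]

theorem mem_isometryGroup_gram {ι : Type} [Fintype ι] [DecidableEq ι] (h2 : (2 : F) ≠ 0) {Q : (ι → F) → F}
    {M : Matrix ι ι F} (hM : Mᵀ = M) (hQ : ∀ v, v ⬝ᵥ M *ᵥ v = 2 * Q v) (g : GL ι F) :
    g ∈ Cfsg.isometryGroup F Q ↔ (g : Matrix ι ι F)ᵀ * M * (g : Matrix ι ι F) = M := by
  have hq : ∀ v, ((g : Matrix ι ι F) *ᵥ v) ⬝ᵥ M *ᵥ ((g : Matrix ι ι F) *ᵥ v) =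
      v ⬝ᵥ ((g : Matrix ι ι F)ᵀ * M * (g : Matrix ι ι F)) *ᵥ v := fun v => by
    rw [← mulVec_mulVec, ← mulVec_mulVec, dotProduct_mulVec v, vecMul_transpose]
  constructor
  · intro hg
    refine sub_eq_zero.1 ?_
    obtain ⟨A, hA⟩ : ∃ A, A = (g : Matrix ι ι F)ᵀ * M * (g : Matrix ι ι F) - M := ⟨_, rfl⟩
    rw [← hA]
    have hAT : Aᵀ = A := by
      rw [hA, transpose_sub, transpose_mul, transpose_mul, transpose_transpose, hM, ← mul_assoc]
    have hz : ∀ v, v ⬝ᵥ A *ᵥ v = 0 := fun v => by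
      rw [hA, sub_mulVec, dotProduct_sub, ← hq, hQ, hQ, show Q ((g : Matrix ι ι F) *ᵥ v) = Q v from hg v v, sub_self]
    refine Matrix.ext fun i j => ?_
    have h := hz (Pi.single i 1 + Pi.single j 1)
    have hi := hz (Pi.single i 1)
    have hj := hz (Pi.single j 1)
    simp only [mulVec_add, dotProduct_add, add_dotProduct, single_dotProduct, one_mul, mulVec_single_one, col_apply] at h hi hj
    have hs : A j i = A i j := congrFun (congrFun hAT i) j
    rw [Matrix.zero_apply]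
    exact (mul_eq_zero.1 (show (2 : F) * A i j = 0 by linear_combination h - hi - hj - hs)).resolve_left h2
  · intro hg u _
    show Q ((g : Matrix ι ι F) *ᵥ u) = Q u
    refine mul_left_cancel₀ h2 ?_
    rw [← hQ, ← hQ, hq, hg]

theorem o_bounds [Fintype F] (hodd : Odd (Fintype.card F)) {ι : Type} [Fintype ι] [DecidableEq ι] {m : ℕ} (hm : 2 ≤ m)
    (hc : Fintype.card ι = 2 * m) (Q : (ι → F) → F) (M : Matrix ι ι F) (hM : Mᵀ = M) (hu : IsUnit M)
    (hQ : ∀ v, v ⬝ᵥ M *ᵥ v = 2 * Q v) :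
    Fintype.card F ^ m ≤ 2 * Nat.card (ConjClasses ↥(Cfsg.isometryGroup F Q)) ∧
      2 * Nat.card (ConjClasses ↥(Cfsg.isometryGroup F Q)) ≤ 19 * Fintype.card F ^ m := by
  have h2 := two_ne_zero_of_odd hodd
  let e : ι ≃ Fin (2 * m) := Fintype.equivFinOfCardEq hc
  let B := Matrix.reindexAlgEquiv F F e M
  have hB : Bᵀ = B := by
    show (Matrix.reindexAlgEquiv F F e M)ᵀ = _
    rw [show (Matrix.reindexAlgEquiv F F e M)ᵀ = Matrix.reindexAlgEquiv F F e Mᵀ from rfl, hM]
  have hBu : IsUnit B := hu.map (Matrix.reindexAlgEquiv F F e)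
  have hmap : (Cfsg.isometryGroup F Q).map (reindexGL e).toMonoidHom = isoGrp B := by
    refine Subgroup.ext fun g => ?_
    rw [Subgroup.mem_map_equiv, mem_isometryGroup_gram h2 hM hQ]
    conv_rhs => rw [← (reindexGL e).apply_symm_apply g]
    exact (mem_isoGrp_reindex e M _).symm
  rw [card_classes_congr (((reindexGL e).subgroupMap (Cfsg.isometryGroup F Q)).trans (MulEquiv.subgroupCongr hmap))]
  exact ⟨card_classes_ge h2 hm hB hBu, o_classes_le hodd (by omega) hBu hB⟩

theorem sp_bounds [Fintype F] (hodd : Odd (Fintype.card F)) {n : ℕ} (hn : 1 ≤ n) :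
    Fintype.card F ^ n ≤ Nat.card (ConjClasses (Matrix.symplecticGroup (Fin n) F)) ∧
      5 * Nat.card (ConjClasses (Matrix.symplecticGroup (Fin n) F)) ≤ 54 * Fintype.card F ^ n := by
  obtain ⟨p, hc⟩ := CharP.exists F
  haveI : Fact p.Prime := ⟨CharP.char_is_prime F p⟩
  haveI : Finite ↥(Matrix.symplecticGroup (Fin n) F) := Finite.of_injective _ Subtype.val_injective
  refine ⟨(CfsgLib.Classical.SpSemisimple.sp_card_classes (F := F) p hn).symm.le.trans (Finite.card_subtype_le _), ?_⟩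
  let e : Fin n ⊕ Fin n ≃ Fin (2 * n) := Fintype.equivFinOfCardEq (by simp; omega)
  let f : ↥(Matrix.symplecticGroup (Fin n) F) →* GL (Fin (2 * n)) F :=
    (reindexGL e).toMonoidHom.comp (Matrix.symplecticGroup (Fin n) F).subtype.toHomUnits
  have hf : Function.Injective f := fun a b h => Subtype.ext (congrArg Units.val ((reindexGL e).injective h))
  have hJu : IsUnit (Matrix.reindexAlgEquiv F F e (Matrix.J (Fin n) F)) :=
    (IsUnit.of_mul_eq_one (-Matrix.J (Fin n) F) (by rw [mul_neg, Matrix.J_squared, neg_neg])).map _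
  have hJT : (Matrix.reindexAlgEquiv F F e (Matrix.J (Fin n) F))ᵀ = -Matrix.reindexAlgEquiv F F e (Matrix.J (Fin n) F) := by
    rw [show (Matrix.reindexAlgEquiv F F e (Matrix.J (Fin n) F))ᵀ = Matrix.reindexAlgEquiv F F e (Matrix.J (Fin n) F)ᵀ from rfl,
      Matrix.J_transpose, map_neg]
  have hrange : f.range = isoGrp (Matrix.reindexAlgEquiv F F e (Matrix.J (Fin n) F)) := by
    refine Subgroup.ext fun g => ⟨?_, fun hg => ?_⟩
    · rintro ⟨a, rfl⟩
      exact (mem_isoGrp_reindex e (Matrix.J (Fin n) F) _).2 (SymplecticGroup.mem_iff'.1 a.2)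
    · rw [← (reindexGL e).apply_symm_apply g, mem_isoGrp_reindex] at hg
      refine ⟨⟨_, SymplecticGroup.mem_iff'.2 hg⟩, ?_⟩
      show reindexGL e ((Matrix.symplecticGroup (Fin n) F).subtype.toHomUnits ⟨_, SymplecticGroup.mem_iff'.2 hg⟩) = g
      rw [show (Matrix.symplecticGroup (Fin n) F).subtype.toHomUnits ⟨_, SymplecticGroup.mem_iff'.2 hg⟩ =
        (reindexGL e).symm g from Units.ext rfl, MulEquiv.apply_symm_apply]
  rw [card_classes_congr ((MonoidHom.ofInjective hf).trans (MulEquiv.subgroupCongr hrange))]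
  exact sp_classes_le hodd hn hJu hJT

end CfsgLib.CClassBound
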