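import Cfsg.Agent.Lib.KnownSimple.SLClassBound.Types

/-!
# Generators of the primary decomposition of a matrix
-/

set_option autoImplicit false

namespace CfsgLib.CClassBound

open Polynomial Matrix Module CfsgLib.SSClasses CfsgLib.SLBound CfsgLib.GLClassBound

universe u

variable {F : Type u} [Field F] {n : ℕ}

/-- A primary decomposition of a matrix, read on vectors. -/
structure BlockData (G : Matrix (Fin n) (Fin n) F) where
  ι : Type u
  [fin : Fintype ι]
  pe : ι → F[X] × ℕ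
  good : GoodType n (Finset.univ.val.map pe)
  iso : MatMod G ≃ₗ[F[X]] PMdl pe

attribute [instance] BlockData.fin

theorem exists_blockData (g : GL (Fin n) F) :
    ∃ D : BlockData (g : Matrix (Fin n) (Fin n) F), Finset.univ.val.map D.pe = ptype g := by
  obtain ⟨ι, hι, pe, h1, h2, ⟨Φ⟩⟩ := ptype_spec g
  exact ⟨{ ι := ι, fin := hι, pe := pe, good := h1.symm ▸ h2, iso := Φ }, h1⟩

namespace BlockData

variable {G : Matrix (Fin n) (Fin n) F} (D : BlockData G)

theorem pe_good (i : D.ι) : (D.pe i).1.Monic ∧ Irreducible (D.pe i).1 ∧ (D.pe i).1.coeff 0 ≠ 0 ∧ 0 < (D.pe i).2 :=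
  D.good.1 _ (Multiset.mem_map_of_mem _ (Finset.mem_univ i))

theorem exp_le (i : D.ι) : (D.pe i).2 ≤ n := by
  refine le_trans (Nat.le_mul_of_pos_right _ (D.pe_good i).2.1.natDegree_pos) (le_of_le_of_eq ?_ D.good.2)
  rw [Multiset.map_map]
  exact Finset.single_le_sum (f := fun i => (D.pe i).2 * (D.pe i).1.natDegree) (fun _ _ => Nat.zero_le _)
    (Finset.mem_univ i)

/-- The vector of an element of the model. -/
noncomputable def toVec : PMdl D.pe →ₗ[F] (Fin n → F) :=
  (AEval'.of (Matrix.toLin' G)).symm.toLinearMap ∘ₗ (D.iso.symm.toLinearMap.restrictScalars F)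

theorem toVec_bijective : Function.Bijective D.toVec :=
  (AEval'.of (Matrix.toLin' G)).symm.bijective.comp D.iso.symm.bijective

theorem toVec_smul (p : F[X]) (x : PMdl D.pe) : D.toVec (p • x) = aeval G p *ᵥ D.toVec x := by
  obtain ⟨v, hv⟩ := (AEval'.of (Matrix.toLin' G)).surjective (D.iso.symm x)
  have h : aeval (Matrix.toLin' G) p = Matrix.toLin' (aeval G p) :=
    aeval_algHom_apply (Matrix.toLinAlgEquiv' (R := F) (n := Fin n)) G p
  have e : p • AEval'.of (Matrix.toLin' G) v = AEval'.of (Matrix.toLin' G) (aeval G p *ᵥ v) := by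
    refine (AEval.of_aeval_smul (Matrix.toLin' G) p v).symm.trans ?_
    rw [h]; rfl
  show (AEval'.of (Matrix.toLin' G)).symm (D.iso.symm (p • x)) = aeval G p *ᵥ (AEval'.of (Matrix.toLin' G)).symm (D.iso.symm x)
  rw [map_smul, ← hv, e, LinearEquiv.symm_apply_apply, LinearEquiv.symm_apply_apply]

open scoped Classical in
/-- The generator of a block. -/
noncomputable def gen (i : D.ι) : Fin n → F := D.toVec (Pi.single i (Ideal.Quotient.mk _ 1))

/-- The blocks of a given type. -/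
abbrev Idx (x : F[X] × ℕ) : Type u := {i : D.ι // D.pe i = x}

noncomputable instance instDecEqIdx (x : F[X] × ℕ) : DecidableEq (D.Idx x) := Classical.decEq _

noncomputable instance instFintypeIdx (x : F[X] × ℕ) : Fintype (D.Idx x) := Fintype.ofFinite _

theorem gen_mem_ker (i : D.ι) : aeval G ((D.pe i).1 ^ (D.pe i).2) *ᵥ D.gen i = 0 := by
  classical
  rw [gen, ← D.toVec_smul, ← map_zero D.toVec]
  refine congrArg D.toVec (_root_.funext fun j => ?_)
  show (D.pe i).1 ^ (D.pe i).2 • (Pi.single i (Ideal.Quotient.mk _ 1) : PMdl D.pe) j = 0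
  rcases eq_or_ne j i with rfl | hj
  · rw [Pi.single_eq_same]
    show Ideal.Quotient.mk _ ((D.pe j).1 ^ (D.pe j).2 * 1) = 0
    rw [mul_one, Ideal.Quotient.eq_zero_iff_mem]
    exact Ideal.mem_span_singleton_self _
  · rw [Pi.single_eq_of_ne hj, smul_zero]

theorem sum_single_smul [DecidableEq D.ι] (x : PMdl D.pe) (p : D.ι → F[X])
    (hp : ∀ i, x i = Ideal.Quotient.mk _ (p i)) :
    x = ∑ i, p i • (Pi.single i (Ideal.Quotient.mk _ 1) : PMdl D.pe) := by
  refine _root_.funext fun j => ?_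
  rw [Finset.sum_apply, Finset.sum_eq_single j]
  · rw [Pi.smul_apply, Pi.single_eq_same, hp]
    show _ = Ideal.Quotient.mk _ (p j * 1)
    rw [mul_one]
  · intro i _ hi
    rw [Pi.smul_apply, Pi.single_eq_of_ne hi.symm, smul_zero]
  · exact fun h => absurd (Finset.mem_univ j) h

/-- The generators span the layer of exponent `k + 1`. -/
theorem exists_span (r : F) (k : ℕ) {u : Fin n → F}
    (hu : aeval G ((X - C r) ^ (k + 1)) *ᵥ u = 0) :
    ∃ (c : D.Idx (X - C r, k + 1) → F) (w₁ w₂ : Fin n → F), aeval G ((X - C r) ^ k) *ᵥ w₁ = 0 ∧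
      aeval G ((X - C r) ^ (k + 2)) *ᵥ w₂ = 0 ∧ u = (∑ i, c i • D.gen i.1) + w₁ + aeval G (X - C r) *ᵥ w₂ := by
  classical
  have hP : (X - C r).Monic := monic_X_sub_C r
  have hirr : Irreducible (X - C r) := irreducible_X_sub_C r
  obtain ⟨x, rfl⟩ := D.toVec_bijective.2 u
  have hx : (X - C r) ^ (k + 1) • x = 0 := D.toVec_bijective.1 (by rw [D.toVec_smul, map_zero]; exact hu)
  choose p hp using fun i => Ideal.Quotient.mk_surjective (x i)
  have hdvd : ∀ i, (D.pe i).1 ^ (D.pe i).2 ∣ (X - C r) ^ (k + 1) * p i := fun i => by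
    have h1 : (X - C r) ^ (k + 1) • x i = 0 := congrFun hx i
    rw [← hp i] at h1
    exact Ideal.mem_span_singleton.1 (Ideal.Quotient.eq_zero_iff_mem.1 h1)
  -- split each coordinate
  have hsplit : ∀ i, ∃ (c : F) (a b : F[X]), (D.pe i ≠ ((X - C r), k + 1) → c = 0) ∧
      (D.pe i).1 ^ (D.pe i).2 ∣ (X - C r) ^ k * a ∧ (D.pe i).1 ^ (D.pe i).2 ∣ (X - C r) ^ (k + 2) * b ∧ p i = C c + a + (X - C r) * b := by
    intro i
    obtain ⟨hm, hir, -, he⟩ := D.pe_good i
    have hsucc : ∀ b, (D.pe i).1 ^ (D.pe i).2 ∣ (X - C r) ^ (k + 1) * ((X - C r) * b) → (D.pe i).1 ^ (D.pe i).2 ∣ (X - C r) ^ (k + 2) * b :=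
      fun b hb => by rwa [← mul_assoc, ← pow_succ] at hb
    by_cases h1 : (D.pe i).1 = (X - C r)
    · rcases lt_trichotomy (D.pe i).2 (k + 1) with hlt | heq | hgt
      · refine ⟨0, p i, 0, fun _ => rfl, ?_, by rw [mul_zero]; exact dvd_zero _, by rw [map_zero, zero_add, mul_zero, add_zero]⟩
        rw [h1]
        exact (pow_dvd_pow (X - C r) (by omega)).trans (dvd_mul_right _ _)
      · obtain ⟨b, hb⟩ : (X - C r) ∣ p i - C ((p i).eval r) := (dvd_iff_isRoot.2 (by simp))
        refine ⟨(p i).eval r, 0, b, fun h => absurd (Prod.ext h1 heq) h, by rw [mul_zero]; exact dvd_zero _, ?_,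
          by rw [add_zero, ← hb, add_sub_cancel]⟩
        rw [h1, heq]
        exact (pow_dvd_pow (X - C r) (by omega)).trans (dvd_mul_right _ _)
      · obtain ⟨b, hb⟩ : (X - C r) ∣ p i := by
          have h2 := hdvd i
          rw [h1, show (D.pe i).2 = (k + 1) + ((D.pe i).2 - (k + 1)) by omega, pow_add,
            mul_dvd_mul_iff_left (pow_ne_zero _ hP.ne_zero)] at h2
          exact (dvd_pow_self (X - C r) (by omega)).trans h2
        refine ⟨0, 0, b, fun _ => rfl, by rw [mul_zero]; exact dvd_zero _, hsucc b (hb ▸ hdvd i), ?_⟩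
        rw [map_zero, zero_add, zero_add, hb]
    · have hcop : IsCoprime ((D.pe i).1 ^ (D.pe i).2) ((X - C r) ^ (k + 1)) :=
        ((hir.coprime_iff_not_dvd).2 fun h => h1 (eq_of_monic_of_associated hm hP (hir.associated_of_dvd hirr h))).pow
      refine ⟨0, p i, 0, fun _ => rfl, (hcop.dvd_of_dvd_mul_left (hdvd i)).trans (dvd_mul_left _ _),
        by rw [mul_zero]; exact dvd_zero _, by rw [map_zero, zero_add, mul_zero, add_zero]⟩
  choose c a b hc ha hb hpab using hsplit
  let y₁ : PMdl D.pe := fun i => Ideal.Quotient.mk _ (a i)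
  let y₂ : PMdl D.pe := fun i => Ideal.Quotient.mk _ (b i)
  refine ⟨fun i => c i.1, D.toVec y₁, D.toVec y₂, ?_, ?_, ?_⟩
  · rw [← D.toVec_smul, ← map_zero D.toVec]
    exact congrArg D.toVec (_root_.funext fun i => Ideal.Quotient.eq_zero_iff_mem.2 (Ideal.mem_span_singleton.2 (ha i)))
  · rw [← D.toVec_smul, ← map_zero D.toVec]
    exact congrArg D.toVec (_root_.funext fun i => Ideal.Quotient.eq_zero_iff_mem.2 (Ideal.mem_span_singleton.2 (hb i)))
  · rw [← D.toVec_smul]
    simp only [gen, ← map_smul, ← map_sum, ← map_add]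
    refine congrArg D.toVec ?_
    have h1 : ∑ i : D.Idx ((X - C r), k + 1), c i.1 • (Pi.single i.1 (Ideal.Quotient.mk _ 1) : PMdl D.pe) =
        ∑ i, (C (c i)) • (Pi.single i (Ideal.Quotient.mk _ 1) : PMdl D.pe) := by
      have hC : ∀ (t : F) (y : PMdl D.pe), C t • y = t • y := fun t y => by
        rw [← Polynomial.algebraMap_eq]; exact algebraMap_smul F[X] t y
      simp only [hC]
      rw [← Finset.sum_subtype (p := fun i : D.ι => D.pe i = ((X - C r), k + 1)) (Finset.univ.filter fun i : D.ι => D.pe i = ((X - C r), k + 1)) (by simp)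
        (fun i => c i • (Pi.single i (Ideal.Quotient.mk _ 1) : PMdl D.pe))]
      refine Finset.sum_subset (Finset.filter_subset _ _) fun i _ hi => ?_
      rw [hc i (by simpa using hi)]
      exact zero_smul F (Pi.single i (Ideal.Quotient.mk _ 1) : PMdl D.pe)
    rw [h1, ← D.sum_single_smul (fun i => Ideal.Quotient.mk _ (C (c i))) (fun i => C (c i)) fun i => rfl]
    refine _root_.funext fun i => ?_
    show x i = Ideal.Quotient.mk _ (C (c i)) + Ideal.Quotient.mk _ (a i) + (X - C r) • Ideal.Quotient.mk _ (b i)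
    rw [← hp i, hpab i, map_add, map_add]
    rfl

/-- The generators of exponent `k + 1` are independent modulo the other layers. -/
theorem gen_indep (r : F) (k : ℕ) (c : D.Idx (X - C r, k + 1) → F)
    {w₁ w₂ : Fin n → F} (h₁ : aeval G ((X - C r) ^ k) *ᵥ w₁ = 0) (h₂ : aeval G ((X - C r) ^ (k + 2)) *ᵥ w₂ = 0)
    (h : ∑ i, c i • D.gen i.1 = w₁ + aeval G (X - C r) *ᵥ w₂) : c = 0 := by
  classical
  have hP : (X - C r).Monic := monic_X_sub_C r
  obtain ⟨y₁, rfl⟩ := D.toVec_bijective.2 w₁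
  obtain ⟨y₂, rfl⟩ := D.toVec_bijective.2 w₂
  rw [← D.toVec_smul, ← map_zero D.toVec] at h₁
  have e1 := D.toVec_bijective.1 h₁
  rw [← D.toVec_smul] at h
  simp only [gen, ← map_smul, ← map_sum, ← map_add] at h
  have e := D.toVec_bijective.1 h
  refine _root_.funext fun i => ?_
  obtain ⟨i, hi⟩ := i
  have hi0 := congrFun e i
  rw [Finset.sum_apply, Finset.sum_eq_single (⟨i, hi⟩ : D.Idx ((X - C r), k + 1))] at hi0
  · obtain ⟨a, ha⟩ := Ideal.Quotient.mk_surjective (y₁ i)
    obtain ⟨b, hb⟩ := Ideal.Quotient.mk_surjective (y₂ i)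
    have hpe1 : (D.pe i).1 = (X - C r) := by rw [hi]
    have hpe2 : (D.pe i).2 = k + 1 := by rw [hi]
    have hia : (X - C r) ^ k • y₁ i = 0 := congrFun e1 i
    rw [← ha] at hia
    have hda := Ideal.mem_span_singleton.1 (Ideal.Quotient.eq_zero_iff_mem.1
      (show Ideal.Quotient.mk _ ((X - C r) ^ k * a) = 0 from hia))
    rw [hpe1, hpe2, pow_succ, mul_dvd_mul_iff_left (pow_ne_zero _ hP.ne_zero)] at hda
    rw [Pi.smul_apply, Pi.single_eq_same, Pi.add_apply, Pi.smul_apply, ← ha, ← hb, ← algebraMap_smul F[X],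
      Polynomial.algebraMap_eq] at hi0
    replace hi0 : Ideal.Quotient.mk (Ideal.span {(D.pe i).1 ^ (D.pe i).2}) (C (c ⟨i, hi⟩) * 1) =
        Ideal.Quotient.mk (Ideal.span {(D.pe i).1 ^ (D.pe i).2}) (a + (X - C r) * b) := by rw [map_add]; exact hi0
    have h3 := Ideal.mem_span_singleton.1 (Ideal.Quotient.eq.1 hi0)
    rw [hpe1, hpe2, mul_one] at h3
    have h4 : (X - C r) ∣ C (c ⟨i, hi⟩) := by
      have h5 := ((dvd_pow_self (X - C r) (Nat.succ_ne_zero k)).trans h3).add (dvd_add hda (dvd_mul_right (X - C r) b))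
      rwa [sub_add_cancel] at h5
    have h6 := dvd_iff_isRoot.1 h4
    simpa using h6
  · intro j _ hj
    rw [Pi.smul_apply, Pi.single_eq_of_ne (fun h => hj (Subtype.ext h.symm)), smul_zero]
  · exact fun h => absurd (Finset.mem_univ _) h

open scoped Classical in
/-- The endomorphism with prescribed images of the generators. -/
noncomputable def liftEnd (c : D.ι → D.ι → F) : PMdl D.pe →ₗ[F[X]] PMdl D.pe :=
  LinearMap.pi fun j => ∑ i, if h : D.pe i = D.pe j then
    C (c j i) • ((Submodule.mapQ (Ideal.span {(D.pe i).1 ^ (D.pe i).2}) (Ideal.span {(D.pe j).1 ^ (D.pe j).2})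
      LinearMap.id (by rw [h]; exact fun _ hx => hx)).comp (LinearMap.proj i)) else 0

theorem liftEnd_single [DecidableEq D.ι] (c : D.ι → D.ι → F) (hc : ∀ i j, D.pe i ≠ D.pe j → c j i = 0) (i : D.ι) :
    D.liftEnd c (Pi.single i (Ideal.Quotient.mk _ 1)) = ∑ j, c j i • (Pi.single j (Ideal.Quotient.mk _ 1) : PMdl D.pe) := by
  classical
  refine _root_.funext fun j => ?_
  rw [liftEnd, LinearMap.pi_apply, LinearMap.sum_apply, Finset.sum_apply, Finset.sum_eq_single i, Finset.sum_eq_single j]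
  · rw [Pi.smul_apply, Pi.single_eq_same, ← algebraMap_smul F[X], Polynomial.algebraMap_eq]
    by_cases h : D.pe i = D.pe j
    · rw [dif_pos h, LinearMap.smul_apply, LinearMap.comp_apply, LinearMap.proj_apply, Pi.single_eq_same]
      rfl
    · rw [dif_neg h, hc i j h, map_zero, zero_smul, LinearMap.zero_apply]
  · intro l _ hl
    rw [Pi.smul_apply, Pi.single_eq_of_ne hl.symm, smul_zero]
  · exact fun h => absurd (Finset.mem_univ _) h
  · intro l _ hl
    by_cases h : D.pe l = D.pe j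
    · rw [dif_pos h, LinearMap.smul_apply, LinearMap.comp_apply, LinearMap.proj_apply, Pi.single_eq_of_ne hl,
        map_zero, smul_zero]
    · rw [dif_neg h, LinearMap.zero_apply]
  · exact fun h => absurd (Finset.mem_univ _) h

/-- A matrix commuting with `G` realising a linear map of the model. -/
theorem exists_matrix (φ : PMdl D.pe →ₗ[F[X]] PMdl D.pe) :
    ∃ a : Matrix (Fin n) (Fin n) F, a * G = G * a ∧ (∀ x, a *ᵥ D.toVec x = D.toVec (φ x)) ∧
      a.det = LinearMap.det (φ.restrictScalars F) := by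
  let E : PMdl D.pe ≃ₗ[F] (Fin n → F) := LinearEquiv.ofBijective D.toVec D.toVec_bijective
  obtain ⟨a, ha⟩ : ∃ a : Matrix (Fin n) (Fin n) F, Matrix.toLin' a = E.conj (φ.restrictScalars F) :=
    ⟨LinearMap.toMatrix' (E.conj (φ.restrictScalars F)), Matrix.toLin'_toMatrix' _⟩
  have hax : ∀ x, a *ᵥ D.toVec x = D.toVec (φ x) := fun x => by
    rw [← Matrix.toLin'_apply, ha, show D.toVec x = E x from rfl, LinearEquiv.conj_apply_apply,
      LinearEquiv.symm_apply_apply]
    rfl
  refine ⟨a, Matrix.ext_of_mulVec_single fun i => ?_, hax, ?_⟩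
  · obtain ⟨x, hx⟩ := D.toVec_bijective.2 (Pi.single i (1 : F))
    have hG : ∀ y, G *ᵥ D.toVec y = D.toVec ((X : F[X]) • y) := fun y => by rw [D.toVec_smul, aeval_X]
    rw [← hx, ← mulVec_mulVec, ← mulVec_mulVec, hax, hG, hG, hax, map_smul]
  · rw [← LinearMap.det_toLin', ha, det_equiv_conj (M := PMdl D.pe) (N := Fin n → F) E]

theorem exists_lift (c : D.ι → D.ι → F) (hc : ∀ i j, D.pe i ≠ D.pe j → c j i = 0) :
    ∃ a : Matrix (Fin n) (Fin n) F, a * G = G * a ∧ ∀ i, a *ᵥ D.gen i = ∑ j, c j i • D.gen j := by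
  classical
  obtain ⟨a, h1, h2, -⟩ := D.exists_matrix (D.liftEnd c)
  refine ⟨a, h1, fun i => ?_⟩
  simp only [gen]
  rw [h2, D.liftEnd_single c hc, map_sum]
  simp only [map_smul]

theorem exists_diag (c : D.ι → F) (hc : ∀ i, c i ≠ 1 → ∃ r, (D.pe i).1 = X - C r) :
    ∃ a : Matrix (Fin n) (Fin n) F, a * G = G * a ∧ (∀ i, a *ᵥ D.gen i = c i • D.gen i) ∧
      a.det = ∏ i, c i ^ (D.pe i).2 := by
  classical
  haveI : ∀ i, Module.Finite F (F[X] ⧸ Ideal.span {(D.pe i).1 ^ (D.pe i).2}) := fun i =>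
    finite_quot (pow_ne_zero _ (D.pe_good i).1.ne_zero)
  let φ : PMdl D.pe →ₗ[F[X]] PMdl D.pe := LinearMap.pi fun i => C (c i) • LinearMap.proj i
  obtain ⟨a, h1, h2, h3⟩ := D.exists_matrix φ
  refine ⟨a, h1, fun i => ?_, ?_⟩
  · simp only [gen]
    rw [h2, ← map_smul]
    refine congrArg D.toVec (_root_.funext fun j => ?_)
    rw [LinearMap.pi_apply, LinearMap.smul_apply, LinearMap.proj_apply, Pi.smul_apply, ← algebraMap_smul F[X] (c i),
      Polynomial.algebraMap_eq]
    rcases eq_or_ne j i with rfl | hj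
    · rfl
    · rw [Pi.single_eq_of_ne hj, smul_zero, smul_zero]
  · have e : φ.restrictScalars F =
        LinearMap.pi fun i => (mulEnd ((D.pe i).1 ^ (D.pe i).2) (C (c i))).comp (LinearMap.proj i) :=
      LinearMap.ext fun v => rfl
    rw [h3, e, det_piMap]
    refine Finset.prod_congr rfl fun i _ => ?_
    rw [det_mulEnd_pow (D.pe_good i).1.ne_zero, det_mulEnd_eq_norm (D.pe_good i).1.ne_zero, AdjoinRoot.mk_C,
      ← AdjoinRoot.algebraMap_eq, Algebra.norm_algebraMap]
    by_cases h : c i = 1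
    · rw [h, one_pow, one_pow]
    · obtain ⟨r, hr⟩ := hc i h
      rw [(AdjoinRoot.powerBasis (D.pe_good i).1.ne_zero).finrank, AdjoinRoot.powerBasis_dim, hr,
        natDegree_X_sub_C, pow_one]

/-- Matrices commuting with `G` are determined on the generators. -/
theorem eq_of_gen {a b : Matrix (Fin n) (Fin n) F} (ha : a * G = G * a) (hb : b * G = G * b)
    (h : ∀ i, a *ᵥ D.gen i = b *ᵥ D.gen i) : a = b := by
  classical
  refine Matrix.ext_of_mulVec_single fun j => ?_
  obtain ⟨x, hx⟩ := D.toVec_bijective.2 (Pi.single j (1 : F))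
  choose p hp using fun i => Ideal.Quotient.mk_surjective (x i)
  have hc : ∀ {a : Matrix (Fin n) (Fin n) F}, a * G = G * a → ∀ q : F[X], a * aeval G q = aeval G q * a := by
    intro a ha q
    induction q using Polynomial.induction_on' with
    | add P Q hP hQ => rw [map_add, mul_add, add_mul, hP, hQ]
    | monomial i c =>
      rw [aeval_monomial, ← Algebra.smul_def, mul_smul_comm, smul_mul_assoc, (show Commute a G from ha).pow_right i |>.eq]
  have hxp : D.toVec x = ∑ i, aeval G (p i) *ᵥ D.gen i := by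
    conv_lhs => rw [D.sum_single_smul x p fun i => (hp i).symm]
    simp only [gen, ← D.toVec_smul, ← map_sum]
  rw [← hx, hxp, mulVec_sum, mulVec_sum]
  exact Finset.sum_congr rfl fun i _ => by
    rw [mulVec_mulVec, mulVec_mulVec, hc ha, hc hb, ← mulVec_mulVec, ← mulVec_mulVec, h]

/-- A block matrix on the generators lifts. -/
theorem exists_blocks (Q : ∀ x, Matrix (D.Idx x) (D.Idx x) F) :
    ∃ a : Matrix (Fin n) (Fin n) F, a * G = G * a ∧
      ∀ x (i : D.Idx x), a *ᵥ D.gen i.1 = ∑ l, Q x l i • D.gen l.1 := by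
  classical
  obtain ⟨a, ha, h⟩ := D.exists_lift (fun j i => if hj : D.pe j = D.pe i then Q (D.pe i) ⟨j, hj⟩ ⟨i, rfl⟩ else 0)
    (fun i j hij => dif_neg (Ne.symm hij))
  refine ⟨a, ha, fun x i => ?_⟩
  obtain ⟨i, rfl⟩ := i
  rw [h]
  refine Eq.trans ?_ (Finset.sum_congr rfl fun l _ => ?_ : ∑ l : D.Idx (D.pe i),
    (if hj : D.pe l.1 = D.pe i then Q (D.pe i) ⟨l.1, hj⟩ ⟨i, rfl⟩ else 0) • D.gen l.1 = _)
  · rw [← Finset.sum_subtype (p := fun l : D.ι => D.pe l = D.pe i) (Finset.univ.filter fun l : D.ι => D.pe l = D.pe i)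
      (by simp) (fun l => (if hj : D.pe l = D.pe i then Q (D.pe i) ⟨l, hj⟩ ⟨i, rfl⟩ else 0) • D.gen l)]
    refine (Finset.sum_subset (Finset.filter_subset _ _) fun l _ hl => ?_).symm
    rw [dif_neg (by simpa using hl), zero_smul]
  · rw [dif_pos l.2]

end BlockData

end CfsgLib.CClassBound
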