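import Cfsg.Agent.Lib.Classical.InvolutionNorm

/-!
# Norms in finite commutative rings with an involution
-/

set_option autoImplicit false

namespace CfsgLib.CClassBound

open CfsgLib.Classical

variable {R : Type*} [CommRing R] [Finite R]

/-- Some power of every element of a finite monoid is idempotent. -/
theorem exists_idem_pow (y : R) : ∃ k, 0 < k ∧ y ^ k * y ^ k = y ^ k := by
  obtain ⟨a, b, hne, hab⟩ := Finite.exists_ne_map_eq_of_infinite (fun k : ℕ => y ^ k)
  wlog hlt : a < b generalizing a b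
  · exact this b a hne.symm hab.symm (by omega)
  obtain ⟨d, hd, rfl⟩ : ∃ d, 0 < d ∧ b = a + d := ⟨b - a, by omega, by omega⟩
  replace hab : y ^ a = y ^ (a + d) := hab
  have hp : ∀ i, a ≤ i → ∀ t, y ^ (i + t * d) = y ^ i := by
    intro i hi t
    induction t with
    | zero => rw [zero_mul, add_zero]
    | succ t ih =>
      rw [show i + (t + 1) * d = a + d + (i - a + t * d) by rw [add_mul, one_mul]; omega, pow_add, ← hab, ← pow_add,
        show a + (i - a + t * d) = i + t * d by omega, ih]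
  refine ⟨(a + 1) * d, Nat.mul_pos (by omega) hd, ?_⟩
  rw [← pow_add]
  exact hp _ (le_trans (Nat.le_succ a) (Nat.le_mul_of_pos_right _ hd)) _

/-- An element congruent to one modulo all maximal ideals is a square. -/
theorem exists_sqrt (σ : R →+* R) (h2 : IsUnit (2 : R)) {u : R} (hu : σ u = u)
    (h : ∀ M : Ideal R, M.IsMaximal → u - 1 ∈ M) : ∃ w, IsUnit w ∧ σ w = w ∧ w * w = u := by
  let U := {a : R // (∀ M : Ideal R, M.IsMaximal → a - 1 ∈ M) ∧ σ a = a}
  have hunit : ∀ a : R, (∀ M : Ideal R, M.IsMaximal → a - 1 ∈ M) → IsUnit a := fun a ha => by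
    by_contra hn
    obtain ⟨M, hM, hle⟩ := Ideal.exists_le_maximal (Ideal.span {a}) (fun h => hn (Ideal.span_singleton_eq_top.1 h))
    have h1 := M.sub_mem (hle (Ideal.mem_span_singleton_self a)) (ha M hM)
    rw [sub_sub_cancel] at h1
    exact hM.ne_top ((Ideal.eq_top_iff_one M).2 h1)
  let f : U → U := fun a => ⟨a.1 * a.1, fun M hM => by
    rw [show a.1 * a.1 - 1 = (a.1 + 1) * (a.1 - 1) by ring]
    exact M.mul_mem_left _ (a.2.1 M hM), by rw [map_mul, a.2.2]⟩
  have hf : Function.Injective f := fun a b hab => Subtype.ext (by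
    have h0 : (a.1 - b.1) * (a.1 + b.1) = 0 := by
      have := congrArg Subtype.val hab
      simp only [f] at this
      linear_combination this
    obtain ⟨t, ht⟩ := h2
    have hsum : IsUnit (a.1 + b.1) := by
      rw [show a.1 + b.1 = (t : R) * (1 + ↑t⁻¹ * ((a.1 - 1) + (b.1 - 1))) by
        rw [mul_add, mul_one, Units.mul_inv_cancel_left, ht]; ring]
      refine t.isUnit.mul (hunit _ fun M hM => ?_)
      rw [add_sub_cancel_left]
      exact M.mul_mem_left _ (M.add_mem (a.2.1 M hM) (b.2.1 M hM))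
    exact sub_eq_zero.1 (hsum.mul_left_eq_zero.1 h0))
  obtain ⟨w, hw⟩ := Finite.injective_iff_surjective.1 hf ⟨u, h, hu⟩
  exact ⟨w.1, hunit _ w.2.1, w.2.2, congrArg Subtype.val hw⟩

/-- Norm criterion at each maximal ideal. -/
theorem exists_norm (σ : R →+* R) (hσ : ∀ a, σ (σ a) = a) (h2 : IsUnit (2 : R)) {T : R} (hT : IsUnit T)
    (hfix : σ T = T)
    (h : ∀ M : Ideal R, M.IsMaximal → M.comap σ = M → (∃ c, c - σ c ∉ M) ∨ T - 1 ∈ M) :
    ∃ z, IsUnit z ∧ z * σ z = T := by
  classical
  have hmax : ∀ M : Ideal R, M.IsMaximal → (M.comap σ).IsMaximal := fun M hM =>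
    Ideal.comap_isMaximal_of_surjective σ (fun b => ⟨σ b, hσ b⟩) (H := hM)
  have hττ : ∀ M : Ideal R, (M.comap σ).comap σ = M := fun M => by ext a; simp [hσ]
  let Bad : Ideal R → Prop := fun M => M.comap σ = M ∧ ∀ c, c - σ c ∈ M
  let S := MaximalSpectrum R
  haveI : Finite S := inferInstance
  have hI : Pairwise (Function.onFun IsCoprime fun M : S => M.asIdeal) := fun M M' h =>
    Ideal.isCoprime_iff_sup_eq.2 (M.isMaximal.coprime_of_ne M'.isMaximal fun e => h (MaximalSpectrum.ext e))
  obtain ⟨y, hy⟩ := Ideal.exists_forall_sub_mem_ideal hI fun M : S => if Bad M.asIdeal then (1 : R) else 0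
  obtain ⟨k, hk, hidem⟩ := exists_idem_pow (y * σ y)
  obtain ⟨e, he⟩ : ∃ e, e = (y * σ y) ^ k := ⟨_, rfl⟩
  rw [← he] at hidem
  have hσe : σ e = e := by rw [he, map_pow, map_mul, hσ, mul_comm]
  have hbad : ∀ M : Ideal R, M.IsMaximal → Bad M → e - 1 ∈ M := fun M hM hb => by
    have h1 := hy ⟨M, hM⟩
    simp only [if_pos hb] at h1
    have h2 : σ y - 1 ∈ M := by
      rw [← hb.1, Ideal.mem_comap, map_sub, hσ, map_one]
      exact h1
    have h3 : y * σ y - 1 ∈ M := by
      rw [show y * σ y - 1 = y * (σ y - 1) + (y - 1) by ring]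
      exact M.add_mem (M.mul_mem_left _ h2) h1
    rw [he]
    obtain ⟨c, hc⟩ : y * σ y - 1 ∣ (y * σ y) ^ k - 1 := by simpa using sub_dvd_pow_sub_pow (y * σ y) 1 k
    rw [hc]
    exact M.mul_mem_right _ h3
  have hgood : ∀ M : Ideal R, M.IsMaximal → ¬ Bad M → e ∈ M := fun M hM hb => by
    have h1 := hy ⟨M, hM⟩
    simp only [if_neg hb, sub_zero] at h1
    rw [he]
    exact M.pow_mem_of_mem (M.mul_mem_right _ h1) k hk
  have hTbad : ∀ M : Ideal R, M.IsMaximal → Bad M → T - 1 ∈ M := fun M hM hb =>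
    ((h M hM hb.1).resolve_left fun ⟨c, hc⟩ => hc (hb.2 c))
  -- the square part
  obtain ⟨w, hwu, hσw, hww⟩ := exists_sqrt σ h2 (u := e * T + (1 - e))
    (by rw [map_add, map_mul, map_sub, map_one, hσe, hfix]) (fun M hM => by
      rw [show e * T + (1 - e) - 1 = e * (T - 1) by ring]
      by_cases hb : Bad M
      · exact M.mul_mem_left _ (hTbad M hM hb)
      · exact M.mul_mem_right _ (hgood M hM hb))
  -- the part where the involution is non-trivial
  obtain ⟨I, hI'⟩ : ∃ I : Ideal R, I = Ideal.span {e} := ⟨_, rfl⟩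
  have hIσ : I ≤ I.comap σ := by
    rw [hI', Ideal.span_le, Set.singleton_subset_iff, SetLike.mem_coe, Ideal.mem_comap, hσe]
    exact Ideal.mem_span_singleton_self e
  let π := Ideal.Quotient.mk I
  haveI : Finite (R ⧸ I) := Finite.of_surjective π Ideal.Quotient.mk_surjective
  let σ' : R ⧸ I →+* R ⧸ I := Ideal.quotientMap I σ hIσ
  have hσ' : ∀ a, σ' (π a) = π (σ a) := fun a => rfl
  obtain ⟨z', hz'u, hz'⟩ := InvolNorm.exists_norm_unit σ'
    (fun a => by obtain ⟨a, rfl⟩ := Ideal.Quotient.mk_surjective a; rw [hσ', hσ', hσ])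
    (fun M hM hMσ => by
      haveI := hM
      have hM' : (M.comap π).IsMaximal := Ideal.comap_isMaximal_of_surjective π Ideal.Quotient.mk_surjective
      have he' : e ∈ M.comap π := by
        rw [Ideal.mem_comap, show π e = 0 from Ideal.Quotient.eq_zero_iff_mem.2 (hI' ▸ Ideal.mem_span_singleton_self e)]
        exact M.zero_mem
      have hfixM : (M.comap π).comap σ = M.comap π := by
        ext a
        rw [Ideal.mem_comap, Ideal.mem_comap, Ideal.mem_comap, ← hσ', ← Ideal.mem_comap, hMσ]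
      by_contra hcon
      push Not at hcon
      have hb : Bad (M.comap π) := ⟨hfixM, fun c => by
        rw [Ideal.mem_comap, map_sub, ← hσ']; exact hcon (π c)⟩
      have := (M.comap π).sub_mem he' (hbad _ hM' hb)
      rw [sub_sub_cancel] at this
      exact hM'.ne_top ((Ideal.eq_top_iff_one _).2 this))
    (hT.map π) (by rw [hσ', hfix])
  obtain ⟨z, rfl⟩ := Ideal.Quotient.mk_surjective z'
  have hz : (1 - e) * (z * σ z) = (1 - e) * T := by
    have h1 : z * σ z - T ∈ I := Ideal.Quotient.eq.1 (by rw [map_mul]; exact hz')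
    rw [hI', Ideal.mem_span_singleton] at h1
    obtain ⟨c, hc⟩ := h1
    linear_combination (1 - e) * hc - c * hidem
  refine ⟨((1 - e) * z + e) * w, ?_, ?_⟩
  · have hprod : ((1 - e) * z + e) * ((1 - e) * σ z + e) = (1 - e) * T + e := by
      linear_combination hz + (z * σ z + 1 - z - σ z) * hidem
    have hu1 : IsUnit ((1 - e) * T + e) := by
      obtain ⟨t, ht⟩ := hT
      refine IsUnit.of_mul_eq_one ((1 - e) * (↑t⁻¹ : R) + e) ?_
      have hti : T * (↑t⁻¹ : R) = 1 := by rw [← ht, Units.mul_inv]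
      linear_combination ((1 - e) * (1 - e)) * hti + (2 - T - (↑t⁻¹ : R)) * hidem
    exact (isUnit_of_mul_isUnit_left (hprod ▸ hu1)).mul hwu
  · rw [map_mul, map_add, map_mul, map_sub, map_one, hσe, hσw]
    linear_combination (w * w) * hz + (w * w) * (z * σ z + 1 - z - σ z) * hidem +
      ((1 - e) * T + e) * hww + (2 * T - T * T - 1) * hidem

end CfsgLib.CClassBound
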