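import Cfsg.Agent.Lib.KnownSimple.ClassicalClassBound.Flip
import Cfsg.Agent.Lib.KnownSimple.ClassicalClassBound.IndexTwo
import Cfsg.Agent.Lib.KnownSimple.ClassicalClassBound.Lower

/-!
# Classes of the subgroup of index two of an odd dimensional special orthogonal group
-/

set_option autoImplicit false

namespace CfsgLib.CClassBound

open Polynomial Matrix CfsgLib.Classical CfsgLib.SLBound CfsgLib.GLClassBound

universe u

variable {F : Type u} [Field F] {n : ℕ}

/-- The special orthogonal group of a form. -/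
noncomputable def soGrp (D : FormData F n) : Subgroup (GL (Fin n) F) :=
  isoGrp D.B ⊓ (Matrix.GeneralLinearGroup.det (n := Fin n) (R := F)).ker

theorem mem_soGrp {D : FormData F n} {g : GL (Fin n) F} :
    g ∈ soGrp D ↔ g ∈ isoGrp D.B ∧ (g : Matrix (Fin n) (Fin n) F).det = 1 := by
  rw [soGrp, Subgroup.mem_inf, MonoidHom.mem_ker, Units.ext_iff]
  simp

/-- A symmetric layer at `r`. -/
def HasRoot (r : F) (h : Fin n → F[X]) : Prop := ∃ j : Fin n, Even (j : ℕ) ∧ X - C r ∣ h j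

/-- The tuples without a symmetric layer at `-1`. -/
noncomputable def nomTuples [Fintype F] (n : ℕ) : Finset (Fin n → F[X]) :=
  haveI := Classical.decPred fun h : Fin n → F[X] => ¬ HasRoot (-1 : F) h
  (tuples (1 : F) n).filter fun h => ¬ HasRoot (-1 : F) h

theorem mem_nomTuples [Fintype F] {h : Fin n → F[X]} :
    h ∈ nomTuples n ↔ h ∈ tuples (1 : F) n ∧ ¬ HasRoot (-1 : F) h := by
  unfold nomTuples
  exact @Finset.mem_filter _ _ (_) _ _

theorem even_of_pow_eq {ε : F} (h2 : (2 : F) ≠ 0) (hε : ε = 1) (j : ℕ) : ε * (-1) ^ j = 1 ↔ Even j := by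
  rw [hε, one_mul]
  exact neg_one_pow_eq_one_iff_even (fun e => h2 (by linear_combination -e))

theorem iff_of_toggle {A A' B B' P : Prop} (h : A ↔ (P ↔ ¬ B)) (h' : A' ↔ (P ↔ ¬ B')) (e : A ↔ A') : B ↔ B' := by
  tauto

variable [Fintype F] (D : FormData F n) (hε : D.ε = 1) (hn : Odd n)
include hε hn

theorem slots_pos {h : Fin n → F[X]} (hh : h ∈ tuples D.ε n) : slots D.ε h ≠ 0 := by
  classical
  rw [tuples, Finset.mem_filter, Fintype.mem_piFinset] at hh
  intro h0
  rw [slots, Finset.sum_eq_zero_iff] at h0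
  refine Nat.not_even_iff_odd.2 hn ?_
  rw [← hh.2.1, Finset.even_sum_iff_even_card_odd]
  rw [Finset.filter_eq_empty_iff.2 fun j _ => ?_]
  · simp
  rw [Nat.not_odd_iff_even]
  by_cases hj : Even (j : ℕ)
  · refine Even.mul_left ?_ _
    obtain ⟨a, b, m, h₀, he, hs₀, -, hd, -, -⟩ := exists_core D.two_ne (mem_sdBox.1 (hh.1 j)).1
    have h1 := h0 j (Finset.mem_univ _)
    rw [if_pos ((even_of_pow_eq D.two_ne hε _).2 hj)] at h1
    simp only [Nat.add_eq_zero_iff, ite_eq_right_iff, one_ne_zero, imp_false] at h1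
    obtain rfl : a = 0 := by
      by_contra ha
      exact h1.1 (he ▸ dvd_mul_of_dvd_left (dvd_pow_self _ ha) _)
    obtain rfl : b = 0 := by
      by_contra hb
      exact h1.2 (he ▸ dvd_mul_of_dvd_right (dvd_mul_of_dvd_left (dvd_pow_self _ hb) _) _)
    rw [he, pow_zero, pow_zero, one_mul, one_mul, hd]
    exact even_two_mul m
  · exact Even.mul_right ((Nat.even_add_one).2 hj) _

theorem hasRoot_one {g : GL (Fin n) F} (hg : g ∈ soGrp D) : HasRoot (1 : F) (tupleOf g) := by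
  classical
  obtain ⟨hgO, hdet⟩ := mem_soGrp.1 hg
  by_contra hc
  have hgood := ptype_good g
  have hh := tupleOf_mem D g hgO
  rw [tuples, Finset.mem_filter, Fintype.mem_piFinset] at hh
  have hprod := det_toLin_eq (ptype_spec g)
  rw [hdet, ← prod_filter_snd (fun x : F[X] × ℕ => ((-1) ^ x.1.natDegree * x.1.coeff 0) ^ x.2) n _ (snd_le_n g)] at hprod
  have e : ∀ j : Fin n, (((ptype g).filter fun x => x.2 = (j : ℕ) + 1).map
      fun x : F[X] × ℕ => ((-1) ^ x.1.natDegree * x.1.coeff 0) ^ x.2).prod =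
      (-1 : F) ^ (((j : ℕ) + 1) * (tupleOf g j).natDegree) := fun j => by
    rw [Multiset.map_congr rfl (g := fun x : F[X] × ℕ => ((-1) ^ x.1.natDegree * x.1.coeff 0) ^ ((j : ℕ) + 1))
      (fun x hx => by rw [(Multiset.mem_filter.1 hx).2]), Multiset.prod_map_pow, ← (partProd_spec hgood _).2.2.2, ← tupleOf]
    obtain ⟨a, b, m, h₀, he, -, h00, -, -, -⟩ := exists_core D.two_ne (mem_sdBox.1 (hh.1 j)).1
    have h0 : (tupleOf g j).coeff 0 = (-1) ^ a := by
      rw [he, coeff_zero_eq_eval_zero, eval_mul, eval_mul, eval_pow, eval_pow, ← coeff_zero_eq_eval_zero (p := h₀), h00]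
      simp
    rw [h0, mul_pow, ← pow_mul, mul_comm (tupleOf g j).natDegree, ← pow_mul]
    by_cases hj : Even (j : ℕ)
    · obtain rfl : a = 0 := by
        by_contra ha
        exact hc ⟨j, hj, he ▸ dvd_mul_of_dvd_left (dvd_pow_self _ ha) _⟩
      simp
    · rw [(Even.mul_left ((Nat.even_add_one).2 hj) a).neg_one_pow, mul_one]
  rw [Finset.prod_congr rfl fun j _ => e j, Finset.prod_pow_eq_pow_sum, hh.2.1, hn.neg_one_pow] at hprod
  exact D.two_ne (by linear_combination hprod)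

omit hn in
theorem exists_slot {g : GL (Fin n) F} (M : BlockData (g : Matrix (Fin n) (Fin n) F))
    (hM : Finset.univ.val.map M.pe = ptype g) {r : F} (hr : r * r = 1) (h : HasRoot r (tupleOf g)) :
    ∃ x : Slot D M, x.1.1 = r := by
  obtain ⟨j, hj, hdvd⟩ := h
  refine ⟨⟨(r, j), hr, (even_of_pow_eq D.two_ne hε _).2 hj, ?_⟩, rfl⟩
  rw [← Fintype.card_pos_iff, ← card_idx g M hM]
  exact (rootMultiplicity_pos (partProd_spec (ptype_good g) _).1.ne_zero).2 (dvd_iff_isRoot.1 hdvd)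

omit hn in
theorem det_sq {g : GL (Fin n) F} (hg : g ∈ isoGrp D.B) :
    (g : Matrix (Fin n) (Fin n) F).det = 1 ∨ (g : Matrix (Fin n) (Fin n) F).det = -1 := by
  have h := congrArg Matrix.det ((D.mem_isoGrp_iff g).1 hg)
  rw [det_mul, D.det_star, det_one] at h
  exact mul_self_eq_one_iff.1 h

omit [Fintype F] hn in
theorem neg_mem_iso {g : GL (Fin n) F} (hg : g ∈ isoGrp D.B) : -g ∈ isoGrp D.B := by
  show ((-g : GL (Fin n) F) : Matrix (Fin n) (Fin n) F)ᵀ * D.B * _ = D.B
  rw [Units.val_neg, transpose_neg, neg_mul, neg_mul_neg]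
  exact hg

omit [Fintype F] hε in
theorem det_neg_gl (g : GL (Fin n) F) : ((-g : GL (Fin n) F) : Matrix (Fin n) (Fin n) F).det = -(g : Matrix (Fin n) (Fin n) F).det := by
  rw [Units.val_neg, det_neg, Fintype.card_fin, hn.neg_one_pow, neg_one_mul]

/-- The inclusion of the classes. -/
noncomputable def toIso (D : FormData F n) : ConjClasses (soGrp D) → ConjClasses (isoGrp D.B) :=
  ConjClasses.map (Subgroup.inclusion (inf_le_left : soGrp D ≤ isoGrp D.B))

theorem toIso_injective : Function.Injective (toIso D) := by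
  intro c c' h
  obtain ⟨a, rfl⟩ := c.exists_rep
  obtain ⟨b, rfl⟩ := c'.exists_rep
  obtain ⟨⟨u, hu⟩, he⟩ := isConj_iff.1 (ConjClasses.mk_eq_mk_iff_isConj.1 h)
  have he' : u * (a : GL (Fin n) F) * u⁻¹ = b := congrArg Subtype.val he
  rw [ConjClasses.mk_eq_mk_iff_isConj, isConj_iff]
  rcases det_sq D hε hu with h1 | h1
  · exact ⟨⟨u, mem_soGrp.2 ⟨hu, h1⟩⟩, Subtype.ext he'⟩
  · refine ⟨⟨-u, mem_soGrp.2 ⟨neg_mem_iso D hε hu, by rw [det_neg_gl hn, h1, neg_neg]⟩⟩, Subtype.ext ?_⟩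
    show -u * (a : GL (Fin n) F) * (-u)⁻¹ = b
    rw [inv_neg, neg_mul, neg_mul_neg, he']

theorem card_iso_eq : Nat.card (ConjClasses (isoGrp D.B)) = 2 * Nat.card (ConjClasses (soGrp D)) := by
  classical
  let neg1 : ↥(soGrp D) → ↥(isoGrp D.B) := fun a => ⟨-(a : GL (Fin n) F), neg_mem_iso D hε a.2.1⟩
  let f : Bool × ConjClasses (soGrp D) → ConjClasses (isoGrp D.B) := fun p =>
    bif p.1 then toIso D p.2 else Quotient.liftOn p.2 (fun a => ConjClasses.mk (neg1 a)) fun a b hab => by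
      obtain ⟨c, hc⟩ := isConj_iff.1 hab
      rw [ConjClasses.mk_eq_mk_iff_isConj, isConj_iff]
      exact ⟨⟨(c : GL (Fin n) F), c.2.1⟩, Subtype.ext (by
        show (c : GL (Fin n) F) * -(a : GL (Fin n) F) * (c : GL (Fin n) F)⁻¹ = -(b : GL (Fin n) F)
        rw [mul_neg, neg_mul, ← hc]; rfl)⟩
  have hdet : ∀ {a b : isoGrp D.B}, ConjClasses.mk a = ConjClasses.mk b →
      ((a : GL (Fin n) F) : Matrix (Fin n) (Fin n) F).det = ((b : GL (Fin n) F) : Matrix (Fin n) (Fin n) F).det := by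
    intro a b hab
    obtain ⟨c, hc⟩ := isConj_iff.1 (ConjClasses.mk_eq_mk_iff_isConj.1 hab)
    rw [← hc, Subgroup.coe_mul, Subgroup.coe_mul, Subgroup.coe_inv, Units.val_mul, Units.val_mul, Matrix.coe_units_inv,
      det_conj (Units.isUnit _)]
  have hbij : Function.Bijective f := by
    refine ⟨?_, fun c => ?_⟩
    · rintro ⟨s, c⟩ ⟨t, c'⟩ h
      obtain ⟨a, rfl⟩ := c.exists_rep
      obtain ⟨b, rfl⟩ := c'.exists_rep
      rcases s with _ | _ <;> rcases t with _ | _
      · refine Prod.ext rfl (toIso_injective D hε hn ?_)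
        obtain ⟨u, hu⟩ := isConj_iff.1 (ConjClasses.mk_eq_mk_iff_isConj.1 h)
        refine ConjClasses.mk_eq_mk_iff_isConj.2 (isConj_iff.2 ⟨u, Subtype.ext ?_⟩)
        have hu' : (u : GL (Fin n) F) * -(a : GL (Fin n) F) * (u : GL (Fin n) F)⁻¹ = -(b : GL (Fin n) F) := congrArg Subtype.val hu
        rw [mul_neg, neg_mul, neg_inj] at hu'
        exact hu'
      · exfalso
        have := hdet h
        rw [show ((neg1 a : GL (Fin n) F) : Matrix (Fin n) (Fin n) F).det = _ from det_neg_gl hn _, (mem_soGrp.1 a.2).2] at this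
        exact D.two_ne (by linear_combination -(this.trans (mem_soGrp.1 b.2).2))
      · exfalso
        have := hdet h
        rw [show ((neg1 b : GL (Fin n) F) : Matrix (Fin n) (Fin n) F).det = _ from det_neg_gl hn _, (mem_soGrp.1 b.2).2] at this
        exact D.two_ne (by linear_combination (mem_soGrp.1 a.2).2.symm.trans this)
      · exact Prod.ext rfl (toIso_injective D hε hn h)
    · obtain ⟨⟨g, hg⟩, rfl⟩ := c.exists_rep
      rcases det_sq D hε hg with h1 | h1
      · exact ⟨(true, ConjClasses.mk ⟨g, mem_soGrp.2 ⟨hg, h1⟩⟩), rfl⟩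
      · refine ⟨(false, ConjClasses.mk ⟨-g, mem_soGrp.2 ⟨neg_mem_iso D hε hg, by rw [det_neg_gl hn, h1, neg_neg]⟩⟩), ?_⟩
        exact congrArg ConjClasses.mk (Subtype.ext (neg_neg g))
  rw [← Nat.card_eq_of_bijective f hbij, Nat.card_prod, Nat.card_eq_fintype_card, Fintype.card_bool]

/-- Twice the number of classes is at most the weighted number of tuples. -/
theorem card_iso_le : 2 * Nat.card (ConjClasses (isoGrp D.B)) ≤ ∑ h ∈ tuples D.ε n, 2 ^ slots D.ε h := by
  refine ((card_classes_le_sum D).2 hε).trans (Finset.sum_le_sum fun h hh => ?_)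
  rw [if_neg (slots_pos D hε hn hh), add_zero]

/-- A representative of a class. -/
noncomputable def repOf (c : ConjClasses (soGrp D)) : GL (Fin n) F := (c.exists_rep.choose : soGrp D)

omit hε hn in
theorem mk_repOf (c : ConjClasses (soGrp D)) :
    ∀ h : repOf D c ∈ soGrp D, ConjClasses.mk (⟨repOf D c, h⟩ : soGrp D) = c := fun _ => c.exists_rep.choose_spec

omit hε hn in
theorem tupleOf_congr {g g' : GL (Fin n) F} (h : IsConj g g') : tupleOf g = tupleOf g' := by
  refine _root_.funext fun j => ?_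
  show partProd (ptype g) _ = partProd (ptype g') _
  rw [ptype_eq_of_isConj h]

theorem card_nom_le :
    2 * Nat.card {c : ConjClasses (soGrp D) // ¬ HasRoot (-1 : F) (tupleOf (repOf D c))} ≤
      ∑ h ∈ nomTuples n, 2 ^ slots D.ε h := by
  classical
  letI := Fintype.ofFinite (ConjClasses (soGrp D))
  let f : ConjClasses (soGrp D) → Fin n → F[X] := fun c => tupleOf (repOf D c)
  have hmem : ∀ c, f c ∈ tuples D.ε n := fun c => tupleOf_mem D _ (c.exists_rep.choose : soGrp D).2.1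
  have e : Nat.card {c : ConjClasses (soGrp D) // ¬ HasRoot (-1 : F) (f c)} =
      ∑ h ∈ nomTuples n, Nat.card {c : ConjClasses (soGrp D) // f c = h} := by
    simp only [Nat.card_eq_fintype_card, Fintype.card_subtype]
    rw [Finset.card_eq_sum_card_fiberwise (f := f) (t := nomTuples n) fun c hc => ?_]
    · refine Finset.sum_congr rfl fun h hh => congrArg Finset.card ?_
      rw [mem_nomTuples] at hh
      rw [Finset.filter_filter]
      exact Finset.filter_congr fun c _ => ⟨fun h' => h'.2, fun h' => ⟨h' ▸ hh.2, h'⟩⟩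
    · rw [Finset.mem_coe, mem_nomTuples]
      exact ⟨hε ▸ hmem c, (Finset.mem_filter.1 (Finset.mem_coe.1 hc)).2⟩
  show 2 * Nat.card {c : ConjClasses (soGrp D) // ¬ HasRoot (-1 : F) (f c)} ≤ _
  rw [e, Finset.mul_sum]
  refine Finset.sum_le_sum fun h hh => ?_
  have hh' : h ∈ tuples D.ε n := by
    rw [mem_nomTuples] at hh
    rw [hε]; exact hh.1
  refine le_trans (Nat.mul_le_mul_left 2 ?_) (((card_fiber_le D h).2 hε).trans (by rw [if_neg (slots_pos D hε hn hh'), add_zero]))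
  refine Nat.card_le_card_of_injective (fun c => ⟨toIso D c.1, ?_⟩) fun c c' he =>
    Subtype.ext (toIso_injective D hε hn (congrArg Subtype.val he))
  refine (tupleOf_congr ?_).trans c.2
  have h1 := (toIso D c.1).exists_rep.choose_spec
  have h2 : toIso D c.1 = ConjClasses.mk ⟨repOf D c.1, (c.1.exists_rep.choose : soGrp D).2.1⟩ := by
    conv_lhs => rw [← c.1.exists_rep.choose_spec]
    rfl
  exact (isoGrp D.B).subtype.map_isConj (ConjClasses.mk_eq_mk_iff_isConj.1 (h1.trans h2))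

/-- The tuple of a semisimple element has at most two slots. -/
theorem slots_semisimple {s : GL (Fin n) F} {m : ℕ} (hm : (m : F) ≠ 0) (hsm : s ^ m = 1) :
    slots D.ε (tupleOf s) ≤ 2 := by
  classical
  have hm0 : 0 < m := Nat.pos_of_ne_zero fun e => hm (by rw [e, Nat.cast_zero])
  obtain ⟨M, hM⟩ := exists_blockData s
  have hexp : ∀ i, (M.pe i).2 = 1 := fun i => by
    have hsep : Squarefree (X ^ m - C (1 : F)) := (separable_X_pow_sub_C (1 : F) hm one_ne_zero).squarefree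
    have hz : (X ^ m - C (1 : F)) • (Pi.single i (Ideal.Quotient.mk _ 1) : PMdl M.pe) = 0 := M.toVec_bijective.1 (by
      rw [M.toVec_smul, map_zero, map_sub, map_pow, aeval_X, map_one, map_one, ← Units.val_pow_eq_pow_val, hsm,
        Units.val_one, sub_self, zero_mulVec])
    have h1 := congrFun hz i
    rw [Pi.smul_apply, Pi.single_eq_same, Pi.zero_apply] at h1
    have hdvd : (M.pe i).1 ^ (M.pe i).2 ∣ X ^ m - C (1 : F) := by
      have h2 : Ideal.Quotient.mk (Ideal.span {(M.pe i).1 ^ (M.pe i).2}) ((X ^ m - C (1 : F)) * 1) = 0 := h1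
      rwa [mul_one, Ideal.Quotient.eq_zero_iff_mem, Ideal.mem_span_singleton] at h2
    have hpos := (M.pe_good i).2.2.2
    by_contra hne
    refine (M.pe_good i).2.1.not_isUnit (hsep _ ((dvd_trans ?_ hdvd)))
    rw [← sq]
    exact pow_dvd_pow _ (by omega)
  rw [slots]
  refine le_trans (Finset.sum_le_sum (g := fun j : Fin n => if (j : ℕ) = 0 then 2 else 0) fun j _ => ?_) ?_
  · rcases Nat.eq_zero_or_pos (j : ℕ) with hj | hj
    · rw [if_pos hj]; split_ifs <;> omega
    · have h1 : tupleOf s j = 1 := by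
        rw [tupleOf, partProd, Multiset.filter_eq_nil.2 fun x hx => ?_]
        · simp
        rw [← hM] at hx
        obtain ⟨i, -, rfl⟩ := Multiset.mem_map.1 hx
        rw [hexp i]; omega
      rw [if_neg hj.ne', h1]
      have hu : ∀ r : F, ¬ X - C r ∣ (1 : F[X]) := fun r h => (irreducible_X_sub_C r).not_isUnit (isUnit_of_dvd_one h)
      simp only [hu, if_false, add_zero, ite_self, le_refl]
  · rw [Finset.sum_ite, Finset.sum_const_zero, add_zero, Finset.sum_const, smul_eq_mul]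
    have : (Finset.univ.filter fun j : Fin n => (j : ℕ) = 0).card ≤ 1 :=
      Finset.card_le_one.2 fun a ha b hb => Fin.ext ((Finset.mem_filter.1 ha).2.trans (Finset.mem_filter.1 hb).2.symm)
    omega

omit hε hn in
theorem pow_odd_mem_iff {G : Type*} [Group G] {H : Subgroup G} (hH : H.index = 2) (a : G) {K : ℕ} (hK : Odd K) :
    a ^ K ∈ H ↔ a ∈ H := by
  obtain ⟨j, rfl⟩ := hK
  haveI : H.Normal := Subgroup.normal_of_index_eq_two hH
  have h2 : a ^ 2 ∈ H := Subgroup.sq_mem_of_index_two hH a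
  rw [pow_succ, pow_mul, H.mul_mem_cancel_left (pow_mem h2 j)]

variable (H : Subgroup (soGrp D)) (hH : H.index = 2)
  (hrefl : ∀ (u v : Fin n → F) (g : soGrp D), bil D.B u u ≠ 0 → bil D.B v v ≠ 0 →
    ((g : GL (Fin n) F) : Matrix (Fin n) (Fin n) F) = refl D u * refl D v →
      (g ∈ H ↔ IsSquare (bil D.B u u * bil D.B v v)))
include hH hrefl

set_option maxHeartbeats 800000 in
/-- A class outside with the flipped discriminants. -/
theorem exists_out {g₀ g : GL (Fin n) F} (M : BlockData (g₀ : Matrix (Fin n) (Fin n) F)) (h₀ : g₀ ∈ soGrp D)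
    (hg : g ∈ soGrp D) (hgin : (⟨g, hg⟩ : soGrp D) ∈ H) (hτ : tupleOf g₀ = tupleOf g)
    (xp xm : Slot D M) (hp : xp.1.1 = 1) (hq : xm.1.1 = -1) :
    ∃ (x x' g' : GL (Fin n) F) (hg' : g' ∈ soGrp D), x * g₀ = g * x ∧ x' * g₀ = g' * x' ∧
      (∀ y, disc D M (D.star (x' : Matrix (Fin n) (Fin n) F) * x') y ↔
        ((y = xp ∨ y = xm) ↔ ¬ disc D M (D.star (x : Matrix (Fin n) (Fin n) F) * x) y)) ∧
      (⟨g', hg'⟩ : soGrp D) ∉ H := by
  classical
  haveI : H.Normal := Subgroup.normal_of_index_eq_two hH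
  have hm1 : (-1 : F) * -1 = 1 := by ring
  obtain ⟨x, hx⟩ : ∃ x : GL (Fin n) F, x * g₀ = g * x := by
    obtain ⟨x, hx⟩ := isConj_iff.1 (isConj_of_ptype_eq (ptype_eq_of_tupleOf hτ))
    exact ⟨x, by rw [← hx, inv_mul_cancel_right]⟩
  obtain ⟨g', x', hg', hx', hdisc, hnconj⟩ := exists_flipped D hε M (mem_soGrp.1 h₀).1 (mem_soGrp.1 hg).1 hx xp xm hp hq
  have hgg : g' = x' * g₀ * x'⁻¹ := by rw [hx', mul_inv_cancel_right]
  have hgg2 : g = x * g₀ * x⁻¹ := by rw [hx, mul_inv_cancel_right]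
  have hg'SO : g' ∈ soGrp D := mem_soGrp.2 ⟨hg', by
    rw [hgg, Units.val_mul, Units.val_mul, Matrix.coe_units_inv, det_conj (Units.isUnit _), (mem_soGrp.1 h₀).2]⟩
  refine ⟨x, x', g', hg'SO, hx, hx', hdisc, fun hin => ?_⟩
  -- semisimple parts
  obtain ⟨K, m, hK, hev, hm, hKm, hsem⟩ := exists_semisimple D g₀
  have hnc := hnconj K m hev hm hKm hsem
  obtain ⟨s, hsdef⟩ : ∃ s, s = g ^ K := ⟨_, rfl⟩
  obtain ⟨s', hs'def⟩ : ∃ s, s = g' ^ K := ⟨_, rfl⟩
  have hgSO : g ∈ soGrp D := hg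
  have hs : s ∈ soGrp D := hsdef ▸ pow_mem hgSO K
  have hs' : s' ∈ soGrp D := hs'def ▸ pow_mem hg'SO K
  have hsin : (⟨s, hs⟩ : soGrp D) ∈ H := by
    rw [show (⟨s, hs⟩ : soGrp D) = ⟨g, hgSO⟩ ^ K from Subtype.ext hsdef, pow_odd_mem_iff hH _ hK]
    exact hgin
  have hs'in : (⟨s', hs'⟩ : soGrp D) ∈ H := by
    rw [show (⟨s', hs'⟩ : soGrp D) = ⟨g', hg'SO⟩ ^ K from Subtype.ext hs'def, pow_odd_mem_iff hH _ hK]
    exact hin
  have hsx : s = x * g₀ ^ K * x⁻¹ := by rw [hsdef, hgg2, conj_pow]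
  have hss : IsConj s s' := by
    refine (isConj_iff.2 ⟨x, hsx.symm⟩).symm.trans ?_
    exact isConj_iff.2 ⟨x', by rw [hs'def, hgg, conj_pow]⟩
  have hsm : s ^ m = 1 := by rw [hsx, conj_pow, hKm, mul_one, mul_inv_cancel]
  -- an eigenvector for `-1`
  obtain ⟨z, hz, hz0⟩ : ∃ z : Fin n → F, (s : Matrix (Fin n) (Fin n) F) *ᵥ z = -z ∧ z ≠ 0 := by
    obtain ⟨i⟩ := xm.2.2.2
    have hne : M.gen i.1 ≠ 0 := fun e => by
      have := M.toVec_bijective.1 (e.trans (map_zero _).symm)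
      have h1 := congrFun this i.1
      rw [Pi.single_eq_same, Pi.zero_apply] at h1
      have h2 := Ideal.mem_span_singleton.1 (Ideal.Quotient.eq_zero_iff_mem.1 h1)
      obtain ⟨-, hir, -, he⟩ := M.pe_good i.1
      exact hir.not_isUnit (isUnit_of_dvd_one ((dvd_pow_self _ he.ne').trans h2))
    obtain ⟨v₀, hv₀⟩ : ∃ v₀, v₀ = M.gen i.1 := ⟨_, rfl⟩
    rw [← hv₀] at hne
    have hker : nilPow (g₀ : Matrix (Fin n) (Fin n) F) (-1) n *ᵥ v₀ = 0 := by
      refine ker_nilPow_le _ ((xm.1.2 : ℕ) + 1) ?_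
      have := M.gen_mem_ker i.1
      rw [i.2, ← hv₀] at this
      rwa [hq] at this
    have hv := hsem (-1) hm1 v₀ hker
    refine ⟨(x : Matrix (Fin n) (Fin n) F) *ᵥ v₀, ?_, fun e => hne ?_⟩
    · rw [mulVec_mulVec, ← Units.val_mul, hsx, inv_mul_cancel_right, Units.val_mul, ← mulVec_mulVec, hv, neg_one_smul, mulVec_neg]
    · have h1 := congrArg (fun v => ((x⁻¹ : GL (Fin n) F) : Matrix (Fin n) (Fin n) F) *ᵥ v) e
      simpa [mulVec_mulVec] using h1
  obtain ⟨u, v, hu, hv, hub, hvb, hns⟩ := exists_pair D hε hn hm hev (by rw [← Units.val_pow_eq_pow_val, hsm, Units.val_one])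
    ((D.mem_isoGrp_iff s).1 (mem_soGrp.1 hs).1) (mem_soGrp.1 hs).2 hz hz0
  obtain ⟨s₂, hs₂, hs₂O, hss₂⟩ := exists_pair_conj D hε (mem_soGrp.1 hs).1 hu hv hub hvb
  have hs₂SO : s₂ ∈ soGrp D := mem_soGrp.2 ⟨hs₂O, by
    rw [hs₂, det_mul, det_mul, det_refl D hub, det_refl D hvb, (mem_soGrp.1 hs).2]; ring⟩
  have hs₂out : (⟨s₂, hs₂SO⟩ : soGrp D) ∉ H := fun h => by
    have h1 := H.mul_mem (H.inv_mem hsin) h
    refine hns ((hrefl u v _ hub hvb ?_).1 h1)
    show ((s⁻¹ * s₂ : GL (Fin n) F) : Matrix (Fin n) (Fin n) F) = _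
    rw [Units.val_mul, hs₂, ← mul_assoc, Units.inv_mul, one_mul]
  -- at most two classes have the type of `s`
  have hcard := (card_fiber_le D (tupleOf s)).2 hε
  have hsl := slots_semisimple D hε hn hm hsm
  rw [if_neg (slots_pos D hε hn (tupleOf_mem D s (mem_soGrp.1 hs).1)), add_zero] at hcard
  have h4 := Nat.pow_le_pow_right two_pos hsl
  have hfib : ∀ y : GL (Fin n) F, ∀ hy : y ∈ soGrp D, IsConj s y →
      tupleOf ((ConjClasses.mk (⟨y, hy.1⟩ : isoGrp D.B)).exists_rep.choose : GL (Fin n) F) = tupleOf s := by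
    intro y hy hsy
    refine (tupleOf_congr ?_).trans (tupleOf_congr hsy).symm
    exact (isoGrp D.B).subtype.map_isConj (ConjClasses.mk_eq_mk_iff_isConj.1 (ConjClasses.mk (⟨y, hy.1⟩ : isoGrp D.B)).exists_rep.choose_spec)
  have hside : ∀ {a b : GL (Fin n) F} (ha : a ∈ soGrp D) (hb : b ∈ soGrp D),
      ConjClasses.mk (⟨a, ha.1⟩ : isoGrp D.B) = ConjClasses.mk ⟨b, hb.1⟩ → ((⟨a, ha⟩ : soGrp D) ∈ H ↔ (⟨b, hb⟩ : soGrp D) ∈ H) := by
    intro a b ha hb hab
    exact mem_iff_of_mk_eq H (toIso_injective D hε hn hab)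
  let e3 : Fin 3 → {c : ConjClasses (isoGrp D.B) // tupleOf (c.exists_rep.choose : GL (Fin n) F) = tupleOf s} :=
    ![⟨_, hfib s hs (IsConj.refl s)⟩, ⟨_, hfib s' hs' hss⟩, ⟨_, hfib s₂ hs₂SO hss₂⟩]
  have hinj : Function.Injective e3 := by
    intro a b hab
    have h' := congrArg Subtype.val hab
    have n01 : ConjClasses.mk (⟨s, hs.1⟩ : isoGrp D.B) ≠ ConjClasses.mk ⟨s', hs'.1⟩ := fun h => hnc (by
      have h1 := ConjClasses.mk_eq_mk_iff_isConj.1 h
      simp only [hsdef, hs'def] at h1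
      exact h1)
    have n02 : ConjClasses.mk (⟨s, hs.1⟩ : isoGrp D.B) ≠ ConjClasses.mk ⟨s₂, hs₂SO.1⟩ := fun h =>
      hs₂out ((hside hs hs₂SO h).1 hsin)
    have n12 : ConjClasses.mk (⟨s', hs'.1⟩ : isoGrp D.B) ≠ ConjClasses.mk ⟨s₂, hs₂SO.1⟩ := fun h =>
      hs₂out ((hside hs' hs₂SO h).1 hs'in)
    fin_cases a <;> fin_cases b <;>
      first | rfl | exact absurd h' n01 | exact absurd h'.symm n01 | exact absurd h' n02 | exact absurd h'.symm n02 | exact absurd h' n12 | exact absurd h'.symm n12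
  have h3 := Nat.card_le_card_of_injective e3 hinj
  rw [Nat.card_eq_fintype_card, Fintype.card_fin] at h3
  omega

theorem card_fiber_both {h : Fin n → F[X]} (hr : HasRoot (-1 : F) h) :
    Nat.card {c : InClasses H // tupleOf (repOf D c.1) = h} ≤ Nat.card {c : OutClasses H // tupleOf (repOf D c.1) = h} := by
  classical
  haveI : H.Normal := Subgroup.normal_of_index_eq_two hH
  rcases isEmpty_or_nonempty {c : InClasses H // tupleOf (repOf D c.1) = h} with he | ⟨⟨c₀, hc₀⟩⟩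
  · rw [Nat.card_of_isEmpty]; exact Nat.zero_le _
  have hrep : ∀ c : ConjClasses (soGrp D), repOf D c ∈ soGrp D := fun c => (c.exists_rep.choose : soGrp D).2
  obtain ⟨g₀, hg₀⟩ : ∃ g, g = repOf D c₀.1 := ⟨_, rfl⟩
  have h₀ : g₀ ∈ soGrp D := hg₀ ▸ hrep _
  rw [← hg₀] at hc₀
  obtain ⟨M, hM⟩ := exists_blockData g₀
  obtain ⟨xp, hp⟩ := exists_slot D hε M hM (one_mul 1) (hasRoot_one D hε hn h₀)
  obtain ⟨xm, hq⟩ := exists_slot D hε M hM (show (-1 : F) * -1 = 1 by ring) (hc₀.symm ▸ hr)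
  have hout : ∀ c : {c : InClasses H // tupleOf (repOf D c.1) = h}, _ := fun c =>
    exists_out D hε hn H hH hrefl M h₀ (hrep c.1.1) (c.1.2 _ (mk_repOf D _ _)) (hc₀.trans c.2.symm) xp xm hp hq
  choose x x' g' hg' hx hx' hdisc hnotin using hout
  have htup : ∀ c, tupleOf (repOf D (ConjClasses.mk (⟨g' c, hg' c⟩ : soGrp D))) = h := fun c => by
    refine (tupleOf_congr ?_).trans hc₀
    have h1 := ((soGrp D).subtype.map_isConj (ConjClasses.mk_eq_mk_iff_isConj.1
      (mk_repOf D (ConjClasses.mk (⟨g' c, hg' c⟩ : soGrp D)) (hrep _))))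
    refine h1.trans ((isConj_iff.2 ⟨x' c, ?_⟩).symm)
    show x' c * g₀ * (x' c)⁻¹ = g' c
    rw [hx', mul_inv_cancel_right]
  refine Nat.card_le_card_of_injective (fun c => (⟨⟨ConjClasses.mk ⟨g' c, hg' c⟩, fun y hy => by
    rw [mem_iff_of_mk_eq H hy]; exact hnotin c⟩, htup c⟩ : {c : OutClasses H // tupleOf (repOf D c.1) = h})) ?_
  intro c c' he
  obtain ⟨u, hu⟩ := isConj_iff.1 (ConjClasses.mk_eq_mk_iff_isConj.1 (congrArg Subtype.val (congrArg Subtype.val he)))
  have hu' : (u : GL (Fin n) F) * g' c * (u : GL (Fin n) F)⁻¹ = g' c' := congrArg Subtype.val hu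
  obtain ⟨w, hw⟩ : ∃ w, w = (x' c')⁻¹ * (u : GL (Fin n) F) * x' c := ⟨_, rfl⟩
  have hwc : w * g₀ = g₀ * w := by
    have e1 : g₀ = (x' c')⁻¹ * g' c' * x' c' := by rw [mul_assoc, ← hx', inv_mul_cancel_left]
    calc w * g₀ = (x' c')⁻¹ * ((u : GL (Fin n) F) * g' c * (u : GL (Fin n) F)⁻¹) * u * x' c := by
          rw [hw, mul_assoc, hx' c]; group
      _ = ((x' c')⁻¹ * g' c' * x' c') * w := by rw [hu', hw]; group
      _ = _ := by rw [← e1]
  have hww : D.star (w : Matrix (Fin n) (Fin n) F) * (D.star (x' c' : Matrix (Fin n) (Fin n) F) * x' c') * w =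
      D.star (x' c : Matrix (Fin n) (Fin n) F) * x' c := by
    have e : (x' c' : Matrix (Fin n) (Fin n) F) * w = ((u : GL (Fin n) F) : Matrix (Fin n) (Fin n) F) * x' c := by
      rw [← Units.val_mul, ← Units.val_mul, hw]
      exact congrArg Units.val (by group)
    calc _ = D.star ((x' c' : Matrix (Fin n) (Fin n) F) * w) * ((x' c' : Matrix (Fin n) (Fin n) F) * w) := by
          rw [D.star_mul]; simp only [mul_assoc]
      _ = D.star (x' c : Matrix (Fin n) (Fin n) F) * ((D.star ((u : GL (Fin n) F) : Matrix (Fin n) (Fin n) F) * ((u : GL (Fin n) F) : Matrix (Fin n) (Fin n) F)) * x' c) := by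
          rw [e, D.star_mul]; simp only [mul_assoc]
      _ = _ := by rw [(D.mem_isoGrp_iff _).1 u.2.1, one_mul]
  have hG := (D.mem_isoGrp_iff _).1 h₀.1
  have hdd : ∀ y, disc D M (D.star (x' c : Matrix (Fin n) (Fin n) F) * x' c) y ↔
      disc D M (D.star (x' c' : Matrix (Fin n) (Fin n) F) * x' c') y := fun y => by
    rw [← hww]
    exact disc_congr D M hG (isSA_of_conj D h₀.1 (hg' c').1 (hx' c')) (congrArg Units.val hwc) w.isUnit y
  obtain ⟨v, hv, hvu, hvv⟩ := exists_congr_of_disc D M hG (isSA_of_conj D h₀.1 (hrep c.1.1).1 (hx c))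
    (isSA_of_conj D h₀.1 (hrep c'.1.1).1 (hx c')) fun y => by
      exact iff_of_toggle (hdisc c y) (hdisc c' y) (hdd y)
  have hconj := isConj_of_congr D (hrep c.1.1).1 (hrep c'.1.1).1 (hx c) (hx c') hv hvu hvv
  refine Subtype.ext (Subtype.ext (toIso_injective D hε hn ?_))
  rw [← mk_repOf D c.1.1 (hrep _), ← mk_repOf D c'.1.1 (hrep _)]
  exact ConjClasses.mk_eq_mk_iff_isConj.2 hconj

theorem card_both_le :
    Nat.card {c : InClasses H // HasRoot (-1 : F) (tupleOf (repOf D c.1))} ≤ Nat.card (OutClasses H) := by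
  classical
  letI := Fintype.ofFinite (ConjClasses (soGrp D))
  let I := {c : InClasses H // HasRoot (-1 : F) (tupleOf (repOf D c.1))}
  let T : Finset (Fin n → F[X]) := (tuples D.ε n).filter fun h => HasRoot (-1 : F) h
  have hmem : ∀ c : ConjClasses (soGrp D), tupleOf (repOf D c) ∈ tuples D.ε n := fun c =>
    tupleOf_mem D _ (c.exists_rep.choose : soGrp D).2.1
  have h1 : Nat.card I ≤ ∑ h ∈ T, Nat.card {c : InClasses H // tupleOf (repOf D c.1) = h} := by
    simp only [I, Nat.card_eq_fintype_card, Fintype.card_subtype]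
    rw [Finset.card_eq_sum_card_fiberwise (f := fun c : InClasses H => tupleOf (repOf D c.1)) (t := T)
      fun c hc => Finset.mem_coe.2 (Finset.mem_filter.2 ⟨hmem _, (Finset.mem_filter.1 (Finset.mem_coe.1 hc)).2⟩)]
    exact Finset.sum_le_sum fun h _ => Finset.card_le_card (Finset.filter_subset_filter _ (Finset.filter_subset _ _))
  have h2 : ∑ h ∈ T, Nat.card {c : OutClasses H // tupleOf (repOf D c.1) = h} ≤ Nat.card (OutClasses H) := by
    simp only [Nat.card_eq_fintype_card, Fintype.card_subtype, ← Finset.card_univ (α := OutClasses H)]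
    rw [Finset.card_eq_sum_card_fiberwise (s := (Finset.univ : Finset (OutClasses H)))
      (f := fun c : OutClasses H => tupleOf (repOf D c.1)) (t := tuples D.ε n) fun c _ => Finset.mem_coe.2 (hmem _)]
    exact Finset.sum_le_sum_of_subset (Finset.filter_subset _ _)
  exact (h1.trans (Finset.sum_le_sum fun h hh => card_fiber_both D hε hn H hH hrefl (Finset.mem_filter.1 hh).2)).trans h2

/-- The bounds in terms of tuples. -/
theorem odd_class_bounds :
    Nat.card (ConjClasses (isoGrp D.B)) ≤ 4 * Nat.card (ConjClasses H) ∧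
      2 * Nat.card (ConjClasses H) ≤ ∑ h ∈ tuples D.ε n, 2 ^ slots D.ε h ∧
      8 * Nat.card (ConjClasses H) ≤
        ∑ h ∈ tuples D.ε n, 2 ^ slots D.ε h + 6 * ∑ h ∈ nomTuples n, 2 ^ slots D.ε h := by
  classical
  obtain ⟨h1, h2, h3⟩ := index_two_classes H hH
  have hiso := card_iso_eq D hε hn
  have hle := card_iso_le D hε hn
  have hboth := card_both_le D hε hn H hH hrefl
  have hnom := card_nom_le D hε hn
  have hsplit : Nat.card (InClasses H) ≤ Nat.card {c : InClasses H // HasRoot (-1 : F) (tupleOf (repOf D c.1))} +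
      Nat.card {c : ConjClasses (soGrp D) // ¬ HasRoot (-1 : F) (tupleOf (repOf D c))} := by
    rw [← Nat.card_congr (Equiv.sumCompl fun c : InClasses H => HasRoot (-1 : F) (tupleOf (repOf D c.1))), Nat.card_sum]
    refine Nat.add_le_add_left (Nat.card_le_card_of_injective (fun c => ⟨c.1.1, c.2⟩) fun c c' h => ?_) _
    exact Subtype.ext (Subtype.ext (congrArg Subtype.val h :))
  refine ⟨by omega, by omega, by omega⟩

end CfsgLib.CClassBound
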