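import Cfsg.Agent.Lib.KnownSimple.ClassicalClassBound.Bound
import Cfsg.Agent.Lib.KnownSimple.ClassicalClassBound.OddCount

/-!
# The tuples in odd dimension
-/

set_option autoImplicit false

namespace CfsgLib.CClassBound

open Polynomial

universe u

variable {F : Type u} [Field F]

attribute [local instance] _root_.Classical.propDecidable

/-- The weight of a part without a symmetric layer at `-1`. -/
noncomputable def nomWt (sym : Bool) (P : F[X]) : ℕ :=
  if sym = true ∧ X - C (-1 : F) ∣ P then 0 else partWt sym P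

/-- The weighted number of self-dual polynomials of degree `d` not vanishing at `-1`. -/
def nomNum (q d : ℕ) : ℕ :=
  if d = 1 then 2 else if Even d then q ^ (d / 2) else 2 * (q ^ (d / 2) - q ^ (d / 2 - 1))

theorem nomWt_le (sym : Bool) (P : F[X]) : nomWt sym P ≤ partWt sym P := by
  rw [nomWt]; split_ifs <;> simp

variable [Fintype F]

/-- Palindromic polynomials with a prescribed set of values at `r`. -/
theorem card_pal_value_le {r : F} (hr : r * r = 1) (j : ℕ) (hj : 1 ≤ j) (V : Finset F) (s : Finset F[X])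
    (hs : ∀ P ∈ s, IsSD P ∧ P.natDegree = 2 * j ∧ P.coeff 0 = 1 ∧ P.eval r ∈ V) :
    s.card ≤ Fintype.card F ^ (j - 1) * V.card := by
  classical
  calc s.card ≤ ((Finset.univ : Finset (Fin (j - 1) → F)) ×ˢ V).card :=
        Finset.card_le_card_of_injOn (fun P => (fun i : Fin (j - 1) => P.coeff ((i : ℕ) + 1), P.eval r))
          (fun P hP => Finset.mem_coe.2 (Finset.mem_product.2 ⟨Finset.mem_univ _, (hs P hP).2.2.2⟩)) ?_
    _ = _ := by rw [Finset.card_product, Finset.card_univ, Fintype.card_fun, Fintype.card_fin]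
  intro P hP Q hQ h
  obtain ⟨h1, hd1, ha1, -⟩ := hs P hP
  obtain ⟨k1, hd2, ha2, -⟩ := hs Q hQ
  obtain ⟨hc, hv⟩ := Prod.ext_iff.1 h
  have low : ∀ i, i < j → P.coeff i = Q.coeff i := fun i hi => by
    rcases Nat.eq_zero_or_pos i with rfl | hi0
    · rw [ha1, ha2]
    · have := congrFun hc ⟨i - 1, by omega⟩
      simpa [Nat.sub_add_cancel hi0] using this
  have heq : ∀ i, i ≠ j → P.coeff i = Q.coeff i := fun i hi => by
    rcases lt_trichotomy i j with h' | h' | h'
    · exact low i h'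
    · exact absurd h' hi
    · rcases Nat.lt_or_ge (2 * j) i with h'' | h''
      · rw [coeff_eq_zero_of_natDegree_lt (by omega), coeff_eq_zero_of_natDegree_lt (by omega)]
      · have e1 := (h1.coeff_eq (j := 2 * j - i) (by omega)).1
        have e2 := (k1.coeff_eq (j := 2 * j - i) (by omega)).1
        rw [hd1, ha1, one_mul, Nat.sub_sub_self h''] at e1
        rw [hd2, ha2, one_mul, Nat.sub_sub_self h''] at e2
        rw [e1, e2, low _ (by omega)]
  have hdiff : P - Q = C (P.coeff j - Q.coeff j) * X ^ j := Polynomial.ext fun i => by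
    rw [coeff_sub, coeff_C_mul, coeff_X_pow]
    rcases eq_or_ne i j with rfl | hi
    · simp
    · rw [if_neg hi, mul_zero, heq i hi, sub_self]
  have h3 := congrArg (Polynomial.eval r) hdiff
  rw [eval_sub, show P.eval r = Q.eval r from hv, sub_self, eval_mul, eval_C, eval_pow, eval_X] at h3
  have hr0 : r ≠ 0 := fun e => by simp [e] at hr
  have h4 := (mul_eq_zero.1 h3.symm).resolve_right (pow_ne_zero _ hr0)
  refine Polynomial.ext fun i => ?_
  rcases eq_or_ne i j with rfl | hi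
  · exact sub_eq_zero.1 h4
  · exact heq i hi

theorem card_ne_zero_filter : (Finset.univ.filter fun c : F => c ≠ 0).card = Fintype.card F - 1 := by
  rw [Finset.filter_ne', Finset.card_erase_of_mem (Finset.mem_univ _), Finset.card_univ]

theorem deg_nomWt_le (h2 : (2 : F) ≠ 0) (N d : ℕ) :
    ∑ P ∈ (sdBox (F := F) N).filter (fun P : F[X] => P.natDegree = d), nomWt true P ≤ nomNum (Fintype.card F) d := by
  classical
  obtain ⟨s, hsdef⟩ : ∃ s, s = ((sdBox (F := F) N).filter (fun P : F[X] => P.natDegree = d)).filter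
      fun P : F[X] => ¬ X - C (-1 : F) ∣ P := ⟨_, rfl⟩
  have hs : ∀ P ∈ s, IsSD P ∧ P.natDegree = d ∧ P.eval (-1) ≠ 0 := fun P hP => by
    rw [hsdef, Finset.mem_filter, Finset.mem_filter, mem_sdBox] at hP
    exact ⟨hP.1.1.1, hP.1.2, fun e => hP.2 (dvd_iff_isRoot.2 e)⟩
  have hsum : ∑ P ∈ (sdBox (F := F) N).filter (fun P : F[X] => P.natDegree = d), nomWt true P =
      s.card + (s.filter fun P : F[X] => X - C (1 : F) ∣ P).card := by
    have e : ∀ P : F[X], nomWt true P = if ¬ X - C (-1 : F) ∣ P then 1 + (if X - C (1 : F) ∣ P then 1 else 0) else 0 := fun P => by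
      rw [nomWt]
      by_cases hm : X - C (-1 : F) ∣ P
      · rw [if_pos ⟨rfl, hm⟩, if_neg (not_not.2 hm)]
      · rw [if_neg (fun h => hm h.2), if_pos hm, partWt, cond_true, if_neg hm, add_zero]
        by_cases hp : X - C (1 : F) ∣ P <;> simp only [hp, if_true, if_false] <;> norm_num
    simp only [e]
    rw [← Finset.sum_filter, ← hsdef, Finset.sum_add_distrib, ← Finset.card_eq_sum_ones, ← Finset.card_filter]
  rw [hsum]
  -- the constant term is determined by the parity of the degree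
  have hcore : ∀ P ∈ s, ∃ (a m : ℕ) (h₀ : F[X]), P = (X - C 1) ^ a * h₀ ∧ IsSD h₀ ∧ h₀.coeff 0 = 1 ∧
      h₀.natDegree = 2 * m ∧ d = a + 2 * m ∧ P.coeff 0 = (-1) ^ a := by
    intro P hP
    obtain ⟨hsd, hd, hm⟩ := hs P hP
    obtain ⟨a, b, m, h₀, he, hs₀, h00, hd₀, -, -⟩ := exists_core h2 hsd
    obtain rfl : b = 0 := by
      by_contra hb
      exact hm (by rw [he]; simp [hb])
    rw [pow_zero, one_mul] at he
    refine ⟨a, m, h₀, he, hs₀, h00, hd₀, ?_, ?_⟩
    · rw [← hd, he, natDegree_mul (pow_ne_zero _ (monic_X_sub_C (1 : F)).ne_zero) hs₀.1.ne_zero, natDegree_pow,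
        natDegree_X_sub_C, mul_one, hd₀]
    · rw [he, coeff_zero_eq_eval_zero, eval_mul, eval_pow, ← coeff_zero_eq_eval_zero (p := h₀), h00]
      simp
  have hm1 : (-1 : F) * -1 = 1 := by ring
  rw [nomNum]
  rcases eq_or_ne d 0 with rfl | hd0
  · have h1 : ∀ P ∈ s, P = 1 := fun P hP => Polynomial.eq_one_of_monic_natDegree_zero (hs P hP).1.1 (hs P hP).2.1
    have c1 : s.card ≤ 1 := Finset.card_le_one.2 fun a ha b hb => (h1 a ha).trans (h1 b hb).symm
    have c2 : (s.filter fun P : F[X] => X - C (1 : F) ∣ P) = ∅ := Finset.filter_eq_empty_iff.2 fun P hP h => by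
      rw [h1 P hP] at h
      exact (irreducible_X_sub_C (1 : F)).not_isUnit (isUnit_of_dvd_one h)
    rw [c2, Finset.card_empty, if_neg (by omega), if_pos Even.zero]
    simpa using c1
  rcases Nat.even_or_odd' d with ⟨j, rfl | rfl⟩
  · obtain ⟨j, rfl⟩ : ∃ i, j = i + 1 := ⟨j - 1, by omega⟩
    rw [if_neg (by omega), if_pos (even_two_mul _), Nat.mul_div_cancel_left _ two_pos]
    have h0 : ∀ P ∈ s, IsSD P ∧ P.natDegree = 2 * (j + 1) ∧ P.coeff 0 = 1 := fun P hP => by
      obtain ⟨a, m, -, -, -, -, -, hdm, hc⟩ := hcore P hP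
      exact ⟨(hs P hP).1, (hs P hP).2.1, by rw [hc, Even.neg_one_pow ⟨j + 1 - m, by omega⟩]⟩
    have c1 := card_pal_value_le hm1 (j + 1) (by omega) (Finset.univ.filter fun c : F => c ≠ 0) s fun P hP =>
      ⟨(h0 P hP).1, (h0 P hP).2.1, (h0 P hP).2.2, Finset.mem_filter.2 ⟨Finset.mem_univ _, (hs P hP).2.2⟩⟩
    have c2 := card_pal_value_le (one_mul (1 : F)) (j + 1) (by omega) {0} (s.filter fun P : F[X] => X - C (1 : F) ∣ P)
      fun P hP => by
        obtain ⟨hP, hdvd⟩ := Finset.mem_filter.1 hP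
        exact ⟨(h0 P hP).1, (h0 P hP).2.1, (h0 P hP).2.2, Finset.mem_singleton.2 (dvd_iff_isRoot.1 hdvd)⟩
    rw [card_ne_zero_filter, Nat.add_sub_cancel] at c1
    rw [Finset.card_singleton, mul_one, Nat.add_sub_cancel] at c2
    have hq := Fintype.card_pos (α := F)
    have e : Fintype.card F ^ j * (Fintype.card F - 1) + Fintype.card F ^ j = Fintype.card F ^ (j + 1) := by
      rw [pow_succ, ← Nat.mul_succ, Nat.succ_eq_add_one, Nat.sub_add_cancel hq]
    omega
  · have hdvd : ∀ P ∈ s, ∃ Q, P = (X - C 1) * Q ∧ IsSD Q ∧ Q.natDegree = 2 * j ∧ Q.coeff 0 = 1 ∧ Q.eval (-1) ≠ 0 := by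
      intro P hP
      obtain ⟨a, m, h₀, he, hs₀, h00, hd₀, hdm, hc⟩ := hcore P hP
      obtain ⟨a, rfl⟩ : ∃ i, a = i + 1 := ⟨a - 1, by omega⟩
      have hsd := (hs P hP).1
      rw [pow_succ', mul_assoc] at he
      rw [he] at hsd
      refine ⟨(X - C 1) ^ a * h₀, he, hsd.cancel (one_mul 1), ?_, ?_, ?_⟩
      · rw [natDegree_mul (pow_ne_zero _ (monic_X_sub_C (1 : F)).ne_zero) hs₀.1.ne_zero, natDegree_pow,
          natDegree_X_sub_C, mul_one, hd₀]
        omega
      · rw [coeff_zero_eq_eval_zero, eval_mul, eval_pow, ← coeff_zero_eq_eval_zero (p := h₀), h00, mul_one]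
        simp [Even.neg_one_pow (⟨j - m, by omega⟩ : Even a)]
      · have := (hs P hP).2.2
        rw [he, eval_mul] at this
        exact right_ne_zero_of_mul this
    have hall : (s.filter fun P : F[X] => X - C (1 : F) ∣ P) = s :=
      Finset.filter_true_of_mem fun P hP => by obtain ⟨Q, rfl, -⟩ := hdvd P hP; exact dvd_mul_right _ _
    rw [hall]
    choose Q hQ hQs hQd hQ0 hQe using hdvd
    have hinj : ∀ P (hP : P ∈ s) P' (hP' : P' ∈ s), Q P hP = Q P' hP' → P = P' := fun P hP P' hP' e => by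
      rw [hQ P hP, hQ P' hP', e]
    have hcard : (s.attach.image fun P => Q P.1 P.2).card = s.card := by
      rw [Finset.card_image_of_injective _ fun P P' e => Subtype.ext (hinj _ P.2 _ P'.2 e), Finset.card_attach]
    have himg : ∀ R ∈ s.attach.image (fun P => Q P.1 P.2), IsSD R ∧ R.natDegree = 2 * j ∧ R.coeff 0 = 1 ∧
        R.eval (-1) ≠ 0 := fun R hR => by
      obtain ⟨P, -, rfl⟩ := Finset.mem_image.1 hR
      exact ⟨hQs _ _, hQd _ _, hQ0 _ _, hQe _ _⟩
    rcases Nat.eq_zero_or_pos j with rfl | hj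
    · rw [if_pos rfl, ← hcard]
      have : (s.attach.image fun P => Q P.1 P.2).card ≤ 1 := Finset.card_le_one.2 fun a ha b hb => by
        rw [Polynomial.eq_one_of_monic_natDegree_zero (himg a ha).1.1 (himg a ha).2.1,
          Polynomial.eq_one_of_monic_natDegree_zero (himg b hb).1.1 (himg b hb).2.1]
      omega
    · have c1 := card_pal_value_le hm1 j hj (Finset.univ.filter fun c : F => c ≠ 0) _ fun R hR =>
        ⟨(himg R hR).1, (himg R hR).2.1, (himg R hR).2.2.1, Finset.mem_filter.2 ⟨Finset.mem_univ _, (himg R hR).2.2.2⟩⟩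
      rw [card_ne_zero_filter, hcard] at c1
      rw [if_neg (by omega), if_neg (Nat.not_even_iff_odd.2 ⟨j, rfl⟩), show (2 * j + 1) / 2 = j by omega]
      have e : Fintype.card F ^ (j - 1) * (Fintype.card F - 1) = Fintype.card F ^ j - Fintype.card F ^ (j - 1) := by
        rw [Nat.mul_sub, mul_one, ← pow_succ, Nat.sub_add_cancel hj]
      omega

section Series

variable {q : ℕ} {x : ℝ}

theorem sum_nomNum_le (hx : 0 ≤ x) (hy : (q : ℝ) * x ^ 2 < 1) (M : ℕ) :
    ∑ d ∈ Finset.range M, (nomNum q d : ℝ) * x ^ d ≤ (1 + 2 * x) / (1 - (q : ℝ) * x ^ 2) := by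
  obtain ⟨y, hydef⟩ : ∃ y, y = (q : ℝ) * x ^ 2 := ⟨_, rfl⟩
  rw [← hydef] at hy ⊢
  have hy0 : 0 ≤ y := by rw [hydef]; positivity
  have key : ∀ K, ∑ d ∈ Finset.range (2 * K), (nomNum q d : ℝ) * x ^ d ≤ (1 + 2 * x) * ∑ j ∈ Finset.range K, y ^ j := by
    intro K
    induction K with
    | zero => simp
    | succ K ih =>
      rw [show 2 * (K + 1) = 2 * K + 1 + 1 by omega, Finset.sum_range_succ, Finset.sum_range_succ, Finset.sum_range_succ _ K,
        mul_add, add_assoc]
      refine add_le_add ih ?_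
      have e1 : (nomNum q (2 * K) : ℝ) * x ^ (2 * K) = y ^ K := by
        rw [nomNum, if_neg (by omega), if_pos (even_two_mul _), Nat.mul_div_cancel_left _ two_pos, hydef, mul_pow, pow_mul]
        push_cast; rfl
      have e2 : (nomNum q (2 * K + 1) : ℝ) ≤ 2 * (q : ℝ) ^ K := by
        rw [nomNum]
        rcases Nat.eq_zero_or_pos K with rfl | hK
        · norm_num
        · rw [if_neg (by omega), if_neg (Nat.not_even_iff_odd.2 ⟨K, rfl⟩), show (2 * K + 1) / 2 = K by omega]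
          exact_mod_cast Nat.mul_le_mul_left 2 (Nat.sub_le _ _)
      rw [e1]
      nlinarith [mul_le_mul_of_nonneg_right e2 (pow_nonneg hx (2 * K + 1)),
        show 2 * (q : ℝ) ^ K * x ^ (2 * K + 1) = 2 * x * y ^ K by rw [hydef, mul_pow, pow_succ, pow_mul]; ring]
  refine ((Finset.sum_le_sum_of_subset_of_nonneg (Finset.range_mono (show M ≤ 2 * M by omega))
    (fun d _ _ => by positivity)).trans (key M)).trans ?_
  rw [le_div_iff₀ (by linarith), mul_assoc, geom_sum_mul_neg]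
  exact mul_le_of_le_one_right (by linarith) (by linarith [pow_nonneg hy0 M])

theorem sum_symOdd_le (hx : 0 ≤ x) (hy : (q : ℝ) * x ^ 2 < 1) (M : ℕ) :
    ∑ d ∈ Finset.range M, (if Odd d then (symNum q d : ℝ) else 0) * x ^ d ≤ 4 * x * (1 + x ^ 2) / (1 - (q : ℝ) * x ^ 2) := by
  obtain ⟨y, hydef⟩ : ∃ y, y = (q : ℝ) * x ^ 2 := ⟨_, rfl⟩
  rw [← hydef] at hy ⊢
  have hy0 : 0 ≤ y := by rw [hydef]; positivity
  have key : ∀ K, ∑ d ∈ Finset.range (2 * K), (if Odd d then (symNum q d : ℝ) else 0) * x ^ d ≤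
      4 * x * (∑ j ∈ Finset.range K, y ^ j) + 4 * x * x ^ 2 * ∑ j ∈ Finset.range (K - 1), y ^ j := by
    intro K
    induction K with
    | zero => simp
    | succ K ih =>
      rw [show 2 * (K + 1) = 2 * K + 1 + 1 by omega, Finset.sum_range_succ, Finset.sum_range_succ,
        if_neg (Nat.not_odd_iff_even.2 (even_two_mul K)), if_pos (show Odd (2 * K + 1) from odd_two_mul_add_one K), zero_mul, add_zero]
      refine (add_le_add ih le_rfl).trans (le_of_eq ?_)
      rcases K with _ | K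
      · norm_num [symNum, sdNum]
      · rw [Nat.add_sub_cancel, Nat.add_sub_cancel, Finset.sum_range_succ _ (K + 1), Finset.sum_range_succ _ K, symNum,
          if_pos (by omega), if_pos (by omega), show 2 * (K + 1) + 1 - 1 = 2 * K + 2 by omega,
          show 2 * (K + 1) + 1 - 2 = 2 * K + 1 by omega, sdNum_even, sdNum_odd, sdNum_odd, hydef]
        push_cast
        ring
  refine ((Finset.sum_le_sum_of_subset_of_nonneg (Finset.range_mono (show M ≤ 2 * M by omega))
    (fun d _ _ => by split_ifs <;> positivity)).trans (key M)).trans ?_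
  have hg : ∀ K, ∑ j ∈ Finset.range K, y ^ j ≤ 1 / (1 - y) := fun K => by
    rw [le_div_iff₀ (by linarith), geom_sum_mul_neg]; linarith [pow_nonneg hy0 K]
  refine (add_le_add (mul_le_mul_of_nonneg_left (hg _) (by positivity))
    (mul_le_mul_of_nonneg_left (hg _) (by positivity))).trans (le_of_eq ?_)
  ring

variable {r : ℝ} (hr0 : 0 ≤ r) (hqr : (q : ℝ) * r ^ 2 = 1)
include hr0 hqr

theorem coeff_odd_le (j : ℕ) : (symNum q (2 * j + 1) : ℝ) * r ^ (2 * j + 1) ≤ 4 * r * (1 + r ^ 2) := by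
  have hone : ∀ j : ℕ, (q : ℝ) ^ j * r ^ (2 * j) = 1 := fun j => by rw [pow_mul, ← mul_pow, hqr, one_pow]
  rcases j with _ | j
  · norm_num [symNum, sdNum]
    nlinarith [pow_nonneg hr0 3]
  · rw [symNum, if_pos (by omega), if_pos (by omega), show 2 * (j + 1) + 1 - 1 = 2 * j + 2 by omega,
      show 2 * (j + 1) + 1 - 2 = 2 * j + 1 by omega, sdNum_even, sdNum_odd, sdNum_odd]
    push_cast
    refine le_of_eq ?_
    linear_combination 4 * r * hone (j + 1) + 4 * r ^ 3 * hone j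

theorem coeff_even_le (j : ℕ) : (symNum q (2 * j) : ℝ) * r ^ (2 * j) ≤ 1 + 6 * r ^ 2 + r ^ 4 := by
  have hone : ∀ j : ℕ, (q : ℝ) ^ j * r ^ (2 * j) = 1 := fun j => by rw [pow_mul, ← mul_pow, hqr, one_pow]
  rcases j with _ | _ | j
  · norm_num [symNum, sdNum]
    nlinarith [pow_nonneg hr0 2, pow_nonneg hr0 4]
  · norm_num [symNum, sdNum, show Even 2 from ⟨1, rfl⟩]
    nlinarith [pow_nonneg hr0 2, pow_nonneg hr0 4]
  · rw [symNum, if_pos (by omega), if_pos (by omega), show 2 * (j + 1 + 1) - 1 = 2 * (j + 1) + 1 by omega,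
      show 2 * (j + 1 + 1) - 2 = 2 * j + 2 by omega, show 2 * (j + 1 + 1) = 2 * (j + 1) + 2 by omega, sdNum_even, sdNum_even, sdNum_odd]
    push_cast
    refine le_of_eq ?_
    linear_combination hone (j + 2) + 6 * r ^ 2 * hone (j + 1) + r ^ 4 * hone j

end Series

/-- The factor of the part `e` without a symmetric layer at `-1`. -/
noncomputable def nfac (sym : Bool) (r : ℝ) (e : ℕ) : ℝ :=
  (bif sym then 1 + 2 * r ^ e else 1) / (1 - r ^ (2 * e - 2))

theorem one_le_nfac {r : ℝ} (hr : 0 ≤ r) (hr1 : r < 1) (sym : Bool) {e : ℕ} (he : 2 ≤ e) : 1 ≤ nfac sym r e := by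
  have h1 : r ^ (2 * e - 2) < 1 := pow_lt_one₀ hr hr1 (by omega)
  have h0 : 0 ≤ r ^ (2 * e - 2) := by positivity
  have := pow_nonneg hr e
  rw [nfac, le_div_iff₀ (by linarith), one_mul]
  cases sym <;> simp only [cond_false, cond_true] <;> linarith

theorem nfac_le_efac {r : ℝ} (hr : 0 ≤ r) (hr1 : r < 1) (sym : Bool) {e : ℕ} (he : 2 ≤ e) :
    nfac sym r e ≤ efac sym r e := by
  have h1 : r ^ (2 * e - 2) < 1 := pow_lt_one₀ hr hr1 (by omega)
  rw [nfac, efac]
  refine div_le_div_of_nonneg_right ?_ (by linarith)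
  cases sym <;> simp only [cond_false, cond_true]
  · exact le_rfl
  · nlinarith [pow_nonneg (pow_nonneg hr e) 2, pow_nonneg (pow_nonneg hr e) 3, pow_nonneg (pow_nonneg hr e) 4, pow_nonneg hr e]

theorem prod_nfac_le {r ρ : ℝ} (hr : 0 ≤ r) (hρ : r ≤ ρ) (hρ1 : ρ < 1) (s : ℕ → Bool) (M : ℕ)
    (ht : 5 * ρ ^ 16 / (1 - ρ) < 1) :
    ∏ e ∈ Finset.Icc 2 M, nfac (s e) r e ≤ (∏ e ∈ Finset.Icc 2 15, nfac (s e) ρ e) / (1 - 5 * ρ ^ 16 / (1 - ρ)) := by
  have h0 : 0 ≤ ρ := hr.trans hρ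
  refine (Finset.prod_le_prod (fun e he => zero_le_one.trans (one_le_nfac hr (hρ.trans_lt hρ1) _ (Finset.mem_Icc.1 he).1))
    fun e he => ?_).trans (prod_tail_le h0 hρ1 _ (fun _ he => one_le_nfac h0 hρ1 _ he) (fun e he => ?_) M ht)
  · have h2 := (Finset.mem_Icc.1 he).1
    have : ρ ^ (2 * e - 2) < 1 := pow_lt_one₀ h0 hρ1 (by omega)
    have : r ^ (2 * e - 2) ≤ ρ ^ (2 * e - 2) := pow_le_pow_left₀ hr hρ _
    cases s e <;> simp only [nfac, cond_true, cond_false] <;> gcongr <;> linarith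
  · have h5 : 0 ≤ 1 - 5 * ρ ^ e := by
      have h1 : ρ ^ e ≤ ρ ^ 16 := pow_le_pow_of_le_one h0 hρ1.le he
      have h2 : ρ ^ 16 ≤ ρ ^ 16 / (1 - ρ) := le_div_self (by positivity) (by linarith) (by linarith)
      rw [mul_div_assoc] at ht
      linarith
    exact (mul_le_mul_of_nonneg_right (nfac_le_efac h0 hρ1 _ (show 2 ≤ e by omega)) h5).trans
      (efac_tail h0 hρ1 _ (show 2 ≤ e by omega))

variable (h2 : (2 : F) ≠ 0)
include h2

theorem symB_one (j : ℕ) : symB (1 : F) j = decide (Even j) := by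
  rw [symB, decide_eq_decide]
  exact even_of_pow_eq h2 rfl j

theorem sum_nom_part_le (sym : Bool) (N : ℕ) {r : ℝ} (hr0 : 0 ≤ r)
    (hqr : (Fintype.card F : ℝ) * r ^ 2 = 1) (hr : r ^ 2 ≤ 1 / 3) {e : ℕ} (he : 2 ≤ e) :
    ∑ P ∈ sdBox (F := F) N, (nomWt sym P : ℝ) * (r ^ e) ^ P.natDegree ≤ nfac sym r e := by
  cases sym
  · refine le_trans (Finset.sum_le_sum fun P _ => mul_le_mul_of_nonneg_right (Nat.cast_le.2 (nomWt_le false P)) (by positivity))
      ((sum_part_le h2 false N hr0 hqr hr he).trans (le_of_eq ?_))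
    simp [efac, nfac]
  · refine (sum_fiber_deg (fun P => (nomWt true P : ℝ)) (r ^ e) N (fun d => (nomNum (Fintype.card F) d : ℝ)) (pow_nonneg hr0 e)
      fun d => ?_).trans ?_
    · rw [← Nat.cast_sum, Nat.cast_le]; exact deg_nomWt_le h2 N d
    · rw [nfac, cond_true, ← scaled_sq hqr he]
      exact sum_nomNum_le (pow_nonneg hr0 e) (by rw [scaled_sq hqr he]; exact pow_r_lt_one hr0 hr (by omega)) _

theorem sum_odd_part_le (N : ℕ) {r : ℝ} (hr0 : 0 ≤ r) (hqr : (Fintype.card F : ℝ) * r ^ 2 = 1) (hr : r ^ 2 ≤ 1 / 3)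
    {e : ℕ} (he : 2 ≤ e) :
    ∑ P ∈ sdBox (F := F) N, (if Odd P.natDegree then (partWt true P : ℝ) else 0) * (r ^ e) ^ P.natDegree ≤
      4 * r ^ e * efac true r e := by
  refine (sum_fiber_deg (fun P => if Odd P.natDegree then (partWt true P : ℝ) else 0) (r ^ e) N
    (fun d => if Odd d then (symNum (Fintype.card F) d : ℝ) else 0) (pow_nonneg hr0 e) fun d => ?_).trans ?_
  · rw [Finset.sum_congr rfl (g := fun P => if Odd d then (partWt true P : ℝ) else 0)
      (fun P hP => by rw [(Finset.mem_filter.1 hP).2])]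
    split_ifs
    · have := deg_partWt_le h2 true N d
      simpa using this
    · simp
  · have hy : (Fintype.card F : ℝ) * (r ^ e) ^ 2 < 1 := by
      rw [scaled_sq hqr he]; exact pow_r_lt_one hr0 hr (by omega)
    refine (sum_symOdd_le (pow_nonneg hr0 e) hy _).trans ?_
    rw [efac, cond_true, ← scaled_sq hqr he, mul_div_assoc]
    refine mul_le_mul_of_nonneg_left (div_le_div_of_nonneg_right ?_ (by linarith)) (by positivity)
    nlinarith [pow_nonneg hr0 e, pow_nonneg (pow_nonneg hr0 e) 2, pow_nonneg (pow_nonneg hr0 e) 3, pow_nonneg (pow_nonneg hr0 e) 4]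

/-- The total degree of the higher parts. -/
def tailDeg {M : ℕ} (t : Fin M → F[X]) : ℕ := ∑ j : Fin M, ((j : ℕ) + 2) * (t j).natDegree

/-- The weight of the higher parts. -/
noncomputable def tailWt {M : ℕ} (w : Bool → F[X] → ℕ) (r : ℝ) (t : Fin M → F[X]) : ℝ :=
  ∏ j : Fin M, (w (decide (Even ((j : ℕ) + 1))) (t j) : ℝ) * (r ^ ((j : ℕ) + 2)) ^ (t j).natDegree

theorem sum_tail_le {M : ℕ} (w : Bool → F[X] → ℕ) (B : Bool → ℝ → ℕ → ℝ) {r : ℝ} (hr0 : 0 ≤ r)
    (hB : ∀ sym e, 2 ≤ e → ∑ P ∈ sdBox (F := F) (M + 1), (w sym P : ℝ) * (r ^ e) ^ P.natDegree ≤ B sym r e) :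
    ∑ t ∈ Fintype.piFinset (fun _ : Fin M => sdBox (F := F) (M + 1)), tailWt w r t ≤
      ∏ e ∈ Finset.Icc 2 (M + 1), B (decide (Odd e)) r e := by
  rw [← prod_succ_Icc (fun e => B (decide (Odd e)) r e)]
  simp only [tailWt]
  rw [← Finset.prod_univ_sum (fun _ : Fin M => sdBox (M + 1))
    fun j P => (w (decide (Even ((j : ℕ) + 1))) P : ℝ) * (r ^ ((j : ℕ) + 2)) ^ P.natDegree]
  refine Finset.prod_le_prod (fun j _ => Finset.sum_nonneg fun P _ => by positivity) fun j _ => ?_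
  rw [show decide (Odd ((j : ℕ) + 2)) = decide (Even ((j : ℕ) + 1)) by
    rw [decide_eq_decide, ← Nat.not_even_iff_odd, Nat.even_add_one, not_not]]
  exact hB _ _ (by omega)

omit h2 in
theorem mem_tuples {M : ℕ} {h : Fin M → F[X]} (hh : h ∈ tuples (1 : F) M) :
    (h ∈ Fintype.piFinset fun _ : Fin M => sdBox (F := F) M) ∧ GoodTuple (1 : F) h := by
  rw [tuples, Finset.mem_filter] at hh
  exact hh

theorem sum_T_decomp {M : ℕ} {r : ℝ} (hr0 : 0 ≤ r) :
    r ^ (M + 1) * ∑ h ∈ tuples (1 : F) (M + 1), (2 : ℝ) ^ slots (1 : F) h ≤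
      ∑ t ∈ Fintype.piFinset (fun _ : Fin M => sdBox (F := F) (M + 1)),
        (if tailDeg t ≤ M + 1 then (symNum (Fintype.card F) (M + 1 - tailDeg t) : ℝ) * r ^ (M + 1 - tailDeg t) else 0) *
          tailWt partWt r t := by
  have h := sum_tuples_decomp (fun (j : Fin (M + 1)) P => (partWt (symB (1 : F) j) P : ℝ)) (fun _ P => Nat.cast_nonneg _) r hr0
    (fun t : Fin M → F[X] => if tailDeg t ≤ M + 1 then (symNum (Fintype.card F) (M + 1 - tailDeg t) : ℝ) * r ^ (M + 1 - tailDeg t) else 0)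
    (fun t => by split_ifs <;> positivity) fun t ht => ?_
  · simp only [tailWt]
    refine le_trans ?_ (h.trans (le_of_eq (Finset.sum_congr rfl fun t _ => ?_)))
    · refine mul_le_mul_of_nonneg_left ?_ (pow_nonneg hr0 _)
      rw [Finset.sum_congr rfl fun h hh => (weight_eq (1 : F) h (mem_tuples hh).2).symm]
      exact Finset.sum_le_sum_of_subset_of_nonneg
        (fun h hh => Finset.mem_filter.2 ⟨(mem_tuples hh).1, (mem_tuples hh).2.1⟩)
        fun h _ _ => Finset.prod_nonneg fun j _ => Nat.cast_nonneg _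
    · simp only [symB_one h2, Fin.val_succ]
  · rw [if_pos (show tailDeg t ≤ M + 1 from ht)]
    refine mul_le_mul_of_nonneg_right ?_ (pow_nonneg hr0 _)
    simp only [symB_one h2, Fin.val_zero, Even.zero, decide_true]
    exact deg_partWt_le h2 true (M + 1) _

theorem sum_N_decomp {M : ℕ} {r : ℝ} (hr0 : 0 ≤ r) :
    r ^ (M + 1) * ∑ h ∈ nomTuples (M + 1), (2 : ℝ) ^ slots (1 : F) h ≤
      ∑ t ∈ Fintype.piFinset (fun _ : Fin M => sdBox (F := F) (M + 1)),
        (if tailDeg t ≤ M + 1 then (nomNum (Fintype.card F) (M + 1 - tailDeg t) : ℝ) * r ^ (M + 1 - tailDeg t) else 0) *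
          tailWt nomWt r t := by
  have h := sum_tuples_decomp (fun (j : Fin (M + 1)) P => (nomWt (symB (1 : F) j) P : ℝ)) (fun _ P => Nat.cast_nonneg _) r hr0
    (fun t : Fin M → F[X] => if tailDeg t ≤ M + 1 then (nomNum (Fintype.card F) (M + 1 - tailDeg t) : ℝ) * r ^ (M + 1 - tailDeg t) else 0)
    (fun t => by split_ifs <;> positivity) fun t ht => ?_
  · simp only [tailWt]
    refine le_trans ?_ (h.trans (le_of_eq (Finset.sum_congr rfl fun t _ => ?_)))
    · refine mul_le_mul_of_nonneg_left ?_ (pow_nonneg hr0 _)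
      rw [Finset.sum_congr rfl (g := fun h => ∏ j : Fin (M + 1), (nomWt (symB (1 : F) j) (h j) : ℝ)) fun h hh => ?_]
      · exact Finset.sum_le_sum_of_subset_of_nonneg
          (fun h hh => Finset.mem_filter.2 ⟨(mem_tuples (mem_nomTuples.1 hh).1).1, (mem_tuples (mem_nomTuples.1 hh).1).2.1⟩)
          fun h _ _ => Finset.prod_nonneg fun j _ => Nat.cast_nonneg _
      · obtain ⟨ht, hno⟩ := mem_nomTuples.1 hh
        rw [← weight_eq (1 : F) h (mem_tuples ht).2]
        refine Finset.prod_congr rfl fun j _ => ?_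
        rw [nomWt, if_neg]
        rintro ⟨hs, hdvd⟩
        exact hno ⟨j, by simpa [symB_one h2] using hs, hdvd⟩
    · simp only [symB_one h2, Fin.val_succ]
  · rw [if_pos (show tailDeg t ≤ M + 1 from ht)]
    refine mul_le_mul_of_nonneg_right ?_ (pow_nonneg hr0 _)
    simp only [symB_one h2, Fin.val_zero, Even.zero, decide_true]
    exact_mod_cast deg_nomWt_le h2 (M + 1) _

omit h2 in
theorem exists_r_five (h5 : 5 ≤ Fintype.card F) :
    ∃ r : ℝ, 0 < r ∧ (Fintype.card F : ℝ) * r ^ 2 = 1 ∧ r ^ 2 ≤ 1 / 5 ∧ r ≤ 44722 / 100000 := by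
  have hq : (5 : ℝ) ≤ Fintype.card F := by exact_mod_cast h5
  have h : Real.sqrt (1 / (Fintype.card F : ℝ)) ^ 2 = 1 / (Fintype.card F : ℝ) := Real.sq_sqrt (by positivity)
  have h' : (1 : ℝ) / Fintype.card F ≤ 1 / 5 := one_div_le_one_div_of_le (by norm_num) hq
  refine ⟨Real.sqrt (1 / (Fintype.card F : ℝ)), Real.sqrt_pos.2 (by positivity), by rw [h]; field_simp, h.le.trans h', ?_⟩
  nlinarith [Real.sqrt_nonneg (1 / (Fintype.card F : ℝ))]

theorem odd_T_le (h5 : 5 ≤ Fintype.card F) (m : ℕ) :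
    10 * ∑ h ∈ tuples (1 : F) (2 * m + 1), 2 ^ slots (1 : F) h ≤ 146 * Fintype.card F ^ m := by
  obtain ⟨r, hrpos, hqr, hr5, hρ⟩ := exists_r_five h5
  have hr0 := hrpos.le
  have hr : r ^ 2 ≤ 1 / 3 := hr5.trans (by norm_num)
  have h1 := sum_T_decomp h2 (M := 2 * m) hr0
  obtain ⟨X0, hX0⟩ : ∃ X0, X0 = Fintype.piFinset (fun _ : Fin (2 * m) => sdBox (F := F) (2 * m + 1)) := ⟨_, rfl⟩
  rw [← hX0] at h1
  have hW : ∀ t : Fin (2 * m) → F[X], 0 ≤ tailWt partWt r t := fun t => Finset.prod_nonneg fun j _ => by positivity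
  obtain ⟨P, hP⟩ : ∃ P, P = ∏ e ∈ Finset.Icc 2 (2 * m + 1), efac (decide (Odd e)) r e := ⟨_, rfl⟩
  have hP0 : 0 ≤ P := hP ▸ Finset.prod_nonneg fun e he => zero_le_one.trans
    (one_le_efac hr0 (by nlinarith) _ (Finset.mem_Icc.1 he).1)
  have hPle : P ≤ 203 / 100 := by
    refine hP ▸ (prod_efac_le hr0 hρ (by norm_num) (fun e => decide (Odd e)) _ (by norm_num)).trans ?_
    simp [Finset.prod_Icc_succ_top, efac, Nat.odd_add_one]
    norm_num
  have hall : ∑ t ∈ X0, tailWt partWt r t ≤ P :=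
    hX0 ▸ hP ▸ sum_tail_le h2 partWt efac hr0 fun sym e he => sum_part_le h2 sym _ hr0 hqr hr he
  have hone : ∀ j : Fin (2 * m), Odd (j : ℕ) →
      ∑ t ∈ X0, (if Odd (t j).natDegree then tailWt partWt r t else 0) ≤ 4 * r ^ ((j : ℕ) + 2) * P := by
    intro j hj
    obtain ⟨f, hf⟩ : ∃ f : Fin (2 * m) → F[X] → ℝ, f = fun (k : Fin (2 * m)) Q => (if k = j ∧ ¬ Odd Q.natDegree then (0 : ℝ) else 1) *
        ((partWt (decide (Even ((k : ℕ) + 1))) Q : ℝ) * (r ^ ((k : ℕ) + 2)) ^ Q.natDegree) := ⟨_, rfl⟩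
    have e : ∀ t : Fin (2 * m) → F[X], (if Odd (t j).natDegree then tailWt partWt r t else 0) = ∏ k, f k (t k) := fun t => by
      rw [hf]
      simp only [Finset.prod_mul_distrib (f := fun k => if k = j ∧ ¬ Odd (t k).natDegree then (0 : ℝ) else 1)]
      rw [show (∏ k, if k = j ∧ ¬ Odd (t k).natDegree then (0 : ℝ) else 1) = if Odd (t j).natDegree then 1 else 0 from ?_]
      · split_ifs <;> simp [tailWt]
      · rw [Finset.prod_eq_single j (fun k _ hk => by simp [hk]) (fun h => absurd (Finset.mem_univ _) h)]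
        split_ifs <;> simp_all
    rw [Finset.sum_congr rfl fun t _ => e t, hX0, ← Finset.prod_univ_sum (fun _ : Fin (2 * m) => sdBox (2 * m + 1)) f, hP,
      ← prod_succ_Icc (fun e => efac (decide (Odd e)) r e)]
    have hle : ∀ k : Fin (2 * m), ∑ Q ∈ sdBox (2 * m + 1), f k Q ≤
        (if k = j then 4 * r ^ ((k : ℕ) + 2) else 1) * efac (decide (Odd ((k : ℕ) + 2))) r ((k : ℕ) + 2) := fun k => by
      have hd : decide (Odd ((k : ℕ) + 2)) = decide (Even ((k : ℕ) + 1)) := by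
        rw [decide_eq_decide, ← Nat.not_even_iff_odd, Nat.even_add_one, not_not]
      rw [hd]
      by_cases hk : k = j
      · subst hk
        have ht : decide (Even ((k : ℕ) + 1)) = true := decide_eq_true (Nat.even_add_one.2 (Nat.not_even_iff_odd.2 hj))
        rw [if_pos rfl, ht]
        refine le_trans (le_of_eq (Finset.sum_congr rfl fun Q _ => ?_)) (sum_odd_part_le h2 _ hr0 hqr hr (show 2 ≤ (k : ℕ) + 2 by omega))
        rw [hf]
        simp only [ht]
        split_ifs with h h' h' <;> simp_all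
      · rw [if_neg hk, one_mul]
        refine le_trans (le_of_eq (Finset.sum_congr rfl fun Q _ => ?_)) (sum_part_le h2 _ _ hr0 hqr hr (show 2 ≤ (k : ℕ) + 2 by omega))
        rw [hf]
        simp [hk]
    refine (Finset.prod_le_prod (fun k _ => Finset.sum_nonneg fun Q _ => by rw [hf]; positivity) fun k _ => hle k).trans (le_of_eq ?_)
    rw [Finset.prod_mul_distrib, Finset.prod_ite_eq' Finset.univ j]
    simp
  obtain ⟨K, hK⟩ : ∃ K, K = 1 + 6 * r ^ 2 + r ^ 4 := ⟨_, rfl⟩
  have hK0 : 0 ≤ K := by rw [hK]; positivity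
  have hpt : ∀ t ∈ X0, (if tailDeg t ≤ 2 * m + 1 then (symNum (Fintype.card F) (2 * m + 1 - tailDeg t) : ℝ) * r ^ (2 * m + 1 - tailDeg t) else 0) *
      tailWt partWt r t ≤ 4 * r * (1 + r ^ 2) * tailWt partWt r t +
        K * ∑ j : Fin (2 * m), if Odd (j : ℕ) then (if Odd (t j).natDegree then tailWt partWt r t else 0) else 0 := by
    intro t _
    have hs : 0 ≤ ∑ j : Fin (2 * m), if Odd (j : ℕ) then (if Odd (t j).natDegree then tailWt partWt r t else 0) else 0 :=
      Finset.sum_nonneg fun j _ => by split_ifs <;> first | exact hW t | exact le_rfl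
    by_cases hd : tailDeg t ≤ 2 * m + 1
    · rw [if_pos hd]
      rcases Nat.even_or_odd (tailDeg t) with ⟨a, ha⟩ | ho
      · refine le_add_of_le_of_nonneg (mul_le_mul_of_nonneg_right ?_ (hW t)) (mul_nonneg hK0 hs)
        rw [show 2 * m + 1 - tailDeg t = 2 * (m - a) + 1 by omega]
        exact coeff_odd_le hr0 hqr _
      · obtain ⟨j, hj⟩ : ∃ j : Fin (2 * m), Odd (((j : ℕ) + 2) * (t j).natDegree) := by
          by_contra hc
          push Not at hc
          exact Nat.not_even_iff_odd.2 ho (Finset.even_sum _ fun j _ => Nat.not_odd_iff_even.1 (hc j))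
        obtain ⟨hj1, hj2⟩ := Nat.odd_mul.1 hj
        have hjo : Odd (j : ℕ) := by
          rw [Nat.odd_iff] at hj1 ⊢; omega
        refine le_add_of_nonneg_of_le (mul_nonneg (by positivity) (hW t)) ?_
        refine mul_le_mul ?_ ?_ (hW t) hK0
        · obtain ⟨a, ha⟩ := ho
          rw [hK, show 2 * m + 1 - tailDeg t = 2 * (m - a) by omega]
          exact coeff_even_le hr0 hqr _
        · refine le_trans (le_of_eq ?_) (Finset.single_le_sum
            (f := fun j : Fin (2 * m) => if Odd (j : ℕ) then (if Odd (t j).natDegree then tailWt partWt r t else 0) else 0)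
            (fun j _ => by split_ifs <;> first | exact hW t | exact le_rfl) (Finset.mem_univ j))
          simp only [if_pos hjo, if_pos hj2]
    · rw [if_neg hd, zero_mul]
      exact add_nonneg (mul_nonneg (by positivity) (hW t)) (mul_nonneg hK0 hs)
  have hgeo : ∀ k : ℕ, (1 - r ^ 2) * ∑ j : Fin (2 * k), (if Odd (j : ℕ) then r ^ ((j : ℕ) + 2) else 0) = r ^ 3 * (1 - r ^ (2 * k)) := by
    intro k
    rw [Fin.sum_univ_eq_sum_range (fun j : ℕ => if Odd j then r ^ (j + 2) else 0)]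
    induction k with
    | zero => simp
    | succ k ih =>
      rw [show 2 * (k + 1) = 2 * k + 1 + 1 by omega, Finset.sum_range_succ, Finset.sum_range_succ,
        if_neg (Nat.not_odd_iff_even.2 (even_two_mul k)), if_pos (show Odd (2 * k + 1) from odd_two_mul_add_one k), add_zero, mul_add, ih]
      ring
  have hsum : ∑ t ∈ X0, ∑ j : Fin (2 * m), (if Odd (j : ℕ) then (if Odd (t j).natDegree then tailWt partWt r t else 0) else 0) ≤
      4 * (∑ j : Fin (2 * m), if Odd (j : ℕ) then r ^ ((j : ℕ) + 2) else 0) * P := by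
    rw [Finset.sum_comm, Finset.mul_sum, Finset.sum_mul]
    refine Finset.sum_le_sum fun j _ => ?_
    by_cases hj : Odd (j : ℕ)
    · simp only [if_pos hj]; exact hone j hj
    · simp [hj]
  have h3 := h1.trans (Finset.sum_le_sum hpt)
  rw [Finset.sum_add_distrib, ← Finset.mul_sum, ← Finset.mul_sum] at h3
  obtain ⟨G, hG⟩ : ∃ G, G = ∑ j : Fin (2 * m), if Odd (j : ℕ) then r ^ ((j : ℕ) + 2) else 0 := ⟨_, rfl⟩
  rw [← hG] at hsum
  have hG0 : 0 ≤ G := hG ▸ Finset.sum_nonneg fun j _ => by split_ifs <;> positivity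
  have hGle : G ≤ r * (1 / 4) := by
    have := hgeo m
    rw [← hG] at this
    have h4 : 0 ≤ r ^ 3 * r ^ (2 * m) := by positivity
    have h5 : r * r ^ 2 ≤ r * (1 / 5) := mul_le_mul_of_nonneg_left hr5 hr0
    nlinarith [mul_le_mul_of_nonneg_left hr5 hG0]
  have hKle : K ≤ 224 / 100 := by rw [hK]; nlinarith
  obtain ⟨S, hS⟩ : ∃ S, S = ∑ h ∈ tuples (1 : F) (2 * m + 1), (2 : ℝ) ^ slots (1 : F) h := ⟨_, rfl⟩
  rw [← hS] at h3
  have h4 : r ^ (2 * m + 1) * S ≤ r * (146 / 10) := by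
    have a1 : 4 * r * (1 + r ^ 2) ≤ r * (48 / 10) := by nlinarith [mul_le_mul_of_nonneg_left hr5 hr0]
    calc r ^ (2 * m + 1) * S ≤ 4 * r * (1 + r ^ 2) * (∑ t ∈ X0, tailWt partWt r t) + K * _ := h3
      _ ≤ (r * (48 / 10)) * (203 / 100) + (224 / 100) * (4 * (r * (1 / 4)) * (203 / 100)) := by
        refine add_le_add (mul_le_mul a1 (hall.trans hPle) (Finset.sum_nonneg fun t _ => hW t) (by positivity)) ?_
        refine mul_le_mul hKle (hsum.trans (mul_le_mul (by linarith) hPle hP0 (by positivity))) ?_ (by norm_num)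
        exact Finset.sum_nonneg fun t _ => Finset.sum_nonneg fun j _ => by split_ifs <;> first | exact hW t | exact le_rfl
      _ ≤ r * (146 / 10) := by nlinarith
  have hone' : r ^ (2 * m) * (Fintype.card F : ℝ) ^ m = 1 := by rw [pow_mul, ← mul_pow, mul_comm, hqr, one_pow]
  have h5' : r ^ (2 * m) * S ≤ 146 / 10 := le_of_mul_le_mul_left (by rw [← mul_assoc, ← pow_succ']; exact h4) hrpos
  have h6 := mul_le_mul_of_nonneg_right h5' (show (0 : ℝ) ≤ (Fintype.card F : ℝ) ^ m by positivity)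
  rw [mul_right_comm, hone', one_mul, hS] at h6
  have h' : ((10 * ∑ h ∈ tuples (1 : F) (2 * m + 1), 2 ^ slots (1 : F) h : ℕ) : ℝ) ≤ ((146 * Fintype.card F ^ m : ℕ) : ℝ) := by
    push_cast
    linarith
  exact_mod_cast h'

theorem odd_TN_le (h3 : Fintype.card F = 3) (m : ℕ) (hm : 2 ≤ m) :
    10 * (∑ h ∈ tuples (1 : F) (2 * m + 1), 2 ^ slots (1 : F) h + 6 * ∑ h ∈ nomTuples (2 * m + 1), 2 ^ slots (1 : F) h) ≤
      584 * Fintype.card F ^ m := by
  obtain ⟨r, hr0, hqr, hr, hρ⟩ := exists_r (F := F) (by omega)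
  have hq : (Fintype.card F : ℝ) = 3 := by exact_mod_cast h3
  have hr2 : r ^ 2 = 1 / 3 := by rw [hq] at hqr; linarith
  have hlow : (577 : ℝ) / 1000 ≤ r := by nlinarith
  have hrpos : 0 < r := by linarith
  obtain ⟨X0, hX0⟩ : ∃ X0, X0 = Fintype.piFinset (fun _ : Fin (2 * m) => sdBox (F := F) (2 * m + 1)) := ⟨_, rfl⟩
  have hT := sum_T_decomp h2 (M := 2 * m) hr0
  have hN := sum_N_decomp h2 (M := 2 * m) hr0
  rw [← hX0] at hT hN
  have hNT : ∀ t : Fin (2 * m) → F[X], tailWt nomWt r t ≤ tailWt partWt r t := fun t =>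
    Finset.prod_le_prod (fun j _ => by positivity) fun j _ =>
      mul_le_mul_of_nonneg_right (Nat.cast_le.2 (nomWt_le _ _)) (by positivity)
  have hN0 : ∀ t : Fin (2 * m) → F[X], 0 ≤ tailWt nomWt r t := fun t => Finset.prod_nonneg fun j _ => by positivity
  have hodd : ∀ i : ℕ, (symNum (Fintype.card F) (2 * i + 1) : ℝ) * r ^ (2 * i + 1) ≤ 16 / 3 * r := fun i =>
    (coeff_odd_le hr0 hqr i).trans (le_of_eq (by rw [hr2]; ring))
  have hnodd : ∀ i : ℕ, 1 ≤ i → (nomNum (Fintype.card F) (2 * i + 1) : ℝ) * r ^ (2 * i + 1) = 4 / 3 * r := fun i hi => by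
    obtain ⟨k, rfl⟩ : ∃ k, i = k + 1 := ⟨i - 1, by omega⟩
    rw [nomNum, if_neg (by omega), if_neg (Nat.not_even_iff_odd.2 ⟨k + 1, rfl⟩), show (2 * (k + 1) + 1) / 2 = k + 1 by omega,
      Nat.add_sub_cancel, h3]
    push_cast [Nat.cast_sub (Nat.pow_le_pow_right (show 1 ≤ 3 by norm_num) (Nat.le_succ k))]
    have e : (3 : ℝ) ^ k * r ^ (2 * k) = 1 := by rw [pow_mul, ← mul_pow, hr2]; norm_num
    rw [show 2 * (k + 1) + 1 = 2 * k + 3 by omega, pow_add, pow_succ (3 : ℝ) k]
    linear_combination 4 * r ^ 3 * e + 4 * r * hr2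
  have hcomb : ∀ d : ℕ, (symNum (Fintype.card F) d : ℝ) * r ^ d + 6 * ((nomNum (Fintype.card F) d : ℝ) * r ^ d) ≤ 16 * r := by
    intro d
    rcases Nat.even_or_odd' d with ⟨i, rfl | rfl⟩
    · have h1 := coeff_sym_le hr0 hqr hr (2 * i)
      rw [nomNum, if_neg (by omega), if_pos (even_two_mul _), Nat.mul_div_cancel_left _ two_pos, Nat.cast_pow, pow_mul r,
        ← mul_pow (Fintype.card F : ℝ), hqr, one_pow, ← pow_mul]
      linarith
    · rcases Nat.eq_zero_or_pos i with rfl | hi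
      · norm_num [symNum, sdNum, nomNum]
        linarith
      · rw [hnodd i hi]
        linarith [hodd i]
  have hpt : ∀ t ∈ X0,
      (if tailDeg t ≤ 2 * m + 1 then (symNum (Fintype.card F) (2 * m + 1 - tailDeg t) : ℝ) * r ^ (2 * m + 1 - tailDeg t) else 0) *
        tailWt partWt r t +
      6 * ((if tailDeg t ≤ 2 * m + 1 then (nomNum (Fintype.card F) (2 * m + 1 - tailDeg t) : ℝ) * r ^ (2 * m + 1 - tailDeg t) else 0) *
        tailWt nomWt r t) ≤
      28 / 9 * tailWt partWt r t + (16 * r - 28 / 9) * tailWt nomWt r t - (if t = (fun _ => 1) then 8 / 3 * r else 0) := by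
    intro t _
    by_cases ht : t = fun _ => 1
    · subst ht
      have e1 : tailWt nomWt r (fun _ : Fin (2 * m) => (1 : F[X])) = 1 ∧ tailWt partWt r (fun _ : Fin (2 * m) => (1 : F[X])) = 1 := by
        have hu : ∀ a : F, ¬ X - C a ∣ (1 : F[X]) := fun a h => (irreducible_X_sub_C a).not_isUnit (isUnit_of_dvd_one h)
        have hp : ∀ sym, partWt sym (1 : F[X]) = 1 := fun sym => by
          cases sym
          · rw [partWt, cond_false, if_pos]; intro a _; simp [rootMultiplicity_eq_zero]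
          · rw [partWt, cond_true, if_neg (hu _), if_neg (hu _)]; rfl
        have hn : ∀ sym, nomWt sym (1 : F[X]) = 1 := fun sym => by rw [nomWt, if_neg (fun h => hu _ h.2), hp]
        constructor <;> simp [tailWt, hp, hn]
      rw [e1.1, e1.2, if_pos rfl, show tailDeg (fun _ : Fin (2 * m) => (1 : F[X])) = 0 by simp [tailDeg], Nat.sub_zero,
        if_pos (Nat.zero_le _), if_pos (Nat.zero_le _), mul_one, mul_one, hnodd m (by omega)]
      linarith [hodd m]
    · rw [if_neg ht, sub_zero]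
      by_cases hd : tailDeg t ≤ 2 * m + 1
      · rw [if_pos hd, if_pos hd]
        obtain ⟨d, hdd⟩ : ∃ d, d = 2 * m + 1 - tailDeg t := ⟨_, rfl⟩
        rw [← hdd]
        have h1 := coeff_sym_le hr0 hqr hr d
        nlinarith [mul_le_mul_of_nonneg_right h1 (sub_nonneg.2 (hNT t)), mul_le_mul_of_nonneg_right (hcomb d) (hN0 t)]
      · rw [if_neg hd, if_neg hd]
        nlinarith [hNT t, hN0 t]
  have hsT : ∑ t ∈ X0, tailWt partWt r t ≤ 527 / 100 := by
    rw [hX0]
    refine (sum_tail_le h2 partWt efac hr0 fun sym e he => sum_part_le h2 sym _ hr0 hqr hr he).trans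
      ((prod_efac_le hr0 hρ (by norm_num) (fun e => decide (Odd e)) _ (by norm_num)).trans ?_)
    simp [Finset.prod_Icc_succ_top, efac, Nat.odd_add_one]
    norm_num
  have hsN : ∑ t ∈ X0, tailWt nomWt r t ≤ 298 / 100 := by
    rw [hX0]
    refine (sum_tail_le h2 nomWt nfac hr0 fun sym e he => sum_nom_part_le h2 sym _ hr0 hqr hr he).trans
      ((prod_nfac_le hr0 hρ (by norm_num) (fun e => decide (Odd e)) _ (by norm_num)).trans ?_)
    simp [Finset.prod_Icc_succ_top, nfac, Nat.odd_add_one]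
    norm_num
  have hmem : (fun _ : Fin (2 * m) => (1 : F[X])) ∈ X0 := by
    rw [hX0, Fintype.mem_piFinset]
    intro j
    rw [mem_sdBox]
    exact ⟨isSD_of_reverse monic_one (by simp) (by rw [← C_1, reverse_C]), by simp⟩
  obtain ⟨S, hS⟩ : ∃ S, S = ∑ h ∈ tuples (1 : F) (2 * m + 1), (2 : ℝ) ^ slots (1 : F) h +
      6 * ∑ h ∈ nomTuples (2 * m + 1), (2 : ℝ) ^ slots (1 : F) h := ⟨_, rfl⟩
  have h4 : r ^ (2 * m + 1) * S ≤ r * (584 / 10) := by
    have h := Finset.sum_le_sum hpt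
    rw [Finset.sum_add_distrib, ← Finset.mul_sum, Finset.sum_sub_distrib, Finset.sum_add_distrib, ← Finset.mul_sum,
      ← Finset.mul_sum, Finset.sum_ite_eq', if_pos hmem] at h
    have hc : 0 ≤ 16 * r - 28 / 9 := by linarith
    have h' := mul_le_mul_of_nonneg_left hsN hc
    rw [hS, mul_add, ← mul_assoc, mul_comm (r ^ (2 * m + 1)) 6, mul_assoc]
    linarith
  have hone' : r ^ (2 * m) * (Fintype.card F : ℝ) ^ m = 1 := by rw [pow_mul, ← mul_pow, mul_comm, hqr, one_pow]
  have h5' : r ^ (2 * m) * S ≤ 584 / 10 := le_of_mul_le_mul_left (by rw [← mul_assoc, ← pow_succ']; exact h4) hrpos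
  have h6 := mul_le_mul_of_nonneg_right h5' (show (0 : ℝ) ≤ (Fintype.card F : ℝ) ^ m by positivity)
  rw [mul_right_comm, hone', one_mul, hS] at h6
  have h' : ((10 * (∑ h ∈ tuples (1 : F) (2 * m + 1), 2 ^ slots (1 : F) h + 6 * ∑ h ∈ nomTuples (2 * m + 1), 2 ^ slots (1 : F) h) : ℕ) : ℝ) ≤
      ((584 * Fintype.card F ^ m : ℕ) : ℝ) := by
    push_cast
    linarith
  exact_mod_cast h'

end CfsgLib.CClassBound
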