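import Cfsg.Agent.Lib.KnownSimple.ClassicalClassBound.OddBound
import Cfsg.Agent.Lib.KnownSimple.ClassicalClassBound.Main
import Cfsg.Agent.Lib.Classical.SpinorMatrix
import Cfsg.Agent.Lib.Classical.QuadPOmega

/-!
# The class number of the odd dimensional group Omega
-/

set_option autoImplicit false

namespace CfsgLib.CClassBound

open Polynomial Matrix CfsgLib.Classical CfsgLib.Classical.SUSemisimple

universe u

variable {F : Type u} [Field F] [Fintype F]

/-- The orthogonal group in dimension `2 n + 1` has at least `2 q ^ n` classes. -/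
theorem card_classes_ge_odd (h2 : (2 : F) ≠ 0) {n : ℕ} (hn : 1 ≤ n) {B : Matrix (Fin (2 * n + 1)) (Fin (2 * n + 1)) F}
    (hB : Bᵀ = B) (hu : IsUnit B) : 2 * Fintype.card F ^ n ≤ Nat.card (ConjClasses (isoGrp B)) := by
  classical
  let sgn : Bool → F := fun b => bif b then 1 else -1
  have hsgn : ∀ b, sgn b * sgn b = 1 := fun b => by cases b <;> simp [sgn]
  have hex : ∀ p : Bool × Pal F n, ∃ g ∈ isoGrp B,
      ((g : GL (Fin (2 * n + 1)) F) : Matrix (Fin (2 * n + 1)) (Fin (2 * n + 1)) F).charpoly = (X - C (sgn p.1)) * p.2.1 := by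
    rintro ⟨b, h, hsd, hd, h0⟩
    show ∃ g ∈ isoGrp B, ((g : GL (Fin (2 * n + 1)) F) : Matrix (Fin (2 * n + 1)) (Fin (2 * n + 1)) F).charpoly = (X - C (sgn b)) * h
    refine exists_iso_charpoly h2 hB hu ⟨(monic_X_sub_C _).mul hsd.1, ?_, ?_⟩ ?_ fun e1 e2 => ?_
    · rw [mul_coeff_zero, h0, mul_one, coeff_sub, coeff_X_zero, coeff_C_zero, zero_sub, neg_ne_zero]
      exact fun e => by simpa [e] using hsgn b
    · rw [dual, dualPoly_mul, ← dual, ← dual, dual_X_sub_C (hsgn b), hsd.2.2]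
    · rw [natDegree_mul (monic_X_sub_C _).ne_zero hsd.1.ne_zero, natDegree_X_sub_C, hd]; omega
    · cases b
      · simp [sgn] at e2
      · simp [sgn] at e1
  choose g hg hgc using hex
  refine le_trans ?_ (Nat.card_le_card_of_injective (fun p => ConjClasses.mk (⟨g p, hg p⟩ : isoGrp B)) ?_)
  · rw [Nat.card_prod, Nat.card_eq_fintype_card, Fintype.card_bool]
    exact Nat.mul_le_mul_left 2 (card_pal_ge n hn)
  intro p p' e
  obtain ⟨c, hc⟩ := isConj_iff.1 ((isoGrp B).subtype.map_isConj (ConjClasses.mk_eq_mk_iff_isConj.1 e))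
  have h : (X - C (sgn p.1)) * p.2.1 = (X - C (sgn p'.1)) * p'.2.1 := by
    rw [← hgc p, ← hgc p', ← show c * g p * c⁻¹ = g p' from hc, Units.val_mul, Units.val_mul, Matrix.coe_units_inv, Matrix.charpoly_units_conj]
  have h' := congrArg (fun q : F[X] => q.coeff 0) h
  simp only [mul_coeff_zero, p.2.2.2.2, p'.2.2.2.2, mul_one, coeff_sub, coeff_X_zero, coeff_C_zero, zero_sub, neg_inj] at h'
  obtain ⟨b, x⟩ := p
  obtain ⟨b', x'⟩ := p'
  obtain rfl : b = b' := by
    have hne : (1 : F) ≠ -1 := fun e => h2 (by linear_combination e)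
    cases b <;> cases b' <;> simp_all [sgn, hne.symm]
  exact Prod.ext rfl (Subtype.ext (mul_left_cancel₀ (monic_X_sub_C _).ne_zero h))

theorem omega_odd_bounds (hodd : Odd (Fintype.card F)) (m : ℕ) (hm : 2 ≤ m) :
    Fintype.card F ^ m ≤ 2 * Nat.card (ConjClasses ↥(Cfsg.Omega F (Cfsg.quadFormOdd m F))) ∧
      10 * Nat.card (ConjClasses ↥(Cfsg.Omega F (Cfsg.quadFormOdd m F))) ≤ 73 * Fintype.card F ^ m := by
  classical
  have h2 := two_ne_zero_of_odd hodd
  rw [← coe_qOdd]
  have hQn := polarNondeg_qOdd (F := F) h2 m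
  have hcard : Fintype.card (OddI m) = 2 * m + 1 := by simp; omega
  let e : OddI m ≃ Fin (2 * m + 1) := Fintype.equivFinOfCardEq hcard
  obtain ⟨M, hMdef⟩ : ∃ M : Matrix (OddI m) (OddI m) F, M = Matrix.fromBlocks ((2 : F) • 1) 0 0 (Matrix.fromBlocks 0 1 1 0) :=
    ⟨_, rfl⟩
  have hM : Mᵀ = M := by simp [hMdef, Matrix.fromBlocks_transpose]
  have hMu : IsUnit M := by
    refine IsUnit.of_mul_eq_one (Matrix.fromBlocks ((2 : F)⁻¹ • 1) 0 0 (Matrix.fromBlocks 0 1 1 0)) ?_
    simp [hMdef, Matrix.fromBlocks_multiply, smul_smul, h2]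
  have hMpolar : ∀ u w : OddI m → F, (M *ᵥ u) ⬝ᵥ w = QuadraticMap.polar (qOdd m F) u w := fun u w => by
    rw [qOdd_polar, hMdef]
    simp [dotProduct, Matrix.mulVec, Fintype.sum_sum_type, Matrix.one_apply, Matrix.fromBlocks, Finset.sum_add_distrib]
    ring
  have hMQ : ∀ v, v ⬝ᵥ M *ᵥ v = 2 * qOdd m F v := fun v => by
    rw [dotProduct_comm, hMpolar, QuadraticMap.polar_self]
    simp
  obtain ⟨B, hBdef⟩ : ∃ B, B = Matrix.reindexAlgEquiv F F e M := ⟨_, rfl⟩
  have hB : Bᵀ = B := by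
    rw [hBdef, show (Matrix.reindexAlgEquiv F F e M)ᵀ = Matrix.reindexAlgEquiv F F e Mᵀ from rfl, hM]
  have hBu : IsUnit B := hBdef ▸ hMu.map (Matrix.reindexAlgEquiv F F e)
  obtain ⟨D, hD, hε⟩ : ∃ D : FormData F (2 * m + 1), D.B = B ∧ D.ε = 1 :=
    ⟨mkData B 1 hBu (by rw [hB, one_smul]) (one_mul 1) h2, rfl, rfl⟩
  have hn : Odd (2 * m + 1) := odd_two_mul_add_one m
  have hmem : ∀ g : GL (Fin (2 * m + 1)) F, g ∈ isoGrp D.B ↔
      (reindexGL e).symm g ∈ Cfsg.isometryGroup F ⇑(qOdd m F) := fun g => by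
    rw [mem_isometryGroup_gram h2 hM hMQ, hD, hBdef]
    conv_lhs => rw [← (reindexGL e).apply_symm_apply g]
    exact mem_isoGrp_reindex e M _
  let f : ↥(soGrp D) →* ↥(Cfsg.isometryGroup F ⇑(qOdd m F)) :=
    { toFun := fun g => ⟨(reindexGL e).symm g, (hmem _).1 g.2.1⟩
      map_one' := Subtype.ext (map_one (reindexGL e).symm)
      map_mul' := fun a b => Subtype.ext (map_mul (reindexGL e).symm (a : GL (Fin (2 * m + 1)) F) b) }
  have hf : Function.Injective f := fun a b h => Subtype.ext ((reindexGL e).symm.injective (congrArg Subtype.val h))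
  have hdet : ∀ g : GL (Fin (2 * m + 1)) F, (((reindexGL e).symm g : GL (OddI m) F) : Matrix (OddI m) (OddI m) F).det =
      (g : Matrix (Fin (2 * m + 1)) (Fin (2 * m + 1)) F).det := fun g => by
    conv_rhs => rw [← (reindexGL e).apply_symm_apply g]
    exact (Matrix.det_reindexAlgEquiv F F e _).symm
  have hrange : ∀ x : ↥(Cfsg.isometryGroup F ⇑(qOdd m F)),
      x ∈ f.range ↔ ((x : GL (OddI m) F) : Matrix (OddI m) (OddI m) F).det = 1 := by
    intro x
    constructor
    · rintro ⟨g, rfl⟩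
      exact (hdet _).trans (mem_soGrp.1 g.2).2
    · intro hx
      refine ⟨⟨reindexGL e x, mem_soGrp.2 ⟨(hmem _).2 (by rw [MulEquiv.symm_apply_apply]; exact x.2), ?_⟩⟩,
        Subtype.ext ((reindexGL e).symm_apply_apply _)⟩
      rw [← hdet, MulEquiv.symm_apply_apply]; exact hx
  have hle : Cfsg.Omega F ⇑(qOdd m F) ≤ f.range := fun x hx => by
    rw [hrange]
    have h := Abelianization.commutator_subset_ker
      ((Matrix.GeneralLinearGroup.det (n := OddI m) (R := F)).comp (Cfsg.isometryGroup F ⇑(qOdd m F)).subtype) hx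
    rw [MonoidHom.mem_ker, Units.ext_iff] at h
    simpa using h
  have hcardI : 2 ≤ Fintype.card (OddI m) := by omega
  have hRindex : f.range.index = 2 := by
    rw [Subgroup.index_eq_two_iff]
    obtain ⟨g₀, hg₀, hg₀d⟩ : ∃ g₀ : GL (OddI m) F, g₀ ∈ Cfsg.isometryGroup F ⇑(qOdd m F) ∧
        (g₀ : Matrix (OddI m) (OddI m) F).det = -1 := by
      refine ⟨-1, ?_, ?_⟩
      · rw [mem_isometryGroup_gram h2 hM hMQ]; simp
      · rw [Units.val_neg, Units.val_one, det_neg, hcard, hn.neg_one_pow, det_one, mul_one]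
    refine ⟨⟨g₀, hg₀⟩, fun x => ?_⟩
    rw [hrange, hrange, Subgroup.coe_mul, Units.val_mul, det_mul, hg₀d, mul_neg_one]
    have hsq : ((x : GL (OddI m) F) : Matrix (OddI m) (OddI m) F).det = 1 ∨ ((x : GL (OddI m) F) : Matrix (OddI m) (OddI m) F).det = -1 := by
      rw [← (reindexGL e).symm_apply_apply (x : GL (OddI m) F), hdet]
      exact det_sq D hε ((hmem _).2 (by rw [MulEquiv.symm_apply_apply]; exact x.2))
    have hne : (1 : F) ≠ -1 := fun h => h2 (by linear_combination h)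
    rcases hsq with h | h <;> rw [h] <;> simp [xor_def, hne, hne.symm]
  obtain ⟨H, hHdef⟩ : ∃ H, H = (Cfsg.Omega F ⇑(qOdd m F)).comap f := ⟨_, rfl⟩
  have hH : H.index = 2 := by
    have h := Subgroup.relIndex_mul_index hle
    rw [hRindex, index_Omega_odd (qOdd m F) h2 hQn hcardI] at h
    rw [hHdef, Subgroup.index_comap]
    omega
  have hk : Nat.card (ConjClasses ↥(Cfsg.Omega F ⇑(qOdd m F))) = Nat.card (ConjClasses H) := by
    subst hHdef
    refine (card_classes_congr (MulEquiv.ofBijective ((f.comp (Subgroup.subtype _)).codRestrict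
      (Cfsg.Omega F ⇑(qOdd m F)) fun x => x.2) ⟨fun a b h => ?_, fun y => ?_⟩)).symm
    · exact Subtype.ext (hf (congrArg Subtype.val h))
    · obtain ⟨g, hg⟩ := hle y.2
      exact ⟨⟨g, show f g ∈ Cfsg.Omega F ⇑(qOdd m F) by rw [hg]; exact y.2⟩, Subtype.ext hg⟩
  have hex : Fintype.card F ≠ 2 ∨ Fintype.card (OddI m) ≠ 4 := Or.inr (by omega)
  have hrefl : ∀ (u v : Fin (2 * m + 1) → F) (g : soGrp D), bil D.B u u ≠ 0 → bil D.B v v ≠ 0 →
      ((g : GL (Fin (2 * m + 1)) F) : Matrix (Fin (2 * m + 1)) (Fin (2 * m + 1)) F) = refl D u * refl D v →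
        (g ∈ H ↔ IsSquare (bil D.B u u * bil D.B v v)) := by
    intro u v g hu hv hg
    have hBv : ∀ w : Fin (2 * m + 1) → F, ∀ i, (D.B *ᵥ w) (e i) = (M *ᵥ (w ∘ e)) i := fun w i => by
      rw [hD, hBdef]
      simp only [Matrix.mulVec, dotProduct, Matrix.reindexAlgEquiv_apply, Matrix.reindex_apply, Matrix.submatrix_apply,
        Equiv.symm_apply_apply, Function.comp_apply]
      exact (Fintype.sum_equiv e _ _ fun j => by rw [Equiv.symm_apply_apply]).symm
    have hbil : ∀ w, bil D.B w w = 2 * qOdd m F (w ∘ e) := fun w => by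
      rw [← hMQ, bil, dotProduct, dotProduct]
      exact (Fintype.sum_equiv e _ _ fun i => by rw [hBv, Function.comp_apply]).symm
    have hpolar : ∀ w : OddI m → F, Cfsg.polarVec (⇑(qOdd m F)) w = M *ᵥ w := fun w => by
      refine _root_.funext fun j => ?_
      rw [Cfsg.polarVec, ← hMpolar, dotProduct_single, mul_one]
    have hR : ∀ w : Fin (2 * m + 1) → F,
        (Matrix.reindexAlgEquiv F F e).symm (refl D w) = Cfsg.reflectionMatrix (⇑(qOdd m F)) (w ∘ e) := fun w => by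
      rw [Cfsg.reflectionMatrix, hpolar, refl]
      ext i j
      have hc : 2 / bil D.B w w = (qOdd m F (w ∘ e))⁻¹ := by
        rw [hbil, div_mul_eq_div_div, div_self h2, one_div]
      simp [Matrix.one_apply, vecMulVec_apply, hc, hBv]
    have hq : ∀ {w}, bil D.B w w ≠ 0 → qOdd m F (w ∘ e) ≠ 0 := fun {w} hw h => hw (by rw [hbil, h, mul_zero])
    rw [hHdef, Subgroup.mem_comap, Spin.mem_Omega_refl_list_iff (qOdd m F) hQn hex (f g) [u ∘ e, v ∘ e]
      (by simp [hq hu, hq hv]) (by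
        show (Matrix.reindexAlgEquiv F F e).symm ((g : GL (Fin (2 * m + 1)) F) : Matrix (Fin (2 * m + 1)) (Fin (2 * m + 1)) F) = _
        rw [hg, map_mul, hR, hR]
        simp)]
    simp only [List.length_cons, List.length_nil, List.map_cons, List.map_nil, List.prod_cons, List.prod_nil, mul_one]
    rw [hbil, hbil]
    constructor
    · rintro ⟨-, t, ht⟩
      exact ⟨2 * t, by linear_combination 4 * ht⟩
    · rintro ⟨t, ht⟩
      refine ⟨even_two, t / 2, ?_⟩
      field_simp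
      linear_combination ht
  obtain ⟨a1, a2, a3⟩ := odd_class_bounds D hε hn H hH hrefl
  have hlow := card_classes_ge_odd h2 (show 1 ≤ m by omega) hB hBu
  rw [← hD] at hlow
  rw [hk]
  refine ⟨by omega, ?_⟩
  rw [hε] at a2 a3
  have h3 := three_le_card hodd
  rcases (show Fintype.card F = 3 ∨ 5 ≤ Fintype.card F by obtain ⟨k, hk⟩ := hodd; omega) with h | h
  · have := odd_TN_le h2 h m hm
    omega
  · have := odd_T_le h2 h m
    omega

end CfsgLib.CClassBound
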