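import Cfsg.Agent.Lib.KnownSimple.ClassicalClassBound.Congr
import Cfsg.Agent.Lib.KnownSimple.ClassicalClassBound.Forms

/-!
# The discriminants of a self-adjoint unit of a centraliser
-/

set_option autoImplicit false

namespace CfsgLib.CClassBound

open Polynomial Matrix CfsgLib.Classical CfsgLib.SLBound CfsgLib.GLClassBound

universe u

variable {F : Type u} [Field F] [Fintype F] {n : ℕ} (D : FormData F n) {G : Matrix (Fin n) (Fin n) F} (M : BlockData G)

/-- A self-adjoint unit of the centraliser. -/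
structure IsSA (S : Matrix (Fin n) (Fin n) F) : Prop where
  comm : S * G = G * S
  star_eq : D.star S = S
  unit : IsUnit S

/-- A layer with a symmetric form. -/
def Slot : Type u :=
  {x : F × Fin n // x.1 * x.1 = 1 ∧ D.ε * (-1) ^ (x.2 : ℕ) = 1 ∧ Nonempty (M.Idx (X - C x.1, (x.2 : ℕ) + 1))}

instance : Finite (Slot D M) := Subtype.finite

/-- The discriminants. -/
def disc (S : Matrix (Fin n) (Fin n) F) (x : Slot D M) : Prop := IsSquare (top D M S x.1.1 (x.1.2 : ℕ)).det

omit [Fintype F] in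
theorem isUnit_blocks {a : Matrix (Fin n) (Fin n) F} (ha : a * G = G * a) (Q : ∀ x, Matrix (M.Idx x) (M.Idx x) F)
    (hQ : ∀ x, IsUnit (Q x)) (h : ∀ x (i : M.Idx x), a *ᵥ M.gen i.1 = ∑ l, Q x l i • M.gen l.1) : IsUnit a := by
  classical
  choose R hR using fun x => (hQ x).exists_right_inv
  obtain ⟨b, hb, hb'⟩ := M.exists_blocks R
  refine IsUnit.of_mul_eq_one b (M.eq_of_gen (by rw [mul_assoc, hb, ← mul_assoc, ha, mul_assoc]) (by rw [one_mul, mul_one])
    fun i => ?_)
  rw [← mulVec_mulVec, hb' _ (⟨i, rfl⟩ : M.Idx (M.pe i)), mulVec_sum, one_mulVec]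
  simp only [mulVec_smul, h, Finset.smul_sum, smul_smul]
  rw [Finset.sum_comm]
  have e : ∀ m : M.Idx (M.pe i), ∑ l, (R (M.pe i) l ⟨i, rfl⟩ * Q (M.pe i) m l) • M.gen m.1 =
      (1 : Matrix (M.Idx (M.pe i)) (M.Idx (M.pe i)) F) m ⟨i, rfl⟩ • M.gen m.1 := fun m => by
    rw [← Finset.sum_smul, ← hR (M.pe i), Matrix.mul_apply]
    exact congrArg (· • _) (Finset.sum_congr rfl fun l _ => mul_comm _ _)
  simp only [e, Matrix.one_apply, ite_smul, one_smul, zero_smul, Finset.sum_ite_eq', Finset.mem_univ, if_true]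

theorem isSA_congr {S a : Matrix (Fin n) (Fin n) F} (hG : D.star G * G = 1) (hS : IsSA D (G := G) S)
    (ha : a * G = G * a) (hu : IsUnit a) : IsSA D (G := G) (D.star a * S * a) := by
  refine ⟨?_, by rw [D.star_mul, D.star_mul, D.star_star, hS.star_eq, mul_assoc], ?_⟩
  · have hsa : D.star a * G = G * D.star a := by
      have h1 := congrArg D.star (commute_star D hG ha)
      rw [D.star_mul, D.star_mul, D.star_star] at h1
      exact h1.symm
    rw [mul_assoc, ha, ← mul_assoc, mul_assoc (D.star a), hS.comm, ← mul_assoc, hsa]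
    simp only [mul_assoc]
  · refine (IsUnit.mul ?_ hS.unit).mul hu
    rw [Matrix.isUnit_iff_isUnit_det, D.det_star, ← Matrix.isUnit_iff_isUnit_det]
    exact hu

theorem det_top_empty (S : Matrix (Fin n) (Fin n) F) (r : F) (k : ℕ) (h : ¬ Nonempty (M.Idx (X - C r, k + 1))) :
    (top D M S r k).det = 1 := by
  haveI := not_nonempty_iff.1 h
  exact Matrix.det_isEmpty

/-- The polynomial cutting off the eigenvalues `±1`. -/
noncomputable def pmPow (G : Matrix (Fin n) (Fin n) F) : Matrix (Fin n) (Fin n) F :=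
  aeval G ((X - C (1 : F)) ^ n * (X - C (-1 : F)) ^ n)

omit [Fintype F] in
theorem pmPow_mulVec {r : F} (hr : r * r = 1) {x : Fin n → F} (hx : nilPow G r n *ᵥ x = 0) : pmPow G *ᵥ x = 0 := by
  rcases mul_self_eq_one_iff.1 hr with rfl | rfl
  · rw [pmPow, mul_comm, map_mul, ← mulVec_mulVec, hx, mulVec_zero]
  · rw [pmPow, map_mul, ← mulVec_mulVec, hx, mulVec_zero]

theorem mul_pmPow {a : Matrix (Fin n) (Fin n) F} (ha : a * G = G * a)
    (h : ∀ i, (∀ r : F, r * r = 1 → (M.pe i).1 ≠ X - C r) → a *ᵥ M.gen i = M.gen i) :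
    a * pmPow G = pmPow G := by
  have hGG : pmPow G * G = G * pmPow G := (commute_aeval (show G * G = G * G from rfl) _).symm
  refine M.eq_of_gen (by rw [mul_assoc, hGG, ← mul_assoc, ha, mul_assoc]) hGG fun i => ?_
  by_cases hex : ∀ r : F, r * r = 1 → (M.pe i).1 ≠ X - C r
  · rw [pmPow, commute_aeval ha, ← mulVec_mulVec, h i hex]
  · push Not at hex
    obtain ⟨r, hr, hi⟩ := hex
    have hz : nilPow G r n *ᵥ M.gen i = 0 := ker_nilPow_le r (M.pe i).2 (by
      have := M.gen_mem_ker i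
      rwa [hi] at this)
    rw [← mulVec_mulVec, pmPow_mulVec hr hz, mulVec_zero]

theorem star_mul_pmPow (hG : D.star G * G = 1) {a : Matrix (Fin n) (Fin n) F} (ha : a * G = G * a)
    (haP : a * pmPow G = pmPow G) : D.star a * pmPow G = pmPow G := by
  have hGG : D.star G * G = G * D.star G := hG.trans (mul_eq_one_comm.1 hG).symm
  obtain ⟨U, hU, hUP⟩ : ∃ U, a * U = U * a ∧ D.star (pmPow G) = U * pmPow G := by
    obtain ⟨u, hu⟩ : ∃ u : F → Matrix (Fin n) (Fin n) F, ∀ r, u r = (algebraMap F _ (-r) * D.star G) ^ n :=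
      ⟨_, fun _ => rfl⟩
    have hua : ∀ {x : Matrix (Fin n) (Fin n) F}, x * D.star G = D.star G * x → ∀ r, Commute x (u r) := fun {x} hx r => by
      rw [hu]
      exact Commute.pow_right (Commute.mul_right (Algebra.commutes _ _).symm hx) n
    refine ⟨u 1 * u (-1), ((hua (commute_star D hG ha) 1).mul_right (hua (commute_star D hG ha) (-1))).eq, ?_⟩
    have hcn : ∀ r r', Commute (nilPow G r n) (u r') := fun r r' => hua ((commute_aeval hGG _).symm) r'
    have hcu : Commute (u (-1)) (u 1) := by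
      have h0 : ∀ r, Commute (algebraMap F (Matrix (Fin n) (Fin n) F) r * D.star G) (D.star G) := fun r =>
        Commute.mul_left (Algebra.commutes r (D.star G)) (Commute.refl _)
      exact hua (by rw [hu]; exact ((h0 _).pow_left n).eq) 1
    rw [pmPow, map_mul]
    show D.star (nilPow G 1 n * nilPow G (-1) n) = _ * (nilPow G 1 n * nilPow G (-1) n)
    rw [D.star_mul, star_nilPow D hG (one_mul 1), star_nilPow D hG (show (-1 : F) * -1 = 1 by ring), ← hu, ← hu]
    calc u (-1) * nilPow G (-1) n * (u 1 * nilPow G 1 n) = u (-1) * (nilPow G (-1) n * u 1) * nilPow G 1 n := by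
          simp only [mul_assoc]
      _ = (u (-1) * u 1) * (nilPow G (-1) n * nilPow G 1 n) := by rw [(hcn (-1) 1).eq]; simp only [mul_assoc]
      _ = _ := by rw [hcu.eq, nilPow, nilPow, ← map_mul, mul_comm ((X - C (-1 : F)) ^ n), map_mul]
  have h1 : D.star (pmPow G) * a = D.star (pmPow G) := by
    rw [hUP, mul_assoc, pmPow, ← commute_aeval ha, ← pmPow, haP]
  calc D.star a * pmPow G = D.star (D.star (pmPow G) * a) := by rw [D.star_mul, D.star_star]
    _ = pmPow G := by rw [h1, D.star_star]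

omit [Fintype F] in
include M in
theorem isNilpotent_of_layers {T : Matrix (Fin n) (Fin n) F} (hT : T * G = G * T)
    (hnil : ∀ r, r * r = 1 → ∀ x, nilPow G r n *ᵥ x = 0 → T ^ (3 * n) *ᵥ x = 0) (hTP : T * pmPow G = 0) :
    IsNilpotent T := by
  refine ⟨3 * n + 1, M.eq_of_gen ((show Commute T G from hT).pow_left _).eq (by rw [zero_mul, mul_zero]) fun i => ?_⟩
  rw [zero_mulVec]
  by_cases hex : ∃ r : F, r * r = 1 ∧ (M.pe i).1 = X - C r
  · obtain ⟨r, hr, hi⟩ := hex
    have hz : nilPow G r n *ᵥ M.gen i = 0 := ker_nilPow_le r (M.pe i).2 (by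
      have := M.gen_mem_ker i
      rwa [hi] at this)
    rw [pow_succ', ← mulVec_mulVec, hnil r hr _ hz, mulVec_zero]
  · have hir := (M.pe_good i).2.1
    have hcop : ∀ t : F, t * t = 1 → IsCoprime ((M.pe i).1 ^ (M.pe i).2) ((X - C t) ^ n) := fun t ht =>
      ((hir.coprime_iff_not_dvd).2 fun hdvd => hex ⟨t, ht, eq_of_monic_of_associated (M.pe_good i).1
        (monic_X_sub_C t) (hir.associated_of_dvd (irreducible_X_sub_C t) hdvd)⟩).pow
    obtain ⟨p₁, p₂, hp⟩ := (hcop 1 (one_mul 1)).mul_right (hcop (-1) (by ring))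
    have hg : M.gen i = pmPow G *ᵥ (aeval G p₂ *ᵥ M.gen i) := by
      conv_lhs => rw [← one_mulVec (M.gen i), ← map_one (aeval (R := F) G), ← hp]
      rw [map_add, add_mulVec, map_mul, ← mulVec_mulVec, M.gen_mem_ker i, mulVec_zero, zero_add, pmPow,
        mulVec_mulVec, ← map_mul, mul_comm p₂]
    rw [hg, mulVec_mulVec, pow_succ, mul_assoc, hTP, mul_zero, zero_mulVec]

variable (hG : D.star G * G = 1)
include hG

theorem congr_top {S S' : Matrix (Fin n) (Fin n) F} (hS : IsSA D (G := G) S) (hS' : IsSA D (G := G) S')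
    (h : ∀ x : Slot D M, disc D M S x ↔ disc D M S' x) (r : F) (hr : r * r = 1) (k : ℕ) :
    ∃ Q, IsUnit Q ∧ Qᵀ * top D M S' r k * Q = top D M S r k := by
  have hu := top_det_ne_zero D M hG hr hS.comm hS.unit k
  have hu' := top_det_ne_zero D M hG hr hS'.comm hS'.unit k
  have ht := top_symm D M hG hr hS.comm hS.star_eq k
  have ht' := top_symm D M hG hr hS'.comm hS'.star_eq k
  rcases (mul_self_eq_one_iff.1 (show (D.ε * (-1) ^ k) * (D.ε * (-1) ^ k) = 1 by
    rw [mul_mul_mul_comm, D.eps_sq, ← mul_pow]; simp)) with hsym | halt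
  · rw [hsym, one_smul] at ht ht'
    refine congr_sym D.two_ne ht ht' hu hu' ?_
    by_cases hne : Nonempty (M.Idx (X - C r, k + 1))
    · obtain ⟨i⟩ := hne
      have hk : k < n := by
        have := M.exp_le i.1
        rw [i.2] at this
        exact this
      have hx := h ⟨(r, ⟨k, hk⟩), hr, hsym, ⟨i⟩⟩
      simp only [disc] at hx
      by_cases hsq : IsSquare (top D M S r k).det
      · exact hsq.mul (hx.1 hsq)
      · exact isSquare_mul_of_not_isSquare D.two_ne hsq fun hc => hsq (hx.2 hc)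
    · rw [det_top_empty D M S r k hne, det_top_empty D M S' r k hne, mul_one]
      exact ⟨1, (one_mul 1).symm⟩
  · rw [halt, neg_smul, one_smul] at ht ht'
    exact congr_alt D.two_ne ht ht' hu hu'

/-- Units with the same discriminants are equivalent. -/
theorem exists_congr_of_disc {S S' : Matrix (Fin n) (Fin n) F} (hS : IsSA D (G := G) S) (hS' : IsSA D (G := G) S')
    (h : ∀ x : Slot D M, disc D M S x ↔ disc D M S' x) :
    ∃ w, w * G = G * w ∧ IsUnit w ∧ D.star w * S' * w = S := by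
  classical
  have hx : ∀ x : F[X] × ℕ, ∃ Q : Matrix (M.Idx x) (M.Idx x) F, IsUnit Q ∧ ∀ r k, r * r = 1 → x = (X - C r, k + 1) →
      ∀ i j, (Qᵀ * Matrix.of (fun l m : M.Idx x => bil D.B (nilPow G r k *ᵥ (S' *ᵥ M.gen l.1)) (M.gen m.1)) * Q) i j =
        bil D.B (nilPow G r k *ᵥ (S *ᵥ M.gen i.1)) (M.gen j.1) := by
    intro x
    by_cases hex : ∃ r k, r * r = 1 ∧ x = (X - C r, k + 1)
    · obtain ⟨r, k, hr, rfl⟩ := hex
      obtain ⟨Q, hQu, hQ⟩ := congr_top D M hG hS hS' h r hr k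
      refine ⟨Q, hQu, fun r' k' _ he i j => ?_⟩
      obtain ⟨he1, he2⟩ := Prod.ext_iff.1 he
      obtain rfl : r = r' := C_injective (sub_right_injective he1)
      obtain rfl : k = k' := Nat.succ_injective he2
      exact congrFun (congrFun hQ i) j
    · exact ⟨1, isUnit_one, fun r k hr he => absurd ⟨r, k, hr, he⟩ hex⟩
  choose Q hQu hQ using hx
  obtain ⟨a, ha, hag⟩ := M.exists_blocks Q
  have hau := isUnit_blocks M ha Q hQu hag
  obtain ⟨w, hw, hwu, hww⟩ := exists_congr D M hG hS.comm (isSA_congr D hG hS' ha hau).comm hS.star_eq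
    (isSA_congr D hG hS' ha hau).star_eq hS.unit (isSA_congr D hG hS' ha hau).unit fun r hr k => by
      rw [top_congr D M hG k ha (Q _) (hag _)]
      exact Matrix.ext fun i j => (hQ _ r k hr rfl i j).symm
  refine ⟨a * w, by rw [mul_assoc, hw, ← mul_assoc, ha, mul_assoc], hau.mul hwu, ?_⟩
  rw [← hww, D.star_mul]
  simp only [mul_assoc]

set_option maxHeartbeats 400000 in
/-- Changing the discriminant of one layer. -/
theorem exists_flip (hε : D.ε = 1) {S : Matrix (Fin n) (Fin n) F} (hS : IsSA D (G := G) S) (x₀ : Slot D M) {δ : F}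
    (hδ : ¬ IsSquare δ) :
    ∃ (i₀ : M.ι) (a₀ a T S₁ : Matrix (Fin n) (Fin n) F), M.pe i₀ = (X - C x₀.1.1, (x₀.1.2 : ℕ) + 1) ∧
      Even (x₀.1.2 : ℕ) ∧ a₀ * G = G * a₀ ∧ IsUnit a₀ ∧ a * G = G * a ∧ a *ᵥ M.gen i₀ = δ • M.gen i₀ ∧
      (∀ j, j ≠ i₀ → a *ᵥ M.gen j = M.gen j) ∧ a.det = δ ^ ((x₀.1.2 : ℕ) + 1) ∧ T * G = G * T ∧ IsNilpotent T ∧
      S₁ = D.star a₀ * S * a₀ * (a * (1 + T)) ∧ IsSA D (G := G) S₁ ∧
      S₁.det = S.det * δ ^ ((x₀.1.2 : ℕ) + 1) * a₀.det ^ 2 ∧
      (disc D M S₁ x₀ ↔ ¬ disc D M S x₀) ∧ ∀ x, x ≠ x₀ → (disc D M S₁ x ↔ disc D M S x) := by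
  classical
  obtain ⟨⟨r, k⟩, hr, hsym, ⟨i₀⟩⟩ := x₀
  obtain ⟨k, hk⟩ := k
  simp only at hr hsym i₀ ⊢
  have hkeven : Even k := by
    rw [hε, one_mul] at hsym
    exact (neg_one_pow_eq_one_iff_even (fun e => D.two_ne (by linear_combination -e))).1 hsym
  have hu : IsUnit (top D M S r k).det := (Matrix.isUnit_iff_isUnit_det _).1 (top_det_ne_zero D M hG hr hS.comm hS.unit k)
  -- diagonalise the distinguished layer
  have ht := top_symm D M hG hr hS.comm hS.star_eq k
  rw [hsym, one_smul] at ht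
  obtain ⟨Q₀, hQ₀u, hQ₀⟩ := exists_diag_congr D.two_ne ht (top_det_ne_zero D M hG hr hS.comm hS.unit k) i₀
  obtain ⟨Q, hQu, hQx, hQo⟩ : ∃ Q : ∀ x, Matrix (M.Idx x) (M.Idx x) F, (∀ x, IsUnit (Q x)) ∧ Q (X - C r, k + 1) = Q₀ ∧
      ∀ x, x ≠ (X - C r, k + 1) → Q x = 1 := by
    refine ⟨Function.update (fun x => (1 : Matrix (M.Idx x) (M.Idx x) F)) (X - C r, k + 1) Q₀, fun x => ?_,
      Function.update_self _ _ _, fun x hx => Function.update_of_ne hx _ _⟩
    rcases eq_or_ne x (X - C r, k + 1) with rfl | hx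
    · rw [Function.update_self]; exact hQ₀u
    · rw [Function.update_of_ne hx]; exact isUnit_one
  obtain ⟨a₀, ha₀, ha₀g⟩ := M.exists_blocks Q
  have ha₀u := isUnit_blocks M ha₀ Q hQu ha₀g
  obtain ⟨S₀, hS₀def⟩ : ∃ T, T = D.star a₀ * S * a₀ := ⟨_, rfl⟩
  have hS₀ : IsSA D (G := G) S₀ := hS₀def ▸ isSA_congr D hG hS ha₀ ha₀u
  have htop₀ : ∀ r' k', top D M S₀ r' k' = (Q _)ᵀ * top D M S r' k' * Q _ := fun r' k' =>
    hS₀def ▸ top_congr D M hG k' ha₀ (Q _) (ha₀g _)
  -- scale one generator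
  obtain ⟨c, hcdef⟩ : ∃ c : M.ι → F, c = fun i => if i = i₀.1 then δ else 1 := ⟨_, rfl⟩
  obtain ⟨a, ha, hag, had⟩ := M.exists_diag c (fun i hi => by
    rw [hcdef] at hi
    obtain rfl : i = i₀.1 := by by_contra hii; exact hi (if_neg hii)
    exact ⟨r, by rw [i₀.2]⟩)
  have had' : a.det = δ ^ (k + 1) := by
    rw [had, Finset.prod_eq_single i₀.1, hcdef]
    · simp only [if_true]; rw [i₀.2]
    · intro i _ hi; rw [hcdef]; simp only [if_neg hi, one_pow]
    · exact fun h => absurd (Finset.mem_univ _) h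
  have hδ0 : δ ≠ 0 := fun e => hδ (e ▸ ⟨0, (zero_mul 0).symm⟩)
  have hau : IsUnit a := (Matrix.isUnit_iff_isUnit_det _).2 (had' ▸ (isUnit_iff_ne_zero.2 hδ0).pow _)
  obtain ⟨ai, hai₁⟩ := hau.exists_left_inv
  have hai₂ : a * ai = 1 := mul_eq_one_comm.1 hai₁
  have haiG : ai * G = G * ai := by
    calc ai * G = ai * G * (a * ai) := by rw [hai₂, mul_one]
      _ = ai * (G * a) * ai := by simp only [mul_assoc]
      _ = G * ai := by rw [← ha, ← mul_assoc ai, hai₁, one_mul]
  have hsaG : D.star a * G = G * D.star a := by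
    have h1 := congrArg D.star (commute_star D hG ha)
    rw [D.star_mul, D.star_mul, D.star_star] at h1
    exact h1.symm
  obtain ⟨Si, hSi⟩ := hS₀.unit.exists_left_inv
  have hSi₂ : S₀ * Si = 1 := mul_eq_one_comm.1 hSi
  have hSiG : Si * G = G * Si := by
    calc Si * G = Si * G * (S₀ * Si) := by rw [hSi₂, mul_one]
      _ = Si * (G * S₀) * Si := by simp only [mul_assoc]
      _ = G * Si := by rw [← hS₀.comm, ← mul_assoc Si, hSi, one_mul]
  obtain ⟨S₁, hS₁def⟩ : ∃ T, T = (2 : F)⁻¹ • (S₀ * a + D.star a * S₀) := ⟨_, rfl⟩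
  have hS₁G : S₁ * G = G * S₁ := by
    rw [hS₁def, smul_mul_assoc, mul_smul_comm, add_mul, mul_add, mul_assoc, ha, ← mul_assoc, hS₀.comm,
      mul_assoc (D.star a) S₀, hS₀.comm, ← mul_assoc (D.star a), hsaG]
    simp only [mul_assoc]
  have hS₁s : D.star S₁ = S₁ := by
    have e : ∀ (t : F) x, D.star (t • x) = t • D.star x := fun t x => by
      rw [Algebra.smul_def, D.star_mul, D.star_scal, ← Algebra.commutes, ← Algebra.smul_def]
    rw [hS₁def, e, D.star_add, D.star_mul, D.star_mul, D.star_star, hS₀.star_eq, add_comm]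
  have hentry : ∀ r' k', r' * r' = 1 → ∀ i j : M.Idx (X - C r', k' + 1),
      top D M S₁ r' k' i j = (2 : F)⁻¹ * (c i.1 + c j.1) * top D M S₀ r' k' i j := by
    intro r' k' hr' i j
    have hB : ∀ (t : F) (u v : Fin n → F), bil D.B (t • u) v = t * bil D.B u v ∧ bil D.B u (t • v) = t * bil D.B u v :=
      fun t u v => by simp [bil, mulVec_smul, smul_eq_mul]
    have h2 : bil D.B (nilPow G r' k' *ᵥ (D.star a *ᵥ (S₀ *ᵥ M.gen i.1))) (M.gen j.1) =
        c j.1 * bil D.B (nilPow G r' k' *ᵥ (S₀ *ᵥ M.gen i.1)) (M.gen j.1) := by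
      rw [mulVec_mulVec _ (nilPow G r' k') (D.star a), ← commute_aeval hsaG, ← mulVec_mulVec, D.bil_star, D.star_star, hag]
      exact (hB _ _ _).2
    rw [top, of_apply, top, of_apply, hS₁def, smul_mulVec, mulVec_smul, (hB _ _ _).1, add_mulVec, mulVec_add,
      ← mulVec_mulVec, ← mulVec_mulVec, hag, mulVec_smul, mulVec_smul]
    rw [show ∀ u v w, bil D.B (u + v) w = bil D.B u w + bil D.B v w from fun u v w => by simp [bil, add_dotProduct],
      (hB _ _ _).1, h2]
    ring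
  have h22 : (2 : F)⁻¹ * (1 + 1) = 1 := by rw [one_add_one_eq_two, inv_mul_cancel₀ D.two_ne]
  have hother : ∀ r' k', r' * r' = 1 → ((X - C r', k' + 1) : F[X] × ℕ) ≠ (X - C r, k + 1) →
      top D M S₁ r' k' = top D M S r' k' := by
    intro r' k' hr' hne'
    refine Matrix.ext fun i j => ?_
    have hc : ∀ l : M.Idx (X - C r', k' + 1), c l.1 = 1 := fun l => by
      rw [hcdef]
      exact if_neg fun e => hne' (l.2.symm.trans (by rw [e, i₀.2]))
    rw [hentry r' k' hr', hc, hc, h22, one_mul, htop₀, hQo _ hne', transpose_one, one_mul, mul_one]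
  have hmain : top D M S₁ r k =
      Matrix.diagonal (Function.update (fun _ => 1) i₀ (δ * (top D M S r k).det)) := by
    refine Matrix.ext fun i j => ?_
    rw [hentry r k hr, htop₀, hQx, hQ₀]
    rcases eq_or_ne i j with rfl | hij
    · rw [diagonal_apply_eq, diagonal_apply_eq]
      rcases eq_or_ne i i₀ with rfl | hi
      · rw [Function.update_self, Function.update_self, hcdef]
        simp only [if_true]
        linear_combination (δ * (top D M S r k).det) * h22
      · rw [Function.update_of_ne hi, Function.update_of_ne hi, hcdef]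
        simp only [if_neg (fun e => hi (Subtype.ext e) : ¬ i.1 = i₀.1), h22, one_mul]
    · rw [diagonal_apply_ne _ hij, diagonal_apply_ne _ hij, mul_zero]
  -- the determinant
  have hT : (ai * (Si * S₁) - 1) * G = G * (ai * (Si * S₁) - 1) := by
    rw [sub_mul, mul_sub, one_mul, mul_one, mul_assoc ai, mul_assoc Si, hS₁G, ← mul_assoc Si, hSiG, mul_assoc G,
      ← mul_assoc ai G, haiG, mul_assoc]
  have hnil : ∀ r', r' * r' = 1 → ∀ x, nilPow G r' n *ᵥ x = 0 → (ai * (Si * S₁) - 1) ^ (3 * n) *ᵥ x = 0 := by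
    intro r' hr'
    refine pow_layer_eq_zero M hT fun k' i => ?_
    have hd1 : (S₁ - S₀ * a) * G = G * (S₁ - S₀ * a) := by
      rw [sub_mul, mul_sub, hS₁G, mul_assoc, ha, ← mul_assoc, hS₀.comm, mul_assoc]
    have hx : nilPow G r' (k' + 1) *ᵥ ((S₁ - S₀ * a) *ᵥ M.gen i.1) = 0 := by
      rw [mulVec_mulVec, ← commute_aeval hd1, ← mulVec_mulVec, gen_layer M i, mulVec_zero]
    obtain ⟨w₁, w₂, e1, e2, e3⟩ := mem_layer D M hG hr' k' hx fun j => by
      have h1 := hentry r' k' hr' i j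
      simp only [top, of_apply] at h1
      rw [sub_mulVec, mulVec_sub, bil, sub_dotProduct, sub_eq_zero, ← mulVec_mulVec, hag, mulVec_smul, mulVec_smul,
        smul_dotProduct, smul_eq_mul]
      refine h1.trans ?_
      rcases eq_or_ne (c i.1) (c j.1) with hc | hc
      · rw [← hc, show (2 : F)⁻¹ * (c i.1 + c i.1) = c i.1 by linear_combination (c i.1) * h22]
        rfl
      · have hx0 : ((X - C r', k' + 1) : F[X] × ℕ) = (X - C r, k + 1) := by
          by_contra hne'
          refine hc ?_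
          have hh : ∀ l : M.Idx (X - C r', k' + 1), c l.1 = 1 := fun l => by
            rw [hcdef]
            exact if_neg fun e => hne' (l.2.symm.trans (by rw [e, i₀.2]))
          rw [hh, hh]
        obtain ⟨q1, q2⟩ := Prod.ext_iff.1 hx0
        obtain rfl : r' = r := C_injective (sub_right_injective q1)
        obtain rfl : k' = k := Nat.succ_injective q2
        have hij : i ≠ j := fun e => hc (by rw [e])
        have hz : top D M S₀ r' k' i j = 0 := by rw [htop₀, hQx, hQ₀, diagonal_apply_ne _ hij]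
        simp only [top, of_apply, bil] at hz
        rw [bil, hz, mul_zero, mul_zero]
    have hP : ai * Si * G = G * (ai * Si) := by rw [mul_assoc, hSiG, ← mul_assoc, haiG, mul_assoc]
    refine ⟨(ai * Si) *ᵥ w₁, (ai * Si) *ᵥ w₂, ?_, ?_, ?_⟩
    · rw [mulVec_mulVec, ← commute_aeval hP, ← mulVec_mulVec, show nilPow G r' k' *ᵥ w₁ = 0 from e1, mulVec_zero]
    · rw [mulVec_mulVec, ← commute_aeval hP, ← mulVec_mulVec, show nilPow G r' (k' + 2) *ᵥ w₂ = 0 from e2, mulVec_zero]
    · have e : nilPow G r' 1 *ᵥ ((ai * Si) *ᵥ w₂) = (ai * Si) *ᵥ (nilPow G r' 1 *ᵥ w₂) := by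
        rw [mulVec_mulVec, mulVec_mulVec, commute_aeval hP]
      rw [e, ← mulVec_add, ← e3, mulVec_mulVec, mul_sub]
      refine congrArg (· *ᵥ _) ?_
      rw [mul_assoc ai Si (S₀ * a), ← mul_assoc Si, hSi, one_mul, hai₁, mul_assoc]
  have haP : a * pmPow G = pmPow G := mul_pmPow M ha fun i hi => by
    rw [hag, hcdef]
    have : i ≠ i₀.1 := fun e => hi r hr (by rw [e, i₀.2])
    simp only [if_neg this, one_smul]
  have hsaP := star_mul_pmPow D hG ha haP
  have hTP : (ai * (Si * S₁) - 1) * pmPow G = 0 := by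
    have e : S₁ * pmPow G = S₀ * pmPow G := by
      rw [hS₁def, smul_mul_assoc, add_mul, mul_assoc S₀, haP, mul_assoc (D.star a) S₀, pmPow, commute_aeval hS₀.comm,
        ← mul_assoc (D.star a), ← pmPow, hsaP, ← two_smul F, smul_smul, inv_mul_cancel₀ D.two_ne, one_smul]
    rw [sub_mul, one_mul, mul_assoc, mul_assoc, e, ← mul_assoc Si, hSi, one_mul, sub_eq_zero]
    calc ai * pmPow G = ai * (a * pmPow G) := by rw [haP]
      _ = pmPow G := by rw [← mul_assoc, hai₁, one_mul]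
  have hnilp : IsNilpotent (ai * (Si * S₁) - 1) := isNilpotent_of_layers M hT hnil hTP
  have hdet1 : (ai * (Si * S₁)).det = 1 := by
    have h := congrArg (fun p : F[X] => p.eval 1)
      (sub_eq_zero.1 (Matrix.isNilpotent_charpoly_sub_pow_of_isNilpotent hnilp.neg).eq_zero)
    simp only [Matrix.eval_charpoly, eval_pow, eval_X, one_pow, map_one, sub_neg_eq_add, add_sub_cancel] at h
    exact h
  have hdetS₁ : S₁.det = S.det * δ ^ (k + 1) * a₀.det ^ 2 := by
    have h1 : S₁ = S₀ * (a * (ai * (Si * S₁))) := by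
      rw [← mul_assoc a, hai₂, one_mul, ← mul_assoc, hSi₂, one_mul]
    rw [h1, det_mul, det_mul, hdet1, mul_one, had', hS₀def, det_mul, det_mul, D.det_star]
    ring
  have hS₁u : IsUnit S₁ := by
    rw [Matrix.isUnit_iff_isUnit_det, hdetS₁]
    exact ((((Matrix.isUnit_iff_isUnit_det _).1 hS.unit).mul ((isUnit_iff_ne_zero.2 hδ0).pow _)).mul
      (((Matrix.isUnit_iff_isUnit_det _).1 ha₀u).pow _))
  refine ⟨i₀.1, a₀, a, ai * (Si * S₁) - 1, S₁, i₀.2, hkeven, ha₀, ha₀u, ha, by rw [hag, hcdef]; simp,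
    fun j hj => by rw [hag, hcdef]; simp [hj], had', hT, hnilp, ?_, ⟨hS₁G, hS₁s, hS₁u⟩, hdetS₁, ?_⟩
  · rw [add_sub_cancel, ← mul_assoc a, hai₂, one_mul, ← mul_assoc, ← hS₀def, hSi₂, one_mul]
  refine ⟨?_, fun x hx' => ?_⟩
  · simp only [disc]
    rw [hmain, det_diagonal, Finset.prod_update_of_mem (Finset.mem_univ _), Finset.prod_const_one, mul_one]
    refine ⟨fun h1 h2 => hδ ?_, fun h1 => isSquare_mul_of_not_isSquare D.two_ne hδ h1⟩
    have := h1.div h2
    rwa [mul_div_cancel_right₀ _ hu.ne_zero] at this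
  · obtain ⟨⟨r', k'⟩, hx⟩ := x
    simp only [disc]
    rw [hother r' k' hx.1 fun e => hx' ?_]
    obtain ⟨q1, q2⟩ := Prod.ext_iff.1 e
    exact Subtype.ext (Prod.ext (C_injective (sub_right_injective q1)) (Fin.ext (Nat.succ_injective q2)))

/-- Units with square determinant: all discriminants but one determine the last one. -/
theorem disc_of_det (hε : D.ε = 1) {S S' : Matrix (Fin n) (Fin n) F} (hS : IsSA D (G := G) S)
    (hS' : IsSA D (G := G) S') (hd : IsSquare S.det) (hd' : IsSquare S'.det) (x₀ : Slot D M)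
    (h : ∀ x, x ≠ x₀ → (disc D M S x ↔ disc D M S' x)) : disc D M S x₀ ↔ disc D M S' x₀ := by
  classical
  by_contra hne
  obtain ⟨δ, hδ⟩ : ∃ δ : F, ¬ IsSquare δ := FiniteField.exists_nonsquare (fun hc => D.two_ne (by
    haveI := ringChar.charP F
    rw [show (2 : F) = ((2 : ℕ) : F) by norm_num, CharP.cast_eq_zero_iff F (ringChar F), hc]))
  obtain ⟨i₀, a₀, a, T, S₁, -, ⟨m, hm⟩, -, ha₀u, -, -, -, -, -, -, -, hS₁, hdetS₁, hdisc⟩ := exists_flip D M hG hε hS x₀ hδ
  obtain ⟨w, -, hwu, hww⟩ := exists_congr_of_disc D M hG hS₁ hS' fun x => by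
    rcases eq_or_ne x x₀ with rfl | he
    · have := hdisc.1
      tauto
    · exact (hdisc.2 x he).trans (h x he)
  refine hδ ?_
  have hsq : IsSquare (S₁.det / S.det) := by
    rw [← hww, det_mul, det_mul, D.det_star]
    refine IsSquare.div ?_ hd
    rw [mul_comm w.det, mul_assoc]
    exact hd'.mul ⟨w.det, rfl⟩
  rw [hdetS₁, mul_assoc, mul_div_cancel_left₀ _ ((Matrix.isUnit_iff_isUnit_det _).1 hS.unit).ne_zero, hm] at hsq
  have hδ0 : δ ≠ 0 := fun e => hδ (e ▸ ⟨0, (zero_mul 0).symm⟩)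
  have hden : IsSquare ((δ ^ m) ^ 2 * a₀.det ^ 2) := ⟨δ ^ m * a₀.det, by ring⟩
  have h3 := hsq.div hden
  rwa [show δ ^ (m + m + 1) * a₀.det ^ 2 / ((δ ^ m) ^ 2 * a₀.det ^ 2) = δ by
    have := pow_ne_zero m hδ0
    have := ((Matrix.isUnit_iff_isUnit_det _).1 ha₀u).ne_zero
    field_simp
    ring] at h3

end CfsgLib.CClassBound
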