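import Cfsg.Agent.Lib.KnownSimple.ClassicalClassBound.Classes

/-!
# Counting self-dual polynomials
-/

set_option autoImplicit false

namespace CfsgLib.CClassBound

open Polynomial CfsgLib.Classical CfsgLib.Classical.SUSemisimple

universe u

variable {F : Type u} [Field F]

attribute [local instance] _root_.Classical.propDecidable

theorem dual_X_sub_C {r : F} (hr : r * r = 1) : dual (X - C r) = X - C r := by
  have h0 : (X - C r : F[X]).coeff 0 = -r := by simp
  have hr0 : r ≠ 0 := fun e => by simp [e] at hr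
  have hne : (X - C r : F[X]).coeff 0 ≠ 0 := by rw [h0]; exact neg_ne_zero.2 hr0
  show dualPoly (RingHom.id F) (X - C r) = X - C r
  ext j
  rcases (show j = 0 ∨ j = 1 ∨ 2 ≤ j by omega) with rfl | rfl | hj
  · rw [coeff_dualPoly _ (Nat.zero_le _), natDegree_X_sub_C, Nat.sub_zero]
    simp [inv_eq_of_mul_eq_one_right hr]
  · rw [coeff_dualPoly _ (by rw [natDegree_X_sub_C]), natDegree_X_sub_C, Nat.sub_self]
    simp [hr0]
  · rw [coeff_eq_zero_of_natDegree_lt (by rw [natDegree_dualPoly _ hne, natDegree_X_sub_C]; omega),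
      coeff_eq_zero_of_natDegree_lt (by rw [natDegree_X_sub_C]; omega)]

theorem IsSD.cancel {r : F} (hr : r * r = 1) {h : F[X]} (hh : IsSD ((X - C r) * h)) : IsSD h := by
  have hm : h.Monic := (monic_X_sub_C r).of_mul_monic_left hh.1
  have h0 := hh.2.1
  rw [mul_coeff_zero] at h0
  refine ⟨hm, right_ne_zero_of_mul h0, ?_⟩
  have e := hh.2.2
  rw [dual, dualPoly_mul, ← dual, ← dual, dual_X_sub_C hr] at e
  exact mul_left_cancel₀ (monic_X_sub_C r).ne_zero e

theorem IsSD.coeff_eq {P : F[X]} (hP : IsSD P) {j : ℕ} (hj : j ≤ P.natDegree) :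
    P.coeff (P.natDegree - j) = P.coeff 0 * P.coeff j ∧ P.coeff 0 * P.coeff 0 = 1 := by
  have e0 := congrArg (fun t : F[X] => t.coeff 0) hP.2.2
  rw [dual, coeff_dualPoly _ (Nat.zero_le _), Nat.sub_zero, hP.1.coeff_natDegree, map_one, mul_one, RingHom.id_apply] at e0
  have h1 : P.coeff 0 * P.coeff 0 = 1 := by
    conv_lhs => arg 1; rw [← e0]
    exact inv_mul_cancel₀ hP.2.1
  refine ⟨?_, h1⟩
  have e := congrArg (fun t : F[X] => t.coeff (P.natDegree - j)) hP.2.2
  rw [dual, coeff_dualPoly _ (Nat.sub_le _ _), Nat.sub_sub_self hj, RingHom.id_apply, RingHom.id_apply, e0] at e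
  exact e.symm

/-- The sign of a self-dual polynomial with given parities at `±1`. -/
theorem IsSD.even_mult (h2 : (2 : F) ≠ 0) : ∀ {P : F[X]}, IsSD P → (∀ r : F, r * r = 1 → Even (P.rootMultiplicity r)) →
    Even P.natDegree ∧ P.coeff 0 = 1 := by
  intro P
  induction hd : P.natDegree using Nat.strong_induction_on generalizing P with
  | _ d ih =>
  intro hP hev
  subst hd
  by_cases hroot : ∃ r : F, r * r = 1 ∧ P.IsRoot r
  · obtain ⟨r, hr, hPr⟩ := hroot
    obtain ⟨h, rfl⟩ := dvd_iff_isRoot.2 hPr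
    have hh := hP.cancel hr
    have hm := hev r hr
    rw [rootMultiplicity_mul hP.1.ne_zero, rootMultiplicity_X_sub_C_self] at hm
    have hpos : 0 < h.rootMultiplicity r := by obtain ⟨m, hm⟩ := hm; omega
    obtain ⟨g, rfl⟩ := dvd_iff_isRoot.2 ((rootMultiplicity_pos hh.1.ne_zero).1 hpos)
    have hg := hh.cancel hr
    have hdeg : ((X - C r) * ((X - C r) * g)).natDegree = g.natDegree + 2 := by
      rw [natDegree_mul (monic_X_sub_C r).ne_zero hh.1.ne_zero, natDegree_mul (monic_X_sub_C r).ne_zero hg.1.ne_zero,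
        natDegree_X_sub_C]; omega
    obtain ⟨he, h1⟩ := ih g.natDegree (by omega) rfl hg fun t ht => by
      have := hev t ht
      rw [rootMultiplicity_mul hP.1.ne_zero, rootMultiplicity_mul hh.1.ne_zero] at this
      obtain ⟨m, hm⟩ := this
      exact ⟨m - (X - C r).rootMultiplicity t, by omega⟩
    refine ⟨by rw [hdeg]; exact he.add even_two, ?_⟩
    rw [mul_coeff_zero, mul_coeff_zero, h1, coeff_sub, coeff_X_zero, coeff_C_zero]
    linear_combination hr
  · push Not at hroot
    have hrev : P.reverse = C (P.coeff 0) * P := by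
      have e := hP.2.2
      rw [dual, dualPoly, Polynomial.map_id, RingHom.id_apply] at e
      calc P.reverse = C (P.coeff 0) * (C (P.coeff 0)⁻¹ * P.reverse) := by
            rw [← mul_assoc, ← map_mul, mul_inv_cancel₀ hP.2.1, map_one, one_mul]
        _ = _ := by rw [e]
    have key : ∀ r : F, r * r = 1 → r ^ P.natDegree * P.coeff 0 = 1 := fun r hr => by
      letI : Invertible r := ⟨r, hr, hr⟩
      have h1 := eval₂_reverse_mul_pow (RingHom.id F) r P
      rw [show ⅟r = r from rfl, hrev, eval₂_id, eval₂_id, eval_mul, eval_C] at h1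
      refine mul_right_cancel₀ (hroot r hr) ?_
      linear_combination h1
    have h1 := key 1 (one_mul 1)
    rw [one_pow, one_mul] at h1
    have h3 := key (-1) (by ring)
    rw [h1, mul_one] at h3
    exact ⟨(neg_one_pow_eq_one_iff_even (fun e => h2 (by linear_combination -e))).1 h3, h1⟩

variable [Fintype F]

/-- The number of self-dual polynomials of degree `d`. -/
def sdNum (q d : ℕ) : ℕ :=
  if d = 0 then 1 else if Even d then q ^ (d / 2) + q ^ (d / 2 - 1) else 2 * q ^ (d / 2)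

/-- The weighted number of self-dual polynomials of degree `d`. -/
def symNum (q d : ℕ) : ℕ :=
  sdNum q d + 2 * (if 1 ≤ d then sdNum q (d - 1) else 0) + if 2 ≤ d then sdNum q (d - 2) else 0

/-- The number of self-dual polynomials of degree `d` with even multiplicities at `±1`. -/
def altNum (q d : ℕ) : ℕ := if Even d then q ^ (d / 2) else 0

theorem card_coeff_le (s : Finset F[X]) (d l : ℕ) (a : F) (hl : ∀ j, 1 ≤ j → j < d → j ≤ l ∨ d - j ≤ l ∨ (a = -1 ∧ d - j = j))
    (h2 : (2 : F) ≠ 0) (hs : ∀ P ∈ s, IsSD P ∧ P.natDegree = d ∧ P.coeff 0 = a) : s.card ≤ Fintype.card F ^ l := by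
  classical
  calc s.card ≤ (Finset.univ : Finset (Fin l → F)).card :=
        Finset.card_le_card_of_injOn (fun P i => P.coeff ((i : ℕ) + 1)) (fun _ _ => Finset.mem_coe.2 (Finset.mem_univ _)) ?_
    _ = _ := by rw [Finset.card_univ, Fintype.card_fun, Fintype.card_fin]
  intro P hP Q hQ h
  obtain ⟨h1, h1d, h1a⟩ := hs P hP
  obtain ⟨k1, k1d, k1a⟩ := hs Q hQ
  have low : ∀ j, 1 ≤ j → j ≤ l → P.coeff j = Q.coeff j := fun j hj hjl => by
    have := congrFun h ⟨j - 1, by omega⟩
    simpa [Nat.sub_add_cancel hj] using this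
  refine Polynomial.ext fun j => ?_
  rcases Nat.eq_zero_or_pos j with rfl | hj
  · rw [h1a, k1a]
  rcases lt_trichotomy j d with hjd | rfl | hjd
  · rcases hl j hj hjd with hjl | hjl | ⟨ha, hjl⟩
    · exact low j hj hjl
    · have e1 := (h1.coeff_eq (j := d - j) (by omega)).1
      have e2 := (k1.coeff_eq (j := d - j) (by omega)).1
      rw [h1d, h1a, Nat.sub_sub_self hjd.le] at e1
      rw [k1d, k1a, Nat.sub_sub_self hjd.le] at e2
      rw [e1, e2, low (d - j) (by omega) hjl]
    · have e1 := (h1.coeff_eq (j := j) (by omega)).1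
      have e2 := (k1.coeff_eq (j := j) (by omega)).1
      rw [h1d, h1a, ha, hjl] at e1
      rw [k1d, k1a, ha, hjl] at e2
      have z1 : P.coeff j = 0 := (mul_eq_zero.1 (show (2 : F) * P.coeff j = 0 by linear_combination e1)).resolve_left h2
      have z2 : Q.coeff j = 0 := (mul_eq_zero.1 (show (2 : F) * Q.coeff j = 0 by linear_combination e2)).resolve_left h2
      rw [z1, z2]
  · rw [← h1d, h1.1.coeff_natDegree, h1d, ← k1d, k1.1.coeff_natDegree]
  · rw [coeff_eq_zero_of_natDegree_lt (by omega), coeff_eq_zero_of_natDegree_lt (by omega)]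

theorem card_sd_le (h2 : (2 : F) ≠ 0) (d : ℕ) (s : Finset F[X]) (hs : ∀ P ∈ s, IsSD P ∧ P.natDegree = d) :
    s.card ≤ sdNum (Fintype.card F) d := by
  classical
  rcases Nat.eq_zero_or_pos d with rfl | hd
  · rw [sdNum, if_pos rfl]
    exact Finset.card_le_one.2 fun P hP Q hQ =>
      ((hs P hP).1.1.natDegree_eq_zero.1 (hs P hP).2).trans ((hs Q hQ).1.1.natDegree_eq_zero.1 (hs Q hQ).2).symm
  have hsplit : s.card = (s.filter fun P => P.coeff 0 = 1).card + (s.filter fun P => P.coeff 0 = -1).card := by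
    rw [← Finset.card_union_of_disjoint (Finset.disjoint_filter.2 fun P _ e1 e2 => h2 (by linear_combination e2 - e1))]
    refine congrArg Finset.card (Finset.ext fun P => ?_)
    simp only [Finset.mem_union, Finset.mem_filter]
    refine ⟨fun hP => ?_, fun h => h.elim And.left And.left⟩
    rcases mul_self_eq_one_iff.1 ((hs P hP).1.coeff_eq (Nat.zero_le _)).2 with h | h
    · exact Or.inl ⟨hP, h⟩
    · exact Or.inr ⟨hP, h⟩
  have hf : ∀ a, ∀ P ∈ s.filter (fun P => P.coeff 0 = a), IsSD P ∧ P.natDegree = d ∧ P.coeff 0 = a := fun a P hP => by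
    obtain ⟨h1, h2⟩ := Finset.mem_filter.1 hP
    exact ⟨(hs P h1).1, (hs P h1).2, h2⟩
  rw [sdNum, if_neg hd.ne', hsplit]
  split_ifs with he
  · obtain ⟨m, rfl⟩ := he
    refine add_le_add (card_coeff_le _ _ _ 1 (fun j _ _ => by omega) h2 (hf 1))
      (card_coeff_le _ _ _ (-1) (fun j _ _ => ?_) h2 (hf (-1)))
    rcases (show j ≤ (m + m) / 2 - 1 ∨ m + m - j ≤ (m + m) / 2 - 1 ∨ m + m - j = j by omega) with h | h | h
    · exact Or.inl h
    · exact Or.inr (Or.inl h)
    · exact Or.inr (Or.inr ⟨rfl, h⟩)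
  · rw [two_mul]
    obtain ⟨m, rfl⟩ := Nat.not_even_iff_odd.1 he
    exact add_le_add (card_coeff_le _ _ _ 1 (fun j _ _ => by omega) h2 (hf 1))
      (card_coeff_le _ _ _ (-1) (fun j _ _ => by omega) h2 (hf (-1)))

theorem card_alt_le (h2 : (2 : F) ≠ 0) (d : ℕ) (s : Finset F[X])
    (hs : ∀ P ∈ s, IsSD P ∧ P.natDegree = d ∧ ∀ r : F, r * r = 1 → Even (P.rootMultiplicity r)) :
    s.card ≤ altNum (Fintype.card F) d := by
  rw [altNum]
  rcases s.eq_empty_or_nonempty with rfl | ⟨P, hP⟩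
  · simp
  obtain ⟨h1, rfl, h3⟩ := hs P hP
  rw [if_pos (h1.even_mult h2 h3).1]
  obtain ⟨m, hm⟩ := (h1.even_mult h2 h3).1
  exact card_coeff_le s _ _ 1 (fun j _ _ => by omega) h2 fun Q hQ =>
    ⟨(hs Q hQ).1, (hs Q hQ).2.1, ((hs Q hQ).1.even_mult h2 (hs Q hQ).2.2).2⟩

theorem card_dvd_le (h2 : (2 : F) ≠ 0) {r : F} (hr : r * r = 1) (d : ℕ) (s : Finset F[X])
    (hs : ∀ P ∈ s, IsSD P ∧ P.natDegree = d) :
    (s.filter fun P => X - C r ∣ P).card ≤ (if 1 ≤ d then sdNum (Fintype.card F) (d - 1) else 0) := by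
  split_ifs with hd
  · rw [← Finset.card_image_of_injOn (f := fun P => P /ₘ (X - C r)) (fun P hP Q hQ e => ?_)]
    · refine card_sd_le h2 _ _ fun P hP => ?_
      obtain ⟨Q, hQ, rfl⟩ := Finset.mem_image.1 hP
      obtain ⟨hQs, h, rfl⟩ := Finset.mem_filter.1 hQ
      rw [mul_divByMonic_cancel_left _ (monic_X_sub_C r)]
      refine ⟨(hs _ hQs).1.cancel hr, ?_⟩
      have hd' := (hs _ hQs).2
      rw [natDegree_mul (monic_X_sub_C r).ne_zero ((hs _ hQs).1.cancel hr).1.ne_zero, natDegree_X_sub_C] at hd'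
      omega
    · obtain ⟨-, a, rfl⟩ := Finset.mem_filter.1 hP
      obtain ⟨-, b, rfl⟩ := Finset.mem_filter.1 hQ
      simp only [mul_divByMonic_cancel_left _ (monic_X_sub_C r)] at e
      rw [e]
  · refine le_of_eq (Finset.card_eq_zero.2 (Finset.filter_eq_empty_iff.2 fun P hP hdvd => ?_))
    have := natDegree_le_of_dvd hdvd (hs P hP).1.1.ne_zero
    rw [natDegree_X_sub_C, (hs P hP).2] at this
    omega

theorem sum_sym_le (h2 : (2 : F) ≠ 0) (d : ℕ) (s : Finset F[X]) (hs : ∀ P ∈ s, IsSD P ∧ P.natDegree = d) :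
    ∑ P ∈ s, 2 ^ ((if X - C (1 : F) ∣ P then 1 else 0) + if X - C (-1 : F) ∣ P then 1 else 0) ≤
      symNum (Fintype.card F) d := by
  have e : ∀ P : F[X], 2 ^ ((if X - C (1 : F) ∣ P then 1 else 0) + if X - C (-1 : F) ∣ P then 1 else 0) =
      1 + (if X - C (1 : F) ∣ P then 1 else 0) + (if X - C (-1 : F) ∣ P then 1 else 0) +
        if X - C (1 : F) ∣ P ∧ X - C (-1 : F) ∣ P then 1 else 0 := fun P => by
    by_cases hp : X - C (1 : F) ∣ P <;> by_cases hm : X - C (-1 : F) ∣ P <;> simp only [hp, hm, if_true, if_false, and_self, and_true, false_and, and_false, true_and] <;> norm_num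
  simp only [e, Finset.sum_add_distrib, Finset.sum_const, smul_eq_mul, mul_one, ← Finset.card_filter]
  have hm1 : (-1 : F) * -1 = 1 := by ring
  have c1 := card_sd_le h2 d s hs
  have c2 := card_dvd_le h2 (one_mul (1 : F)) d s hs
  have c3 := card_dvd_le h2 hm1 d s hs
  have c4 : (s.filter fun P => X - C (1 : F) ∣ P ∧ X - C (-1 : F) ∣ P).card ≤
      if 2 ≤ d then sdNum (Fintype.card F) (d - 2) else 0 := by
    have hne : (1 : F) ≠ -1 := fun e => h2 (by linear_combination e)
    rw [← Finset.card_image_of_injOn (f := fun P => P /ₘ (X - C (1 : F))) (fun P hP Q hQ e => ?_)]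
    · rw [← Finset.filter_true_of_mem (s := Finset.image _ _) (p := fun P : F[X] => X - C (-1 : F) ∣ P) ?_]
      · refine (card_dvd_le h2 hm1 (d - 1) _ fun P hP => ?_).trans (le_of_eq ?_)
        · obtain ⟨Q, hQ, rfl⟩ := Finset.mem_image.1 hP
          obtain ⟨hQs, ⟨h, rfl⟩, -⟩ := Finset.mem_filter.1 hQ
          rw [mul_divByMonic_cancel_left _ (monic_X_sub_C 1)]
          refine ⟨(hs _ hQs).1.cancel (one_mul 1), ?_⟩
          have hd' := (hs _ hQs).2
          rw [natDegree_mul (monic_X_sub_C 1).ne_zero ((hs _ hQs).1.cancel (one_mul 1)).1.ne_zero, natDegree_X_sub_C] at hd'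
          omega
        · by_cases hd : 2 ≤ d
          · rw [if_pos hd, if_pos (by omega), show d - 1 - 1 = d - 2 by omega]
          · rw [if_neg hd, if_neg (by omega)]
      · intro P hP
        obtain ⟨Q, hQ, rfl⟩ := Finset.mem_image.1 hP
        obtain ⟨-, ⟨h, rfl⟩, hdvd⟩ := Finset.mem_filter.1 hQ
        rw [mul_divByMonic_cancel_left _ (monic_X_sub_C 1)]
        rw [dvd_iff_isRoot] at hdvd ⊢
        simp only [IsRoot.def, eval_mul, eval_sub, eval_X, eval_C, mul_eq_zero] at hdvd ⊢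
        exact hdvd.resolve_left fun e => hne (by linear_combination -e)
    · obtain ⟨-, ⟨a, rfl⟩, -⟩ := Finset.mem_filter.1 hP
      obtain ⟨-, ⟨b, rfl⟩, -⟩ := Finset.mem_filter.1 hQ
      simp only [mul_divByMonic_cancel_left _ (monic_X_sub_C (1 : F))] at e
      rw [e]
  rw [symNum]
  omega

end CfsgLib.CClassBound
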