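import Cfsg.Agent.Lib.KnownSimple.ClassicalClassBound.PolyCount

/-!
# The generating series of the tuples
-/

set_option autoImplicit false

namespace CfsgLib.CClassBound

open Finset

section Real

variable {q : ℕ} {x : ℝ}

theorem sdNum_even (q j : ℕ) : sdNum q (2 * j + 2) = q ^ (j + 1) + q ^ j := by
  rw [sdNum, if_neg (by omega), if_pos ⟨j + 1, by omega⟩, show (2 * j + 2) / 2 = j + 1 by omega, Nat.add_sub_cancel]

theorem sdNum_odd (q j : ℕ) : sdNum q (2 * j + 1) = 2 * q ^ j := by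
  rw [sdNum, if_neg (by omega), if_neg (Nat.not_even_iff_odd.2 ⟨j, rfl⟩), show (2 * j + 1) / 2 = j by omega]

theorem sum_sdNum_le (hx : 0 ≤ x) (hy : (q : ℝ) * x ^ 2 < 1) (M : ℕ) :
    ∑ d ∈ range M, (sdNum q d : ℝ) * x ^ d ≤ (1 + x) ^ 2 / (1 - (q : ℝ) * x ^ 2) := by
  obtain ⟨y, hydef⟩ : ∃ y, y = (q : ℝ) * x ^ 2 := ⟨_, rfl⟩
  rw [← hydef] at hy ⊢
  have hy0 : 0 ≤ y := by rw [hydef]; positivity
  have key : ∀ K, ∑ d ∈ range (2 * K + 1), (sdNum q d : ℝ) * x ^ d = (1 + x) ^ 2 * (∑ j ∈ range K, y ^ j) + y ^ K := by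
    intro K
    induction K with
    | zero => simp [sdNum]
    | succ K ih =>
      rw [show 2 * (K + 1) + 1 = 2 * K + 1 + 1 + 1 by omega, sum_range_succ, sum_range_succ, ih, sdNum_odd, sdNum_even,
        sum_range_succ _ K]
      push_cast
      rw [hydef]
      ring
  refine (sum_le_sum_of_subset_of_nonneg (range_mono (show M ≤ 2 * M + 1 by omega))
    (fun d _ _ => by positivity)).trans ?_
  rw [key M, le_div_iff₀ (by linarith), add_mul, mul_assoc, geom_sum_mul_neg]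
  nlinarith [pow_nonneg hy0 M, mul_nonneg (pow_nonneg hy0 M) (show 0 ≤ (1 + x) ^ 2 - (1 - y) by nlinarith)]

theorem sum_symNum_le (hx : 0 ≤ x) (hy : (q : ℝ) * x ^ 2 < 1) (M : ℕ) :
    ∑ d ∈ range M, (symNum q d : ℝ) * x ^ d ≤ (1 + x) ^ 4 / (1 - (q : ℝ) * x ^ 2) := by
  have h := sum_sdNum_le hx hy
  have hshift : ∀ (c M : ℕ), ∑ d ∈ range M, (if c ≤ d then (sdNum q (d - c) : ℝ) else 0) * x ^ d ≤
      x ^ c * ((1 + x) ^ 2 / (1 - (q : ℝ) * x ^ 2)) := by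
    intro c M
    refine (sum_le_sum_of_subset_of_nonneg (range_mono (show M ≤ c + M by omega))
      (fun d _ _ => mul_nonneg (by split_ifs <;> positivity) (by positivity))).trans ?_
    rw [sum_range_add, sum_eq_zero (fun d hd => by rw [if_neg (by rw [mem_range] at hd; omega), zero_mul]), zero_add,
      sum_congr rfl (g := fun e => x ^ c * ((sdNum q e : ℝ) * x ^ e)) (fun e _ => by
        rw [if_pos (by omega), Nat.add_sub_cancel_left, pow_add]; ring), ← mul_sum]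
    exact mul_le_mul_of_nonneg_left (h M) (by positivity)
  have e : ∀ d, (symNum q d : ℝ) * x ^ d = (sdNum q d : ℝ) * x ^ d +
      2 * ((if 1 ≤ d then (sdNum q (d - 1) : ℝ) else 0) * x ^ d) + (if 2 ≤ d then (sdNum q (d - 2) : ℝ) else 0) * x ^ d := fun d => by
    rw [symNum]
    push_cast [apply_ite (Nat.cast : ℕ → ℝ)]
    ring
  simp only [e, sum_add_distrib, ← mul_sum]
  refine (add_le_add (add_le_add (h M) (mul_le_mul_of_nonneg_left (hshift 1 M) zero_le_two)) (hshift 2 M)).trans (le_of_eq ?_)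
  ring

theorem sum_altNum_le (hx : 0 ≤ x) (hy : (q : ℝ) * x ^ 2 < 1) (M : ℕ) :
    ∑ d ∈ range M, (altNum q d : ℝ) * x ^ d ≤ 1 / (1 - (q : ℝ) * x ^ 2) := by
  obtain ⟨y, hydef⟩ : ∃ y, y = (q : ℝ) * x ^ 2 := ⟨_, rfl⟩
  rw [← hydef] at hy ⊢
  have hy0 : 0 ≤ y := by rw [hydef]; positivity
  have key : ∀ K, ∑ d ∈ range (2 * K + 1), (altNum q d : ℝ) * x ^ d = ∑ j ∈ range (K + 1), y ^ j := by
    intro K
    induction K with
    | zero => simp [altNum]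
    | succ K ih =>
      rw [show 2 * (K + 1) + 1 = 2 * K + 1 + 1 + 1 by omega, sum_range_succ, sum_range_succ, ih, altNum,
        if_neg (Nat.not_even_iff_odd.2 ⟨K, rfl⟩), altNum, if_pos ⟨K + 1, by omega⟩,
        show (2 * K + 1 + 1) / 2 = K + 1 by omega, sum_range_succ _ (K + 1)]
      push_cast
      rw [hydef]
      ring
  refine (sum_le_sum_of_subset_of_nonneg (range_mono (show M ≤ 2 * M + 1 by omega))
    (fun d _ _ => by positivity)).trans ?_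
  rw [key M, le_div_iff₀ (by linarith), geom_sum_mul_neg]
  linarith [pow_nonneg hy0 (M + 1)]

variable {r : ℝ} (hr0 : 0 ≤ r) (hqr : (q : ℝ) * r ^ 2 = 1) (hr : r ^ 2 ≤ 1 / 3)
include hr0 hqr hr

theorem coeff_sym_le (d : ℕ) : (symNum q d : ℝ) * r ^ d ≤ 28 / 9 := by
  have hone : ∀ j : ℕ, (q : ℝ) ^ j * r ^ (2 * j) = 1 := fun j => by rw [pow_mul, ← mul_pow, hqr, one_pow]
  have hr1 : r ≤ 29 / 50 := by nlinarith
  rcases d with _ | _ | d
  · norm_num [symNum, sdNum]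
  · norm_num [symNum, sdNum]
    linarith
  obtain ⟨j, rfl | rfl⟩ : ∃ j, d = 2 * j ∨ d = 2 * j + 1 := ⟨d / 2, by omega⟩
  · rcases j with _ | j
    · norm_num [symNum, sdNum, show Even 2 from ⟨1, rfl⟩]
      nlinarith
    · rw [symNum, if_pos (by omega), if_pos (by omega), show 2 * (j + 1) + 1 + 1 = 2 * (j + 1) + 2 by omega,
        show 2 * (j + 1) + 2 - 1 = 2 * (j + 1) + 1 by omega, show 2 * (j + 1) + 2 - 2 = 2 * j + 2 by omega,
        sdNum_even, sdNum_even, sdNum_odd]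
      push_cast
      have e : ((q : ℝ) ^ (j + 1 + 1) + (q : ℝ) ^ (j + 1) + 2 * (2 * (q : ℝ) ^ (j + 1)) + ((q : ℝ) ^ (j + 1) + (q : ℝ) ^ j)) *
          r ^ (2 * (j + 1) + 2) = 1 + r ^ 2 + 4 * r ^ 2 + r ^ 2 + r ^ 4 := by
        linear_combination hone (j + 2) + 6 * r ^ 2 * hone (j + 1) + r ^ 4 * hone j
      rw [e]
      nlinarith
  · rw [symNum, if_pos (by omega), if_pos (by omega), show 2 * j + 1 + 1 + 1 = 2 * (j + 1) + 1 by omega,
      show 2 * (j + 1) + 1 - 1 = 2 * j + 2 by omega, show 2 * (j + 1) + 1 - 2 = 2 * j + 1 by omega,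
      sdNum_even, sdNum_odd, sdNum_odd]
    push_cast
    have e : (2 * (q : ℝ) ^ (j + 1) + 2 * ((q : ℝ) ^ (j + 1) + (q : ℝ) ^ j) + 2 * (q : ℝ) ^ j) *
        r ^ (2 * (j + 1) + 1) = 4 * r + 4 * r ^ 3 := by
      linear_combination 4 * r * hone (j + 1) + 4 * r ^ 3 * hone j
    rw [e]
    nlinarith

omit hr hr0 in
theorem coeff_alt_le (d : ℕ) : (altNum q d : ℝ) * r ^ d ≤ 1 := by
  rw [altNum]
  split_ifs with h
  · obtain ⟨m, rfl⟩ := h
    rw [show (m + m) / 2 = m by omega, Nat.cast_pow, ← two_mul, pow_mul, ← mul_pow, hqr, one_pow]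
  · simp

omit hr hr0 in
theorem scaled_sq {e : ℕ} (he : 2 ≤ e) : (q : ℝ) * (r ^ e) ^ 2 = r ^ (2 * e - 2) := by
  rw [← pow_mul, show e * 2 = 2 + (2 * e - 2) by omega, pow_add, ← mul_assoc, hqr, one_mul]

omit hqr in
theorem pow_r_lt_one {j : ℕ} (hj : 1 ≤ j) : r ^ j < 1 :=
  pow_lt_one₀ hr0 (by nlinarith) (by omega)

end Real

/-- The factor of the part `e`. -/
noncomputable def efac (sym : Bool) (r : ℝ) (e : ℕ) : ℝ :=
  (bif sym then (1 + r ^ e) ^ 4 else 1) / (1 - r ^ (2 * e - 2))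

theorem efac_le {r ρ : ℝ} (hr : 0 ≤ r) (hρ : r ≤ ρ) (hρ1 : ρ < 1) (sym : Bool) {e : ℕ} (he : 2 ≤ e) :
    efac sym r e ≤ efac sym ρ e := by
  have : ρ ^ (2 * e - 2) < 1 := pow_lt_one₀ (hr.trans hρ) hρ1 (by omega)
  have : r ^ (2 * e - 2) ≤ ρ ^ (2 * e - 2) := pow_le_pow_left₀ hr hρ _
  have h0 : 0 ≤ ρ := hr.trans hρ
  cases sym <;> simp only [efac, cond_true, cond_false] <;> gcongr <;> linarith

theorem one_le_efac {r : ℝ} (hr : 0 ≤ r) (hr1 : r < 1) (sym : Bool) {e : ℕ} (he : 2 ≤ e) : 1 ≤ efac sym r e := by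
  have h1 : r ^ (2 * e - 2) < 1 := pow_lt_one₀ hr hr1 (by omega)
  have h0 : 0 ≤ r ^ (2 * e - 2) := by positivity
  rw [efac, le_div_iff₀ (by linarith), one_mul]
  cases sym
  · simp only [cond_false]; linarith
  · have := one_le_pow₀ (n := 4) (show (1 : ℝ) ≤ 1 + r ^ e by linarith [pow_nonneg hr e])
    simp only [cond_true]; linarith

theorem efac_tail {r : ℝ} (hr : 0 ≤ r) (hr1 : r < 1) (sym : Bool) {e : ℕ} (he : 2 ≤ e) :
    efac sym r e * (1 - 5 * r ^ e) ≤ 1 := by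
  have h1 : r ^ (2 * e - 2) < 1 := pow_lt_one₀ hr hr1 (by omega)
  have h2 : r ^ (2 * e - 2) ≤ r ^ e := pow_le_pow_of_le_one hr hr1.le (by omega)
  have h0 : 0 ≤ r ^ e := by positivity
  rw [efac, div_mul_eq_mul_div, div_le_one (by linarith)]
  cases sym
  · simp only [cond_false]; linarith
  · simp only [cond_true]
    have h4 : (1 + r ^ e) ^ 4 * (1 - 5 * r ^ e) ≤ 1 - r ^ e := by
      nlinarith [pow_nonneg h0 2, pow_nonneg h0 3, pow_nonneg h0 4, pow_nonneg h0 5]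
    linarith

/-- A product with a geometric tail. -/
theorem prod_tail_le {ρ : ℝ} (h0 : 0 ≤ ρ) (hρ1 : ρ < 1) (g : ℕ → ℝ) (hg1 : ∀ e, 2 ≤ e → 1 ≤ g e)
    (htl : ∀ e, 16 ≤ e → g e * (1 - 5 * ρ ^ e) ≤ 1) (M : ℕ) (ht : 5 * ρ ^ 16 / (1 - ρ) < 1) :
    ∏ e ∈ Icc 2 M, g e ≤ (∏ e ∈ Icc 2 15, g e) / (1 - 5 * ρ ^ 16 / (1 - ρ)) := by
  refine (prod_le_prod_of_subset_of_one_le (Icc_subset_Icc_right (show M ≤ 15 + M by omega))
    (fun e he => zero_le_one.trans (hg1 _ (mem_Icc.1 he).1)) fun e he _ => hg1 _ (mem_Icc.1 he).1).trans ?_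
  have htail : ∀ M : ℕ, 0 < 1 - 5 * ρ ^ 16 / (1 - ρ) * (1 - ρ ^ M) ∧
      (∏ e ∈ Icc 2 (15 + M), g e) * (1 - 5 * ρ ^ 16 / (1 - ρ) * (1 - ρ ^ M)) ≤
        ∏ e ∈ Icc 2 15, g e := by
    intro M
    obtain ⟨S, hS⟩ : ∃ S, S = 5 * ρ ^ 16 / (1 - ρ) := ⟨_, rfl⟩
    rw [← hS] at ht ⊢
    have hS0 : 0 ≤ S := hS ▸ div_nonneg (by positivity) (by linarith)
    induction M with
    | zero => norm_num
    | succ M ih =>
      have hb : ρ ^ (M + 1) ≤ 1 := pow_le_one₀ h0 hρ1.le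
      have hb0 : 0 ≤ ρ ^ (M + 1) := by positivity
      have ha0 : 0 ≤ ρ ^ M := by positivity
      have ha : ρ ^ M ≤ 1 := pow_le_one₀ h0 hρ1.le
      have hpos : 0 < 1 - S * (1 - ρ ^ (M + 1)) := by nlinarith [mul_nonneg hS0 hb0]
      refine ⟨hpos, ?_⟩
      rw [← Nat.add_assoc, prod_Icc_succ_top (show 2 ≤ 15 + M + 1 by omega)]
      have h5 : S * (1 - ρ ^ (M + 1)) = S * (1 - ρ ^ M) + 5 * ρ ^ (15 + M + 1) := by
        rw [hS, show 15 + M + 1 = 16 + M by omega, pow_add]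
        field_simp [show (1 : ℝ) - ρ ≠ 0 by linarith]
        ring
      have hf := htl (15 + M + 1) (by omega)
      have hf1 := hg1 (15 + M + 1) (by omega)
      have hP : 0 ≤ ∏ e ∈ Icc 2 (15 + M), g e :=
        prod_nonneg fun e he => zero_le_one.trans (hg1 _ (mem_Icc.1 he).1)
      refine le_trans ?_ ih.2
      rw [mul_assoc]
      refine mul_le_mul_of_nonneg_left ?_ hP
      rw [h5]
      nlinarith [mul_nonneg hS0 (sub_nonneg.2 ha),
        mul_nonneg (sub_nonneg.2 hf1) (mul_nonneg hS0 (sub_nonneg.2 ha))]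
  obtain ⟨h1, h2⟩ := htail M
  rw [le_div_iff₀ (by linarith)]
  refine le_trans (mul_le_mul_of_nonneg_left ?_
    (prod_nonneg fun e he => zero_le_one.trans (hg1 _ (mem_Icc.1 he).1))) h2
  nlinarith [pow_nonneg h0 M, div_nonneg (show 0 ≤ 5 * ρ ^ 16 by positivity) (show 0 ≤ 1 - ρ by linarith)]

/-- A partial Euler product is bounded by its first factors and a geometric tail. -/
theorem prod_efac_le {r ρ : ℝ} (hr : 0 ≤ r) (hρ : r ≤ ρ) (hρ1 : ρ < 1) (s : ℕ → Bool) (M : ℕ)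
    (ht : 5 * ρ ^ 16 / (1 - ρ) < 1) :
    ∏ e ∈ Icc 2 M, efac (s e) r e ≤ (∏ e ∈ Icc 2 15, efac (s e) ρ e) / (1 - 5 * ρ ^ 16 / (1 - ρ)) :=
  (prod_le_prod (fun e he => zero_le_one.trans (one_le_efac hr (hρ.trans_lt hρ1) _ (mem_Icc.1 he).1))
    fun e he => efac_le hr hρ hρ1 _ (mem_Icc.1 he).1).trans
    (prod_tail_le (hr.trans hρ) hρ1 _ (fun _ he => one_le_efac (hr.trans hρ) hρ1 _ he)
      (fun e he => efac_tail (hr.trans hρ) hρ1 _ (show 2 ≤ e by omega)) M ht)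

end CfsgLib.CClassBound
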