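import Cfsg.Agent.Lib.KnownSimple.ClassicalClassBound.Adjoint
import Cfsg.Agent.Lib.KnownSimple.ClassicalClassBound.Norm
import Cfsg.Agent.Lib.KnownSimple.ClassicalClassBound.Model

/-!
# The forms on the layers of an isometry
-/

set_option autoImplicit false

namespace CfsgLib.CClassBound

open Polynomial Matrix CfsgLib.Classical

universe u

variable {F : Type u} [Field F] [Fintype F] {n : ℕ} (D : FormData F n) {G : Matrix (Fin n) (Fin n) F} (M : BlockData G)

/-- The power of `G - r`. -/
noncomputable abbrev nilPow (G : Matrix (Fin n) (Fin n) F) (r : F) (k : ℕ) : Matrix (Fin n) (Fin n) F :=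
  aeval G ((X - C r) ^ k)

/-- The form on the layer of exponent `k + 1` induced by `S`. -/
noncomputable def top (S : Matrix (Fin n) (Fin n) F) (r : F) (k : ℕ) :
    Matrix (M.Idx (X - C r, k + 1)) (M.Idx (X - C r, k + 1)) F :=
  Matrix.of fun i j => bil D.B (nilPow G r k *ᵥ (S *ᵥ M.gen i.1)) (M.gen j.1)

theorem nilPow_add (r : F) (a b : ℕ) : nilPow G r (a + b) = nilPow G r a * nilPow G r b := by
  rw [nilPow, pow_add, map_mul]

theorem nilPow_one (r : F) : nilPow G r 1 = G - algebraMap F _ r := by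
  rw [nilPow, pow_one, map_sub, aeval_X, aeval_C]

theorem commute_aeval {a : Matrix (Fin n) (Fin n) F} (ha : a * G = G * a) (p : F[X]) :
    a * aeval G p = aeval G p * a :=
  InvolNorm.commute_gen ha ⟨p, rfl⟩

theorem commute_star (hG : D.star G * G = 1) {a : Matrix (Fin n) (Fin n) F} (ha : a * G = G * a) :
    a * D.star G = D.star G * a := by
  have hG' : G * D.star G = 1 := mul_eq_one_comm.1 hG
  calc a * D.star G = D.star G * G * a * D.star G := by rw [hG, one_mul]
    _ = D.star G * a * (G * D.star G) := by rw [mul_assoc (D.star G) G a, ← ha]; simp only [mul_assoc]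
    _ = D.star G * a := by rw [hG', mul_one]

variable {r : F} (hG : D.star G * G = 1) (hr : r * r = 1)
include hG hr

theorem star_nilPow (k : ℕ) :
    D.star (nilPow G r k) = (algebraMap F _ (-r) * D.star G) ^ k * nilPow G r k := by
  induction k with
  | zero => rw [nilPow, pow_zero, map_one, D.star_one, pow_zero, one_mul]
  | succ k ih =>
    have hU : ∀ j, Commute ((algebraMap F (Matrix (Fin n) (Fin n) F) (-r) * D.star G) ^ j) (nilPow G r 1) := fun j => by
      refine Commute.pow_left ?_ j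
      refine Commute.mul_left (Algebra.commutes _ _) ?_
      rw [nilPow_one]
      exact (show Commute (D.star G) G from hG.trans (mul_eq_one_comm.1 hG).symm).sub_right (Algebra.commutes _ _).symm
    have h1 : D.star (nilPow G r 1) = algebraMap F _ (-r) * D.star G * nilPow G r 1 := by
      rw [nilPow_one, D.star_sub, D.star_scal, mul_sub, mul_assoc _ (D.star G) G, hG, mul_one, mul_assoc _ (D.star G),
        ← Algebra.commutes r (D.star G), ← mul_assoc, ← map_mul, neg_mul, hr, map_neg, map_neg, map_one, neg_mul, one_mul]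
      abel
    rw [nilPow_add, D.star_mul, ih, h1, pow_succ']
    calc algebraMap F _ (-r) * D.star G * nilPow G r 1 * ((algebraMap F _ (-r) * D.star G) ^ k * nilPow G r k)
        = algebraMap F _ (-r) * D.star G * (nilPow G r 1 * (algebraMap F _ (-r) * D.star G) ^ k) * nilPow G r k := by
          simp only [mul_assoc]
      _ = _ := by
          rw [← (hU k).eq, ← nilPow_add, show k + 1 = 1 + k by omega, nilPow_add]
          simp only [mul_assoc]

theorem bil_nilPow (k : ℕ) (x y : Fin n → F) :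
    bil D.B (nilPow G r k *ᵥ x) y =
      bil D.B x ((algebraMap F _ (-r) * D.star G) ^ k *ᵥ (nilPow G r k *ᵥ y)) := by
  rw [D.bil_star, star_nilPow D hG hr, mulVec_mulVec]

theorem nilPow_twist (k j : ℕ) {x : Fin n → F} (hx : nilPow G r (k + 1) *ᵥ x = 0) :
    nilPow G r k *ᵥ ((algebraMap F _ (-r) * D.star G) ^ j *ᵥ x) = (-1 : F) ^ j • (nilPow G r k *ᵥ x) := by
  set U : Matrix (Fin n) (Fin n) F := algebraMap F _ (-r) * D.star G with hU
  have hcomm : ∀ p, U * aeval G p = aeval G p * U := fun p => by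
    refine commute_aeval ?_ p
    rw [hU, mul_assoc, hG, ← mul_assoc, ← Algebra.commutes, mul_assoc, mul_eq_one_comm.1 hG]
  have hstep : nilPow G r k * U = D.star G * nilPow G r (k + 1) - nilPow G r k := by
    rw [nilPow_add, nilPow_one, mul_sub, mul_sub, ← mul_assoc (D.star G), ← mul_assoc (D.star G),
      mul_assoc (D.star G) (nilPow G r k) G, ← commute_aeval (show G * G = G * G from rfl), ← mul_assoc (D.star G), hG,
      one_mul, sub_sub_cancel_left, hU, map_neg, neg_mul, mul_neg, ← mul_assoc (nilPow G r k), ← Algebra.commutes r,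
      ← Algebra.commutes r, mul_assoc, commute_aeval (show D.star G * G = G * D.star G from hG.trans (mul_eq_one_comm.1 hG).symm)]
  induction j with
  | zero => rw [pow_zero, one_mulVec, pow_zero, one_smul]
  | succ j ih =>
    rw [pow_succ', ← mulVec_mulVec, mulVec_mulVec, hstep, Matrix.sub_mulVec, ← mulVec_mulVec, ih]
    have h0 : nilPow G r (k + 1) *ᵥ (U ^ j *ᵥ x) = 0 := by
      rw [mulVec_mulVec, (Commute.pow_right (show Commute (nilPow G r (k + 1)) U from (hcomm _).symm) j).eq,
        ← mulVec_mulVec, hx, mulVec_zero]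
    rw [h0, mulVec_zero, zero_sub, pow_succ', neg_one_mul, neg_smul]

theorem twist_mulVec_comm {S : Matrix (Fin n) (Fin n) F} (hS : S * G = G * S) (k : ℕ) :
    S * (algebraMap F _ (-r) * D.star G) ^ k = (algebraMap F _ (-r) * D.star G) ^ k * S := by
  refine (Commute.pow_right ?_ k).eq
  exact (Algebra.commutes _ _).symm.trans rfl |> fun h => Commute.mul_right h (commute_star D hG hS)

omit hG hr in
theorem gen_layer {k : ℕ} (l : M.Idx (X - C r, k + 1)) : nilPow G r (k + 1) *ᵥ M.gen l.1 = 0 := by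
  have := M.gen_mem_ker l.1
  rwa [l.2] at this

theorem top_symm {S : Matrix (Fin n) (Fin n) F} (hS : S * G = G * S) (hSs : D.star S = S) (k : ℕ) :
    (top D M S r k)ᵀ = (D.ε * (-1) ^ k) • top D M S r k := by
  ext i j
  rw [transpose_apply, Matrix.smul_apply, top, of_apply, of_apply, smul_eq_mul, bil_nilPow D hG hr, D.bil_star, hSs,
    mulVec_mulVec, twist_mulVec_comm D hG hr hS, ← mulVec_mulVec, mulVec_mulVec _ S,
    commute_aeval hS, ← mulVec_mulVec]
  have hcomm : Commute (nilPow G r k) ((algebraMap F _ (-r) * D.star G) ^ k) := by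
    refine Commute.pow_right ?_ k
    refine Commute.mul_right (Algebra.commutes _ _).symm ?_
    exact (commute_aeval (show D.star G * G = G * D.star G from hG.trans (mul_eq_one_comm.1 hG).symm) _).symm
  rw [mulVec_mulVec _ _ (nilPow G r k), ← hcomm.eq, ← mulVec_mulVec, nilPow_twist D hG hr k k]
  · have e : ∀ (c : F) (u v : Fin n → F), bil D.B u (c • v) = c * bil D.B u v := fun c u v => by
      simp only [bil, mulVec_smul, dotProduct_smul, smul_eq_mul]
    rw [e, D.bil_comm]
    ring
  · rw [mulVec_mulVec, ← commute_aeval hS, ← mulVec_mulVec, gen_layer M i, mulVec_zero]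

omit hG hr in
theorem bil_add_right (u v w : Fin n → F) : bil D.B u (v + w) = bil D.B u v + bil D.B u w := by
  simp only [bil, mulVec_add, dotProduct_add]

omit hG hr in
theorem bil_sum_right {α : Type*} (s : Finset α) (u : Fin n → F) (c : α → F) (v : α → Fin n → F) :
    bil D.B u (∑ a ∈ s, c a • v a) = ∑ a ∈ s, c a * bil D.B u (v a) := by
  simp only [bil, mulVec_sum, dotProduct_sum, mulVec_smul, dotProduct_smul, smul_eq_mul]

omit hG hr in
theorem bil_sum_left {α : Type*} (s : Finset α) (u : Fin n → F) (c : α → F) (v : α → Fin n → F) :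
    bil D.B (∑ a ∈ s, c a • v a) u = ∑ a ∈ s, c a * bil D.B (v a) u := by
  simp only [bil, sum_dotProduct, smul_dotProduct, smul_eq_mul]

include M in
/-- A vector of the layer orthogonal to the generators lies in the other layers. -/
theorem mem_layer (k : ℕ) {x : Fin n → F} (hx : nilPow G r (k + 1) *ᵥ x = 0)
    (h : ∀ j : M.Idx (X - C r, k + 1), bil D.B (nilPow G r k *ᵥ x) (M.gen j.1) = 0) :
    ∃ w₁ w₂, nilPow G r k *ᵥ w₁ = 0 ∧ nilPow G r (k + 2) *ᵥ w₂ = 0 ∧ x = w₁ + nilPow G r 1 *ᵥ w₂ := by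
  have hperp : ∀ v, nilPow G r (k + 1) *ᵥ v = 0 → bil D.B (nilPow G r k *ᵥ x) v = 0 := by
    intro v hv
    obtain ⟨c, w₁, w₂, h1, h2, rfl⟩ := M.exists_span r k hv
    rw [bil_add_right, bil_add_right, bil_sum_right, Finset.sum_eq_zero (fun j _ => by rw [h j, mul_zero]), zero_add]
    have e1 : bil D.B (nilPow G r k *ᵥ x) w₁ = 0 := by
      rw [bil_nilPow D hG hr, show nilPow G r k *ᵥ w₁ = 0 from h1, mulVec_zero]
      simp [bil]
    have e2 : bil D.B (nilPow G r k *ᵥ x) (aeval G (X - C r) *ᵥ w₂) = 0 := by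
      rw [show aeval G (X - C r) = nilPow G r 1 by rw [nilPow, pow_one]]
      conv_lhs => rw [← D.star_star (nilPow G r 1)]
      rw [← D.bil_star, star_nilPow D hG hr, ← mulVec_mulVec, mulVec_mulVec _ (nilPow G r 1) (nilPow G r k),
        ← nilPow_add, show 1 + k = k + 1 by omega, hx, mulVec_zero]
      simp [bil]
    rw [e1, e2, add_zero]
  obtain ⟨w, hw⟩ := D.mem_range_star hperp
  rw [star_nilPow D hG hr] at hw
  have hcomm : Commute ((algebraMap F (Matrix (Fin n) (Fin n) F) (-r) * D.star G) ^ (k + 1)) (nilPow G r (k + 1)) := by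
    refine Commute.pow_left ?_ _
    refine Commute.mul_left (Algebra.commutes _ _) ?_
    exact commute_aeval (show D.star G * G = G * D.star G from hG.trans (mul_eq_one_comm.1 hG).symm) _
  rw [hcomm.eq, ← mulVec_mulVec] at hw
  obtain ⟨w', hw'⟩ : ∃ w', w' = (algebraMap F (Matrix (Fin n) (Fin n) F) (-r) * D.star G) ^ (k + 1) *ᵥ w := ⟨_, rfl⟩
  rw [← hw'] at hw
  refine ⟨x - nilPow G r 1 *ᵥ w', w', ?_, ?_, (sub_add_cancel _ _).symm⟩
  · rw [mulVec_sub, mulVec_mulVec, ← nilPow_add, hw, sub_self]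
  · rw [show k + 2 = 1 + (k + 1) by omega, nilPow_add, ← mulVec_mulVec, hw, mulVec_mulVec, ← nilPow_add,
      show 1 + k = k + 1 by omega, hx]

theorem top_det_ne_zero {S : Matrix (Fin n) (Fin n) F} (hS : S * G = G * S) (hu : IsUnit S) (k : ℕ) :
    IsUnit (top D M S r k) := by
  classical
  refine Matrix.vecMul_injective_iff_isUnit.1 fun c c' hcc => ?_
  by_contra hne
  obtain ⟨d, hd⟩ : ∃ d, d = c - c' := ⟨_, rfl⟩
  have hd0 : d ᵥ* top D M S r k = 0 := by rw [hd, sub_vecMul, show c ᵥ* top D M S r k = c' ᵥ* top D M S r k from hcc, sub_self]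
  obtain ⟨Su, rfl⟩ := hu
  have hx : nilPow G r (k + 1) *ᵥ ((Su : Matrix (Fin n) (Fin n) F) *ᵥ ∑ i, d i • M.gen i.1) = 0 := by
    rw [mulVec_mulVec, ← commute_aeval hS, ← mulVec_mulVec, mulVec_sum]
    simp only [mulVec_smul, gen_layer M, smul_zero, Finset.sum_const_zero, mulVec_zero]
  obtain ⟨w₁, w₂, h1, h2, hw⟩ := mem_layer D M hG hr k hx (fun j => by
    rw [mulVec_mulVec, mulVec_sum]
    simp only [mulVec_smul]
    rw [bil_sum_left]
    have := congrFun hd0 j
    simpa only [vecMul, dotProduct, top, of_apply, mulVec_mulVec, Pi.zero_apply] using this)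
  have hSi : ((Su⁻¹ : (Matrix (Fin n) (Fin n) F)ˣ) : Matrix (Fin n) (Fin n) F) * G = G * (Su⁻¹ : (Matrix (Fin n) (Fin n) F)ˣ) :=
    (Commute.units_inv_left (show Commute (Su : Matrix (Fin n) (Fin n) F) G from hS)).eq
  have hzero := M.gen_indep r k d (w₁ := (Su⁻¹ : (Matrix (Fin n) (Fin n) F)ˣ).1 *ᵥ w₁)
    (w₂ := (Su⁻¹ : (Matrix (Fin n) (Fin n) F)ˣ).1 *ᵥ w₂) ?_ ?_ ?_
  · exact hne (sub_eq_zero.1 (hd.symm.trans hzero))
  · rw [mulVec_mulVec, ← commute_aeval hSi, ← mulVec_mulVec, show nilPow G r k *ᵥ w₁ = 0 from h1, mulVec_zero]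
  · rw [mulVec_mulVec, ← commute_aeval hSi, ← mulVec_mulVec, show nilPow G r (k + 2) *ᵥ w₂ = 0 from h2, mulVec_zero]
  · rw [mulVec_mulVec, ← commute_aeval hSi, ← mulVec_mulVec, show aeval G (X - C r) = nilPow G r 1 by rw [nilPow, pow_one],
      ← mulVec_add, ← hw, mulVec_mulVec, Units.inv_mul, one_mulVec]

omit hG hr in
theorem top_congr {S a : Matrix (Fin n) (Fin n) F} (hG : D.star G * G = 1) (k : ℕ) (ha : a * G = G * a)
    (Q : Matrix (M.Idx (X - C r, k + 1)) (M.Idx (X - C r, k + 1)) F)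
    (hQ : ∀ i : M.Idx (X - C r, k + 1), a *ᵥ M.gen i.1 = ∑ l : M.Idx (X - C r, k + 1), Q l i • M.gen l.1) :
    top D M (D.star a * S * a) r k = Qᵀ * top D M S r k * Q := by
  classical
  have hsa : D.star a * G = G * D.star a := by
    have h1 := congrArg D.star (commute_star D hG ha)
    rw [D.star_mul, D.star_mul, D.star_star] at h1
    exact h1.symm
  ext i j
  rw [top, of_apply, mul_assoc (D.star a), ← mulVec_mulVec _ (D.star a), mulVec_mulVec _ (nilPow G r k) (D.star a),
    ← commute_aeval hsa, ← mulVec_mulVec, D.bil_star, D.star_star, hQ j, bil_sum_right, ← mulVec_mulVec, hQ i]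
  simp only [mulVec_sum, mulVec_smul, bil_sum_left, Matrix.mul_apply, transpose_apply, top, of_apply, Finset.sum_mul,
    Finset.mul_sum]
  exact Finset.sum_congr rfl fun l _ => Finset.sum_congr rfl fun m _ => by ring

end CfsgLib.CClassBound
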